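/-
Suzuki groups: the field endomorphism, the Suzuki-Tits form `zf`, and the unipotent, torus and
Weyl elements in `SL₄(F)`.
-/
import Cfsg.Prelude.Def_LieExceptional
import Mathlib

set_option autoImplicit false

namespace CfsgLib.Suzuki

open Matrix

/-- The standing hypothesis: `F` is finite with `2 ^ (2m+1)` elements, `m ≥ 1`. -/
structure IsSzField (F : Type*) [Field F] (m : ℕ) : Prop where
  pos : 1 ≤ m
  card : Nat.card F = 2 ^ (2 * m + 1)

variable {F : Type*} [Field F] {m : ℕ}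

theorem isSzField_of_card [Fintype F] (hm : 1 ≤ m) (hF : Fintype.card F = 2 ^ (2 * m + 1)) :
    IsSzField F m := ⟨hm, by rw [Nat.card_eq_fintype_card, hF]⟩

namespace IsSzField

variable (h : IsSzField F m)
include h

theorem finite : Finite F := Nat.finite_of_card_ne_zero (by rw [h.card]; positivity)

theorem charP : CharP F 2 := by
  have := h.finite
  let : Fintype F := Fintype.ofFinite F
  refine (CharP.charP_iff_prime_eq_zero Nat.prime_two).2 ?_
  have hc := Nat.cast_card_eq_zero F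
  rw [← Nat.card_eq_fintype_card, h.card, Nat.cast_pow] at hc
  exact (pow_eq_zero_iff (by omega)).1 hc

theorem two_eq_zero : (2 : F) = 0 := by
  have := h.charP
  exact CharTwo.two_eq_zero

theorem four_le : 4 ≤ 2 ^ (m + 1) := by
  simpa using Nat.pow_le_pow_right (by norm_num : 0 < 2) (show 2 ≤ m + 1 by have := h.pos; omega)

theorem sigma_add_two_lt : 2 ^ (m + 1) + 2 < 2 ^ (2 * m + 1) := by
  have h1 := h.four_le
  have h2 : 2 ^ (2 * m + 1) = 2 ^ (m + 1) * 2 ^ m := by rw [← pow_add]; ring_nf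
  have h3 : 2 ≤ 2 ^ m := by
    simpa using Nat.pow_le_pow_right (by norm_num : 0 < 2) h.pos
  rw [h2]
  calc 2 ^ (m + 1) + 2 < 2 ^ (m + 1) * 2 := by omega
    _ ≤ 2 ^ (m + 1) * 2 ^ m := Nat.mul_le_mul_left _ h3

end IsSzField

/-- The twisting exponent `σ`, as a function. -/
def sg (m : ℕ) (x : F) : F := x ^ (2 ^ (m + 1))

theorem sg_def (m : ℕ) (x : F) : sg m x = x ^ (2 ^ (m + 1)) := rfl

@[simp] theorem sg_zero : sg m (0 : F) = 0 := by simp [sg]

@[simp] theorem sg_one : sg m (1 : F) = 1 := by simp [sg]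

theorem sg_mul (x y : F) : sg m (x * y) = sg m x * sg m y := mul_pow x y _

theorem sg_inv (x : F) : sg m x⁻¹ = (sg m x)⁻¹ := inv_pow x _

theorem sg_pow (x : F) (k : ℕ) : sg m (x ^ k) = sg m x ^ k := by
  simp only [sg, ← pow_mul, Nat.mul_comm]

theorem sg_ne_zero {x : F} (hx : x ≠ 0) : sg m x ≠ 0 := pow_ne_zero _ hx

theorem sg_eq_zero {x : F} : sg m x = 0 ↔ x = 0 := pow_eq_zero_iff (by positivity)

namespace IsSzField

variable (h : IsSzField F m)
include h

theorem sg_add (x y : F) : sg m (x + y) = sg m x + sg m y := by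
  have := h.charP
  have : Fact (Nat.Prime 2) := ⟨Nat.prime_two⟩
  exact add_pow_char_pow x y 2 (m + 1)

theorem sg_sg (x : F) : sg m (sg m x) = x ^ 2 := by
  have := h.finite
  let : Fintype F := Fintype.ofFinite F
  have hc : Fintype.card F = 2 ^ (2 * m + 1) := by rw [← Nat.card_eq_fintype_card, h.card]
  simp only [sg, ← pow_mul, ← pow_add, show m + 1 + (m + 1) = 2 * m + 1 + 1 by omega]
  rw [pow_succ, ← hc, pow_mul, FiniteField.pow_card]

theorem sg_injective : Function.Injective (sg m : F → F) := fun x y hxy => by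
  have := h.charP
  have h2 := h.sg_sg x
  rw [hxy, h.sg_sg y] at h2
  exact CharTwo.sq_inj.1 h2.symm

theorem sg_bijective : Function.Bijective (sg m : F → F) := by
  have := h.finite
  exact ⟨h.sg_injective, Finite.injective_iff_surjective.mp h.sg_injective⟩

theorem corner_ne_zero (c : F) : sg m c + c + 1 ≠ 0 := by
  intro hc
  have h1 : sg m c = c + 1 := by linear_combination hc - (c + 1) * h.two_eq_zero
  have h2 := h.sg_sg c
  rw [h1, h.sg_add, sg_one, h1] at h2
  have h3 : c * (c - 1) = 0 := by linear_combination -h2 + h.two_eq_zero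
  rcases mul_eq_zero.1 h3 with h4 | h4
  · subst h4; simp at h1
  · obtain rfl : c = 1 := by linear_combination h4
    have h5 : (1 : F) = 0 := by
      rw [sg_one] at h1
      linear_combination -h1
    exact one_ne_zero h5

end IsSzField

/-- The Suzuki-Tits function `x y + x^(σ+2) + y^σ`. -/
def zf (m : ℕ) (x y : F) : F := x * y + sg m x * x ^ 2 + sg m y

theorem zf_eq (x y : F) : zf m x y = x * y + x ^ (2 ^ (m + 1) + 2) + y ^ (2 ^ (m + 1)) := by
  rw [zf, pow_add]; rfl

@[simp] theorem zf_zero : zf m (0 : F) 0 = 0 := by simp [zf]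

namespace IsSzField

variable (h : IsSzField F m)
include h

theorem sg_zf (x y : F) :
    sg m (zf m x y) = sg m x * sg m y + x ^ 2 * sg m x ^ 2 + y ^ 2 := by
  rw [zf, h.sg_add, h.sg_add, sg_mul, sg_mul, h.sg_sg, sg_pow, h.sg_sg]

theorem zf_add (a b x y : F) :
    zf m (x + a) (y + sg m a * x + b) =
      zf m x y + a * y + (b + a * sg m a) * x + zf m a b := by
  rw [zf, zf, zf, h.sg_add, h.sg_add, h.sg_add, sg_mul, h.sg_sg]
  linear_combination (sg m x * a ^ 2 + sg m a * x ^ 2 + (sg m x + sg m a) * x * a) * h.two_eq_zero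

theorem zf_ne_zero {x y : F} (hxy : x ≠ 0 ∨ y ≠ 0) : zf m x y ≠ 0 := by
  intro hz
  by_cases hx : x = 0
  · subst hx
    simp [zf, sg_eq_zero] at hz
    simp [hz] at hxy
  · -- scale `x` to `1`
    obtain ⟨c, rfl⟩ : ∃ c, y = sg m x * x * c :=
      ⟨y / (sg m x * x), by
        field_simp [sg_ne_zero (m := m) hx, hx]⟩
    apply h.corner_ne_zero c
    rw [zf, sg_mul, sg_mul, h.sg_sg] at hz
    have : sg m x * x ^ 2 * (sg m c + c + 1) = 0 := by linear_combination hz
    exact (mul_eq_zero.1 this).resolve_left (mul_ne_zero (sg_ne_zero hx) (pow_ne_zero _ hx))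

/-- The Weyl element acts on the parameters by `(x,y) ↦ (y/z, x/z)`. -/
theorem zf_swap {x y : F} (hz : zf m x y ≠ 0) :
    zf m (y / zf m x y) (x / zf m x y) = (zf m x y)⁻¹ := by
  have hs : sg m (zf m x y) ≠ 0 := sg_ne_zero hz
  rw [zf.eq_1 m (y / zf m x y)]
  simp only [div_eq_mul_inv, sg_mul, sg_inv]
  field_simp
  rw [h.sg_zf]
  simp only [zf]
  linear_combination (x ^ 3 * y * sg m x ^ 2 + x * y * sg m x * sg m y) * h.two_eq_zero

end IsSzField

/-- `U(a,b)`. -/
def Umat (m : ℕ) (a b : F) : Matrix (Fin 4) (Fin 4) F :=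
  !![1, a, b + a * sg m a, zf m a b; 0, 1, sg m a, b; 0, 0, 1, a; 0, 0, 0, 1]

/-- `D(t)`. -/
def Dmat (m : ℕ) (t : F) : Matrix (Fin 4) (Fin 4) F :=
  !![sg m t * t, 0, 0, 0; 0, t, 0, 0; 0, 0, t⁻¹, 0; 0, 0, 0, (sg m t * t)⁻¹]

/-- The Weyl element's matrix. -/
def Wmat (F : Type*) [Field F] : Matrix (Fin 4) (Fin 4) F :=
  !![0, 0, 0, 1; 0, 0, 1, 0; 0, 1, 0, 0; 1, 0, 0, 0]

theorem det_Umat (a b : F) : (Umat m a b).det = 1 := by
  rw [Matrix.det_of_isUpperTriangular]
  · simp [Umat, Fin.prod_univ_four]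
  · intro i j hij
    fin_cases i <;> fin_cases j <;> simp [Umat] at hij ⊢

theorem det_Dmat {t : F} (ht : t ≠ 0) : (Dmat m t).det = 1 := by
  have := sg_ne_zero (m := m) ht
  rw [Matrix.det_of_isUpperTriangular]
  · simp [Dmat, Fin.prod_univ_four]
    field_simp
  · intro i j hij
    fin_cases i <;> fin_cases j <;> simp [Dmat] at hij ⊢

theorem det_Wmat : (Wmat F).det = 1 := by
  simp [Wmat, Matrix.det_succ_row_zero, Fin.sum_univ_succ, Fin.succAbove]
  norm_num

/-- `U(a,b)` in `SL₄`. -/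
def U (m : ℕ) (a b : F) : SpecialLinearGroup (Fin 4) F := ⟨Umat m a b, det_Umat a b⟩

/-- `D(t)` in `SL₄`, for a unit `t`. -/
def D (m : ℕ) (t : Fˣ) : SpecialLinearGroup (Fin 4) F := ⟨Dmat m (t : F), det_Dmat t.ne_zero⟩

/-- The Weyl element in `SL₄`. -/
def W (F : Type*) [Field F] : SpecialLinearGroup (Fin 4) F := ⟨Wmat F, det_Wmat⟩

@[simp] theorem U_val (a b : F) : (U m a b).val = Umat m a b := rfl
@[simp] theorem D_val (t : Fˣ) : (D m t).val = Dmat m (t : F) := rfl
@[simp] theorem W_val : (W F).val = Wmat F := rfl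

theorem smul_eq_mulVec (g : SpecialLinearGroup (Fin 4) F) (v : Fin 4 → F) : g • v = g.val *ᵥ v := rfl

theorem Umat_mulVec (a b : F) (v : Fin 4 → F) : Umat m a b *ᵥ v =
    ![v 0 + a * v 1 + (b + a * sg m a) * v 2 + zf m a b * v 3,
      v 1 + sg m a * v 2 + b * v 3, v 2 + a * v 3, v 3] := by
  funext i
  fin_cases i <;> simp [Umat, mulVec, dotProduct, Fin.sum_univ_four]

theorem Dmat_mulVec (t : F) (v : Fin 4 → F) : Dmat m t *ᵥ v =
    ![sg m t * t * v 0, t * v 1, t⁻¹ * v 2, (sg m t * t)⁻¹ * v 3] := by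
  funext i
  fin_cases i <;> simp [Dmat, mulVec, dotProduct, Fin.sum_univ_four]

theorem Wmat_mulVec (v : Fin 4 → F) : Wmat F *ᵥ v = ![v 3, v 2, v 1, v 0] := by
  funext i
  fin_cases i <;> simp [Wmat, mulVec, dotProduct, Fin.sum_univ_four]

theorem IsSzField.U_mul (h : IsSzField F m) (a b c d : F) :
    U m a b * U m c d = U m (a + c) (b + d + sg m a * c) := by
  apply Subtype.ext
  show Umat m a b * Umat m c d = Umat m (a + c) (b + d + sg m a * c)
  ext i j
  fin_cases i <;> fin_cases j <;> simp [Umat, Matrix.mul_apply, Fin.sum_univ_four]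
  all_goals (try simp only [h.sg_add]) <;> try ring
  · linear_combination (-(a * sg m a)) * (0 : F) - (sg m a * c) * h.two_eq_zero
  · have := h.zf_add a b c d
    rw [add_comm a c, show d + b + sg m a * c = d + sg m a * c + b by ring]
    linear_combination -this

theorem U_zero : U m (0 : F) 0 = 1 := by
  apply Subtype.ext
  ext i j
  fin_cases i <;> fin_cases j <;> simp [Umat]

theorem D_mul (s t : Fˣ) : D m s * D m t = D m (s * t) := by
  apply Subtype.ext
  show Dmat m (s : F) * Dmat m (t : F) = Dmat m ((s * t : Fˣ) : F)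
  ext i j
  fin_cases i <;> fin_cases j <;>
    simp [Dmat, Matrix.mul_apply, Fin.sum_univ_four, sg_mul, mul_inv] <;> ring

theorem D_one : D m (1 : Fˣ) = 1 := by
  apply Subtype.ext
  ext i j
  fin_cases i <;> fin_cases j <;> simp [Dmat]

theorem W_mul_W : W F * W F = 1 := by
  apply Subtype.ext
  show Wmat F * Wmat F = 1
  ext i j
  fin_cases i <;> fin_cases j <;> simp [Wmat, Matrix.mul_apply, Fin.sum_univ_four]

theorem W_mul_D (t : Fˣ) : W F * D m t = D m t⁻¹ * W F := by
  apply Subtype.ext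
  show Wmat F * Dmat m (t : F) = Dmat m ((t⁻¹ : Fˣ) : F) * Wmat F
  ext i j
  fin_cases i <;> fin_cases j <;>
    simp [Wmat, Dmat, Matrix.mul_apply, Fin.sum_univ_four, sg_inv, mul_comm]

theorem D_mul_U (t : Fˣ) (a b : F) (h : IsSzField F m) :
    D m t * U m a b = U m (sg m (t : F) * a) (sg m (t : F) * (t : F) ^ 2 * b) * D m t := by
  have ht := t.ne_zero
  have hs := sg_ne_zero (m := m) ht
  apply Subtype.ext
  show Dmat m (t : F) * Umat m a b = Umat m _ _ * Dmat m (t : F)
  ext i j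
  fin_cases i <;> fin_cases j <;>
    simp [Dmat, Umat, zf, Matrix.mul_apply, Fin.sum_univ_four, sg_mul, h.sg_sg, sg_pow] <;>
    (try field_simp) <;> (try ring)

theorem U_injective {a b c d : F} (h : U m a b = U m c d) : a = c ∧ b = d := by
  have h' := congrArg Subtype.val h
  refine ⟨?_, ?_⟩
  · simpa [Umat] using congrFun (congrFun h' 2) 3
  · simpa [Umat] using congrFun (congrFun h' 1) 3

theorem D_injective {s t : Fˣ} (h : D m s = D m t) : s = t := by
  have h' := congrArg Subtype.val h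
  exact Units.ext (by simpa [Dmat] using congrFun (congrFun h' 1) 1)

end CfsgLib.Suzuki
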