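/-
The Suzuki group as stabiliser of the Suzuki-Tits ovoid: action of the standard elements, the
two-point stabiliser, transitivity, the point stabiliser and the order.
-/
import Cfsg.Agent.Suzuki.Basic

set_option autoImplicit false

namespace CfsgLib.Suzuki

open Matrix Polynomial
open scoped Pointwise

variable {F : Type*} [Field F] {m : ℕ}

local notation "SL4" => SpecialLinearGroup (Fin 4) F
local notation "PP" => Projectivization F (Fin 4 → F)

/-- The point at infinity. -/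
abbrev inf (F : Type*) [Field F] : Projectivization F (Fin 4 → F) := Cfsg.suzukiPointInfinity F

/-- The affine vector with parameters `x`, `y`. -/
def vec (m : ℕ) (x y : F) : Fin 4 → F := ![zf m x y, y, x, 1]

theorem vec_ne_zero (x y : F) : vec m x y ≠ 0 := fun h => by
  simpa [vec] using congrFun h 3

/-- The affine ovoid point with parameters `x`, `y`. -/
def pt (m : ℕ) (x y : F) : Projectivization F (Fin 4 → F) :=
  Projectivization.mk F (vec m x y) (vec_ne_zero x y)

theorem mk_eq_pt {v : Fin 4 → F} (hv : v ≠ 0) {x y : F} {c : F} (hc : c • vec m x y = v) :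
    Projectivization.mk F v hv = pt m x y :=
  (Projectivization.mk_eq_mk_iff' F _ _ hv (vec_ne_zero x y)).2 ⟨c, hc⟩

theorem mk_eq_inf {v : Fin 4 → F} (hv : v ≠ 0) (h1 : v 1 = 0) (h2 : v 2 = 0) (h3 : v 3 = 0) :
    Projectivization.mk F v hv = inf F := by
  refine (Projectivization.mk_eq_mk_iff' F _ _ _ _).2 ⟨v 0, ?_⟩
  funext i
  fin_cases i <;> simp [h1, h2, h3]

theorem pt_ne_inf (x y : F) : pt m x y ≠ inf F := by
  intro h
  obtain ⟨c, hc⟩ := (Projectivization.mk_eq_mk_iff' F _ _ _ _).1 h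
  simpa [vec] using congrFun hc 3

theorem pt_eq_iff {x y x' y' : F} : pt m x y = pt m x' y' ↔ x = x' ∧ y = y' := by
  refine ⟨fun h => ?_, fun h => by rw [h.1, h.2]⟩
  obtain ⟨c, hc⟩ := (Projectivization.mk_eq_mk_iff' F _ _ _ _).1 h
  have hc1 : c = 1 := by simpa [vec] using congrFun hc 3
  subst hc1
  rw [one_smul] at hc
  exact ⟨(by simpa [vec] using (congrFun hc 2).symm), (by simpa [vec] using (congrFun hc 1).symm)⟩

theorem pointZero_eq : Cfsg.suzukiPointZero F = pt m (0 : F) 0 := by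
  unfold Cfsg.suzukiPointZero
  refine mk_eq_pt _ (c := 1) ?_
  simp [vec]

theorem mem_ovoid {p : PP} :
    p ∈ Cfsg.suzukiOvoid F m ↔ p = inf F ∨ ∃ x y, p = pt m x y := by
  constructor
  · rintro ⟨v, hv, rfl, rfl | ⟨x, y, rfl⟩⟩
    · exact Or.inl rfl
    · exact Or.inr ⟨x, y, mk_eq_pt hv (c := 1) (by rw [one_smul, vec, zf_eq])⟩
  · rintro (rfl | ⟨x, y, rfl⟩)
    · exact ⟨![1, 0, 0, 0], by simp, rfl, Or.inl rfl⟩
    · exact ⟨vec m x y, vec_ne_zero x y, rfl, Or.inr ⟨x, y, by rw [vec, zf_eq]⟩⟩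

theorem inf_mem : inf F ∈ Cfsg.suzukiOvoid F m := mem_ovoid.2 (Or.inl rfl)

theorem pt_mem (x y : F) : pt m x y ∈ Cfsg.suzukiOvoid F m := mem_ovoid.2 (Or.inr ⟨x, y, rfl⟩)

/-- Parametrisation of the ovoid. -/
noncomputable def ovoidEquiv (F : Type*) [Field F] (m : ℕ) :
    Option (F × F) ≃ Cfsg.suzukiOvoid F m :=
  Equiv.ofBijective
    (fun o => match o with
      | none => ⟨inf F, inf_mem⟩
      | some q => ⟨pt m q.1 q.2, pt_mem q.1 q.2⟩)
    ⟨by
      rintro (_ | ⟨a, b⟩) (_ | ⟨c, d⟩) h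
      · rfl
      · exact absurd (congrArg Subtype.val h).symm (pt_ne_inf c d)
      · exact absurd (congrArg Subtype.val h) (pt_ne_inf a b)
      · obtain ⟨h1, h2⟩ := pt_eq_iff.1 (congrArg Subtype.val h)
        simp only at h1 h2
        subst h1; subst h2; rfl,
    by
      rintro ⟨p, hp⟩
      rcases mem_ovoid.1 hp with rfl | ⟨x, y, rfl⟩
      · exact ⟨none, rfl⟩
      · exact ⟨some (x, y), rfl⟩⟩

theorem card_ovoid (F : Type*) [Field F] [Finite F] (m : ℕ) :
    Nat.card (Cfsg.suzukiOvoid F m) = Nat.card F ^ 2 + 1 := by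
  rw [← Nat.card_congr (ovoidEquiv F m), Finite.card_option, Nat.card_prod, pow_two]

/-! ### The action of the standard elements -/

theorem U_smul_inf (a b : F) : U m a b • inf F = inf F := by
  unfold inf Cfsg.suzukiPointInfinity
  rw [Projectivization.smul_mk]
  apply mk_eq_inf <;> simp [smul_eq_mulVec, Umat_mulVec]

theorem D_smul_inf (t : Fˣ) : D m t • inf F = inf F := by
  unfold inf Cfsg.suzukiPointInfinity
  rw [Projectivization.smul_mk]
  apply mk_eq_inf <;> simp [smul_eq_mulVec, Dmat_mulVec]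

theorem W_smul_inf : W F • inf F = pt m (0 : F) 0 := by
  unfold inf Cfsg.suzukiPointInfinity
  rw [Projectivization.smul_mk]
  refine mk_eq_pt _ (c := 1) ?_
  funext i
  fin_cases i <;> simp [smul_eq_mulVec, Wmat_mulVec, vec]

theorem W_smul_pt_zero : W F • pt m (0 : F) 0 = inf F := by
  rw [pt, Projectivization.smul_mk]
  apply mk_eq_inf <;> simp [smul_eq_mulVec, Wmat_mulVec, vec]

variable (h : IsSzField F m)
include h

theorem U_smul_pt (a b x y : F) : U m a b • pt m x y = pt m (x + a) (y + sg m a * x + b) := by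
  rw [pt, Projectivization.smul_mk]
  refine mk_eq_pt _ (c := 1) ?_
  funext i
  fin_cases i <;> simp [smul_eq_mulVec, Umat_mulVec, vec, h.zf_add]

theorem D_smul_pt (t : Fˣ) (x y : F) :
    D m t • pt m x y = pt m (sg m (t : F) * x) (sg m (t : F) * (t : F) ^ 2 * y) := by
  have ht := t.ne_zero
  have hs := sg_ne_zero (m := m) ht
  rw [pt, Projectivization.smul_mk]
  refine mk_eq_pt _ (c := (sg m (t : F) * t)⁻¹) ?_
  funext i
  fin_cases i <;> simp [smul_eq_mulVec, Dmat_mulVec, vec, zf, sg_mul, h.sg_sg, sg_pow] <;>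
    field_simp

theorem W_smul_pt {x y : F} (hxy : x ≠ 0 ∨ y ≠ 0) :
    W F • pt m x y = pt m (y / zf m x y) (x / zf m x y) := by
  have hz := h.zf_ne_zero hxy
  rw [pt, Projectivization.smul_mk]
  refine mk_eq_pt _ (c := zf m x y) ?_
  funext i
  fin_cases i <;> simp [smul_eq_mulVec, Wmat_mulVec, vec, h.zf_swap hz] <;> field_simp

theorem ovoid_finite : (Cfsg.suzukiOvoid F m).Finite := by
  have := h.finite
  exact Set.finite_coe_iff.1 (Finite.of_equiv _ (ovoidEquiv F m))

/-- Mapping the ovoid into itself suffices. -/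
theorem mem_Sz_of_maps {g : SL4}
    (hg : ∀ p ∈ Cfsg.suzukiOvoid F m, g • p ∈ Cfsg.suzukiOvoid F m) : g ∈ Cfsg.Sz F m := by
  rw [MulAction.mem_stabilizer_iff]
  refine Set.eq_of_subset_of_ncard_le ?_ ?_ (ovoid_finite h)
  · rintro _ ⟨p, hp, rfl⟩; exact hg p hp
  · exact (Set.ncard_image_of_injective _ (MulAction.injective g)).ge

theorem U_mem (a b : F) : U m a b ∈ Cfsg.Sz F m := by
  apply mem_Sz_of_maps h
  intro p hp
  rcases mem_ovoid.1 hp with rfl | ⟨x, y, rfl⟩
  · rw [U_smul_inf]; exact inf_mem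
  · rw [U_smul_pt h]; exact pt_mem _ _

theorem D_mem (t : Fˣ) : D m t ∈ Cfsg.Sz F m := by
  apply mem_Sz_of_maps h
  intro p hp
  rcases mem_ovoid.1 hp with rfl | ⟨x, y, rfl⟩
  · rw [D_smul_inf]; exact inf_mem
  · rw [D_smul_pt h]; exact pt_mem _ _

theorem W_mem : W F ∈ Cfsg.Sz F m := by
  apply mem_Sz_of_maps h
  intro p hp
  rcases mem_ovoid.1 hp with rfl | ⟨x, y, rfl⟩
  · rw [W_smul_inf (m := m)]; exact pt_mem _ _
  · by_cases hxy : x = 0 ∧ y = 0
    · rw [hxy.1, hxy.2, W_smul_pt_zero]; exact inf_mem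
    · rw [W_smul_pt h (by tauto)]; exact pt_mem _ _

omit h in
theorem smul_mem_ovoid {g : SL4} (hg : g ∈ Cfsg.Sz F m) {p : PP}
    (hp : p ∈ Cfsg.suzukiOvoid F m) : g • p ∈ Cfsg.suzukiOvoid F m :=
  (MulAction.mem_stabilizer_set.1 hg p).2 hp

/-! ### The stabiliser of two points -/

theorem poly3 {a b c : F} (hp : ∀ x : F, a * x ^ 2 + b * sg m x + c * (sg m x * x ^ 2) = 0) :
    a = 0 ∧ b = 0 ∧ c = 0 := by
  have := h.finite
  let : Fintype F := Fintype.ofFinite F
  have h4 := h.four_le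
  set e := 2 ^ (m + 1) with he
  let P : F[X] := Polynomial.C a * X ^ 2 + Polynomial.C b * X ^ e + Polynomial.C c * X ^ (e + 2)
  have hdeg : P.natDegree ≤ e + 2 := by
    refine le_trans (natDegree_add_le _ _) (max_le (le_trans (natDegree_add_le _ _) (max_le ?_ ?_)) ?_)
      <;> refine le_trans (natDegree_C_mul_X_pow_le _ _) ?_ <;> omega
  have hP : P = 0 := by
    refine Polynomial.eq_zero_of_natDegree_lt_card_of_eval_eq_zero' P Finset.univ (fun x _ => ?_) ?_
    · have := hp x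
      simp only [P, eval_add, eval_mul, eval_pow, eval_X, eval_C]
      rw [pow_add]
      simp only [sg, ← he] at this
      linear_combination this
    · rw [Finset.card_univ, ← Nat.card_eq_fintype_card, h.card]
      exact lt_of_le_of_lt hdeg h.sigma_add_two_lt
  refine ⟨?_, ?_, ?_⟩
  · have := congrArg (fun p => p.coeff 2) hP
    simpa [P, coeff_X_pow, coeff_C, show ¬ 2 = e by omega, show e ≠ 0 by omega] using this
  · have := congrArg (fun p => p.coeff e) hP
    simpa [P, coeff_X_pow, show ¬ e = 2 by omega] using this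
  · have := congrArg (fun p => p.coeff (e + 2)) hP
    simpa [P, coeff_X_pow, coeff_C, show e ≠ 0 by omega] using this

omit h in
theorem col_zero_of_fix_inf {g : SL4} (hg : g • inf F = inf F) :
    g.val 1 0 = 0 ∧ g.val 2 0 = 0 ∧ g.val 3 0 = 0 := by
  unfold inf Cfsg.suzukiPointInfinity at hg
  rw [Projectivization.smul_mk] at hg
  obtain ⟨c, hc⟩ := (Projectivization.mk_eq_mk_iff' F _ _ _ _).1 hg
  refine ⟨?_, ?_, ?_⟩
  · simpa [smul_eq_mulVec, mulVec, dotProduct, Fin.sum_univ_four] using (congrFun hc 1).symm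
  · simpa [smul_eq_mulVec, mulVec, dotProduct, Fin.sum_univ_four] using (congrFun hc 2).symm
  · simpa [smul_eq_mulVec, mulVec, dotProduct, Fin.sum_univ_four] using (congrFun hc 3).symm

omit h in
theorem col_three_of_fix_zero {g : SL4} (hg : g • pt m (0 : F) 0 = pt m 0 0) :
    g.val 0 3 = 0 ∧ g.val 1 3 = 0 ∧ g.val 2 3 = 0 ∧ g.val 3 3 ≠ 0 := by
  rw [pt, Projectivization.smul_mk] at hg
  obtain ⟨c, hc⟩ := (Projectivization.mk_eq_mk_iff' F _ _ _ _).1 hg
  have h0 := congrFun hc 0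
  have h1 := congrFun hc 1
  have h2 := congrFun hc 2
  have h3 := congrFun hc 3
  simp [smul_eq_mulVec, vec, mulVec, dotProduct, Fin.sum_univ_four] at h0 h1 h2 h3
  refine ⟨h0.symm, h1.symm, h2.symm, fun e => ?_⟩
  have hne : g • vec m (0 : F) 0 ≠ 0 := (smul_ne_zero_iff_ne g).2 (vec_ne_zero 0 0)
  apply hne
  funext i
  fin_cases i <;> simp [smul_eq_mulVec, vec, mulVec, dotProduct, Fin.sum_univ_four,
    h0.symm, h1.symm, h2.symm, e]

omit h in
/-- The tangent plane at infinity is preserved by the stabiliser of infinity. -/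
theorem tangent {g : SL4} (hg : g ∈ Cfsg.Sz F m) (hi : g • inf F = inf F) {v : Fin 4 → F}
    (hv : v 3 = 0) : (g • v) 3 = 0 := by
  by_contra hne
  set u := g • v with hu
  set x := u 2 / u 3
  set y := u 1 / u 3
  have hP : g⁻¹ • pt m x y ∈ Cfsg.suzukiOvoid F m :=
    smul_mem_ovoid ((Cfsg.Sz F m).inv_mem hg) (pt_mem x y)
  have hP' : g⁻¹ • pt m x y ≠ inf F := fun e => pt_ne_inf x y (by
    rw [inv_smul_eq_iff] at e
    rw [e, hi])
  obtain ⟨x', y', hxy⟩ := (mem_ovoid.1 hP).resolve_left hP'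
  rw [pt, pt, Projectivization.smul_mk] at hxy
  obtain ⟨c, hc⟩ := (Projectivization.mk_eq_mk_iff' F _ _ _ _).1 hxy
  have hcne : c ≠ 0 := fun e => by
    rw [e, zero_smul] at hc
    exact (smul_ne_zero_iff_ne g⁻¹).2 (vec_ne_zero x y) hc.symm
  -- `vec x y = (u 3)⁻¹ • u + k • e₁`
  set k := zf m x y - (u 3)⁻¹ * u 0
  have hvec : vec m x y = (u 3)⁻¹ • u + k • ![1, 0, 0, 0] := by
    funext i
    fin_cases i <;> simp [vec, k, x, y] <;> field_simp
  have hg1 : (g⁻¹ • ![(1 : F), 0, 0, 0]) 3 = 0 := by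
    have hinv : g⁻¹ • inf F = inf F := by rw [inv_smul_eq_iff, hi]
    have := (col_zero_of_fix_inf hinv).2.2
    simpa [smul_eq_mulVec, mulVec, dotProduct, Fin.sum_univ_four] using this
  have h3 := congrFun hc 3
  rw [hvec, smul_add, smul_comm g⁻¹ (u 3)⁻¹ u, smul_comm g⁻¹ k, hu, inv_smul_smul] at h3
  simp only [Pi.add_apply, Pi.smul_apply, hv, hg1, vec, smul_eq_mul, mul_zero, add_zero] at h3
  simp at h3
  exact hcne h3

theorem twoPointStab {g : SL4} (hg : g ∈ Cfsg.Sz F m) (hi : g • inf F = inf F)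
    (h0 : g • pt m (0 : F) 0 = pt m 0 0) : ∃ t : Fˣ, g = D m t := by
  obtain ⟨g10, g20, g30⟩ := col_zero_of_fix_inf hi
  obtain ⟨g03, g13, g23, g33⟩ := col_three_of_fix_zero h0
  have g31 : g.val 3 1 = 0 := by
    have := tangent hg hi (v := ![0, 1, 0, 0]) (by simp)
    simpa [smul_eq_mulVec, mulVec, dotProduct, Fin.sum_univ_four] using this
  have g32 : g.val 3 2 = 0 := by
    have := tangent hg hi (v := ![0, 0, 1, 0]) (by simp)
    simpa [smul_eq_mulVec, mulVec, dotProduct, Fin.sum_univ_four] using this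
  set g' := W F * g * W F with hg'
  have hg'm : g' ∈ Cfsg.Sz F m :=
    (Cfsg.Sz F m).mul_mem ((Cfsg.Sz F m).mul_mem (W_mem h) hg) (W_mem h)
  have hi' : g' • inf F = inf F := by
    rw [hg', mul_smul, mul_smul, W_smul_inf (m := m), h0, W_smul_pt_zero]
  have val' : ∀ v : Fin 4 → F, (g' • v) 3 =
      (g.val *ᵥ ![v 3, v 2, v 1, v 0]) 0 := by
    intro v
    rw [hg', mul_smul, mul_smul, smul_eq_mulVec, smul_eq_mulVec, smul_eq_mulVec, W_val,
      Wmat_mulVec, Wmat_mulVec]
    simp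
  have g02 : g.val 0 2 = 0 := by
    have := tangent hg'm hi' (v := ![0, 1, 0, 0]) (by simp)
    rw [val'] at this
    simpa [mulVec, dotProduct, Fin.sum_univ_four] using this
  have g01 : g.val 0 1 = 0 := by
    have := tangent hg'm hi' (v := ![0, 0, 1, 0]) (by simp)
    rw [val'] at this
    simpa [mulVec, dotProduct, Fin.sum_univ_four] using this
  set δ := g.val 3 3 with hδ
  set A := g.val 2 2 / δ with hA
  set B := g.val 2 1 / δ with hB
  set C := g.val 1 2 / δ with hC
  set E := g.val 1 1 / δ with hE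
  set L := g.val 0 0 / δ with hL
  have key : ∀ x y : F, L * zf m x y = zf m (B * y + A * x) (E * y + C * x) := by
    intro x y
    have hne : g • pt m x y ≠ inf F := fun e => pt_ne_inf x y (by
      rw [← smul_left_cancel_iff g, e, hi])
    obtain ⟨x', y', hxy⟩ := (mem_ovoid.1 (smul_mem_ovoid hg (pt_mem x y))).resolve_left hne
    rw [pt, pt, Projectivization.smul_mk] at hxy
    obtain ⟨c, hc⟩ := (Projectivization.mk_eq_mk_iff' F _ _ _ _).1 hxy
    have e0 := congrFun hc 0
    have e1 := congrFun hc 1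
    have e2 := congrFun hc 2
    have e3 := congrFun hc 3
    simp [smul_eq_mulVec, mulVec, dotProduct, Fin.sum_univ_four, vec, g10, g20, g30, g31, g32,
      g01, g02, g03, g13, g23, ← hδ] at e0 e1 e2 e3
    subst e3
    have ex : x' = B * y + A * x := by
      rw [hA, hB]; field_simp; linear_combination e2
    have ey : y' = E * y + C * x := by
      rw [hC, hE]; field_simp; linear_combination e1
    rw [← ex, ← ey, hL]
    field_simp
    linear_combination -e0
  have two := h.two_eq_zero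
  -- `x = 0`
  obtain ⟨-, hLE, hB0⟩ := poly3 h (a := B * E) (b := sg m E - L) (c := sg m B * B ^ 2) (fun y => by
    have := key 0 y
    simp [zf, sg_mul, mul_pow] at this
    linear_combination -this)
  -- `y = 0`
  obtain ⟨-, hC0, hAL⟩ := poly3 h (a := A * C) (b := sg m C) (c := sg m A * A ^ 2 - L) (fun x => by
    have := key x 0
    simp [zf, sg_mul, mul_pow] at this
    linear_combination -this)
  obtain rfl0 : B = 0 := by
    rcases mul_eq_zero.1 hB0 with e | e
    · exact sg_eq_zero.1 e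
    · exact pow_eq_zero_iff (by norm_num) |>.1 e
  rw [sg_eq_zero] at hC0
  rw [sub_eq_zero] at hLE hAL
  have hAE : A * E = L := by
    have := key 1 1
    simp [zf, rfl0, hC0, sg_mul, hLE, hAL] at this
    linear_combination -this
  have hgA : g.val 2 2 = δ * A := by rw [hA]; field_simp
  have hgE : g.val 1 1 = δ * E := by rw [hE]; field_simp
  have hgL : g.val 0 0 = δ * L := by rw [hL]; field_simp
  have hgC : g.val 1 2 = 0 := by
    have : g.val 1 2 = δ * C := by rw [hC]; field_simp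
    rw [this, hC0, mul_zero]
  have hgB : g.val 2 1 = 0 := by
    have : g.val 2 1 = δ * B := by rw [hB]; field_simp
    rw [this, rfl0, mul_zero]
  have hdiag : g.val = Matrix.diagonal ![δ * L, δ * E, δ * A, δ] := by
    ext i j
    fin_cases i <;> fin_cases j <;>
      simp [g10, g20, g30, g31, g32, g01, g02, g03, g13, g23, hgB, hgC, hgA, hgE, hgL, ← hδ]
  have hdet : δ * L * (δ * E) * (δ * A) * δ = 1 := by
    have h1 : g.val.det = 1 := g.property
    rw [hdiag, Matrix.det_diagonal, Fin.prod_univ_four] at h1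
    simpa using h1
  have hA0 : A ≠ 0 := fun e => by simp [e] at hdet
  have hE' : E = sg m A * A := by
    have : A * E = A * (sg m A * A) := by rw [hAE, ← hAL]; ring
    exact mul_left_cancel₀ hA0 this
  have := h.charP
  have hs : δ ^ 2 * (sg m A * A ^ 2) = 1 := by
    apply CharTwo.sq_inj.1
    rw [one_pow, ← hdet, hE', ← hAL]
    ring
  have hs2 : sg m δ * (A * sg m A) = 1 := by
    have := congrArg (sg m) hs
    rw [sg_one, sg_mul, sg_mul, sg_pow, sg_pow, h.sg_sg] at this
    apply CharTwo.sq_inj.1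
    rw [one_pow]
    linear_combination this
  have ht0 : δ * E ≠ 0 := mul_ne_zero g33 (by rw [hE']; exact mul_ne_zero (sg_ne_zero hA0) hA0)
  refine ⟨Units.mk0 _ ht0, ?_⟩
  have hst : sg m (δ * E) = A := by
    rw [hE', sg_mul, sg_mul, h.sg_sg]
    linear_combination A * hs2
  clear_value A E L δ
  have e2 : δ * A = (δ * E)⁻¹ := eq_inv_of_mul_eq_one_left (by rw [hE']; linear_combination hs)
  have e3 : δ = (sg m (δ * E) * (δ * E))⁻¹ :=
    eq_inv_of_mul_eq_one_left (by rw [hst, hE']; linear_combination hs)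
  have e0 : δ * L = sg m (δ * E) * (δ * E) := by rw [hst, ← hAE]; ring
  apply Subtype.ext
  show g.val = Dmat m (δ * E)
  rw [hdiag, e0, e2]
  conv_lhs => arg 1; rw [show (![sg m (δ * E) * (δ * E), δ * E, (δ * E)⁻¹, δ] : Fin 4 → F) =
    ![sg m (δ * E) * (δ * E), δ * E, (δ * E)⁻¹, (sg m (δ * E) * (δ * E))⁻¹] by rw [← e3]]
  ext i j
  fin_cases i <;> fin_cases j <;> simp [Dmat]

/-! ### Point stabiliser, transitivity, order -/

theorem exists_U_of_fix_inf {g : SL4} (hg : g ∈ Cfsg.Sz F m) (hi : g • inf F = inf F) :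
    ∃ a b t, g = U m a b * D m t := by
  have hne : g • pt m (0 : F) 0 ≠ inf F := fun e => pt_ne_inf (0 : F) 0 (by
    rw [← smul_left_cancel_iff g, e, hi])
  obtain ⟨a, b, hab⟩ := (mem_ovoid.1 (smul_mem_ovoid hg (pt_mem 0 0))).resolve_left hne
  obtain ⟨t, ht⟩ := twoPointStab h (g := (U m a b)⁻¹ * g)
    ((Cfsg.Sz F m).mul_mem ((Cfsg.Sz F m).inv_mem (U_mem h a b)) hg)
    (by rw [mul_smul, hi, inv_smul_eq_iff, U_smul_inf])
    (by rw [mul_smul, hab, inv_smul_eq_iff, U_smul_pt h]; simp)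
  exact ⟨a, b, t, by rw [← ht, mul_inv_cancel_left]⟩

/-- The elements carrying infinity to a prescribed point of the ovoid. -/
theorem exists_move {p : PP} (hp : p ∈ Cfsg.suzukiOvoid F m) :
    ∃ g ∈ Cfsg.Sz F m, g • inf F = p := by
  rcases mem_ovoid.1 hp with rfl | ⟨x, y, rfl⟩
  · exact ⟨1, (Cfsg.Sz F m).one_mem, one_smul _ _⟩
  · refine ⟨U m x y * W F, (Cfsg.Sz F m).mul_mem (U_mem h x y) (W_mem h), ?_⟩
    rw [mul_smul, W_smul_inf (m := m), U_smul_pt h]
    simp

theorem card_stab_inf :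
    Nat.card (MulAction.stabilizer (Cfsg.Sz F m) (inf F)) = Nat.card F ^ 2 * (Nat.card F - 1) := by
  have := h.finite
  have e : Nat.card ((F × F) × Fˣ) = Nat.card (MulAction.stabilizer (Cfsg.Sz F m) (inf F)) := by
    apply Nat.card_congr
    refine Equiv.ofBijective (fun q => ⟨⟨U m q.1.1 q.1.2 * D m q.2,
      (Cfsg.Sz F m).mul_mem (U_mem h _ _) (D_mem h _)⟩, ?_⟩) ⟨?_, ?_⟩
    · show (U m q.1.1 q.1.2 * D m q.2) • inf F = inf F
      rw [mul_smul, D_smul_inf, U_smul_inf]
    · rintro ⟨⟨a, b⟩, t⟩ ⟨⟨c, d⟩, s⟩ e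
      have e' : U m a b * D m t = U m c d * D m s := congrArg (fun q => q.1.1) e
      have h2 := congrArg (fun g => g • pt m (0 : F) 0) e'
      simp only [mul_smul, D_smul_pt h, U_smul_pt h, mul_zero, zero_add, pt_eq_iff] at h2
      obtain ⟨rfl, rfl⟩ := h2
      rw [D_injective (mul_left_cancel e')]
    · rintro ⟨⟨g, hg⟩, hgi⟩
      obtain ⟨a, b, t, rfl⟩ := exists_U_of_fix_inf h hg hgi
      exact ⟨((a, b), t), rfl⟩
  rw [← e, Nat.card_prod, Nat.card_prod, Nat.card_units, pow_two]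

theorem orbit_inf : MulAction.orbit (Cfsg.Sz F m) (inf F) = Cfsg.suzukiOvoid F m := by
  ext p
  constructor
  · rintro ⟨g, rfl⟩
    exact smul_mem_ovoid g.2 inf_mem
  · intro hp
    obtain ⟨g, hg, rfl⟩ := exists_move h hp
    exact ⟨⟨g, hg⟩, rfl⟩

theorem card_Sz :
    Nat.card (Cfsg.Sz F m) = Nat.card F ^ 2 * (Nat.card F ^ 2 + 1) * (Nat.card F - 1) := by
  have := h.finite
  rw [← Subgroup.card_mul_index (MulAction.stabilizer (Cfsg.Sz F m) (inf F)), card_stab_inf h,
    MulAction.index_stabilizer, orbit_inf h, ← Nat.card_coe_set_eq, card_ovoid]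
  ring

end CfsgLib.Suzuki
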