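/-
The Suzuki group (ovoid model): subgroups `U`, torus, the point stabiliser, double transitivity,
no element fixing three points, perfectness and simplicity.
-/
import Cfsg.Agent.Suzuki.Ovoid

set_option autoImplicit false

namespace CfsgLib.Suzuki

open Matrix
open scoped Pointwise commutatorElement

variable {F : Type*} [Field F] {m : ℕ}

local notation "PP" => Projectivization F (Fin 4 → F)
/-- The Suzuki group as a type. -/
abbrev SzG (F : Type*) [Field F] (m : ℕ) : Type _ := ↥(Cfsg.Sz F m)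

local notation "G" => SzG F m

theorem smul_sub_def (g : G) (p : PP) : g • p = g.1 • p := rfl

/-- The unipotent subgroup of the Suzuki group. -/
def unip (h : IsSzField F m) : Subgroup G where
  carrier := {g | ∃ a b, g.1 = U m a b}
  mul_mem' := by
    rintro x y ⟨a, b, hx⟩ ⟨c, d, hy⟩
    exact ⟨_, _, by rw [Subgroup.coe_mul, hx, hy, h.U_mul]⟩
  one_mem' := ⟨0, 0, by rw [U_zero]; rfl⟩
  inv_mem' := by
    rintro x ⟨a, b, hx⟩
    refine ⟨a, b + sg m a * a, ?_⟩
    rw [Subgroup.coe_inv, hx]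
    refine inv_eq_of_mul_eq_one_right ?_
    rw [h.U_mul]
    convert U_zero (m := m) (F := F) using 2
    · linear_combination a * h.two_eq_zero
    · linear_combination (b + sg m a * a) * h.two_eq_zero

/-- `U(a,b)` as an element of the group. -/
def uE (h : IsSzField F m) (a b : F) : G := ⟨U m a b, U_mem h a b⟩

/-- The Weyl element as an element of the group. -/
def wE (h : IsSzField F m) : G := ⟨W F, W_mem h⟩

/-- The torus homomorphism. -/
def dE (h : IsSzField F m) : Fˣ →* G where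
  toFun t := ⟨D m t, D_mem h t⟩
  map_one' := Subtype.ext D_one
  map_mul' s t := Subtype.ext (D_mul s t).symm

variable (h : IsSzField F m)

@[simp] theorem uE_val (a b : F) : (uE h a b).1 = U m a b := rfl
@[simp] theorem wE_val : (wE h).1 = W F := rfl
@[simp] theorem dE_val (t : Fˣ) : (dE h t).1 = D m t := rfl

theorem uE_mem (a b : F) : uE h a b ∈ unip h := ⟨a, b, rfl⟩

theorem dE_injective : Function.Injective (dE h) :=
  fun _ _ e => D_injective (congrArg Subtype.val e)

theorem card_unip : Nat.card (unip h) = Nat.card F ^ 2 := by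
  have e : Nat.card (F × F) = Nat.card (unip h) := by
    refine Nat.card_congr (Equiv.ofBijective (fun q => ⟨uE h q.1 q.2, uE_mem h _ _⟩) ⟨?_, ?_⟩)
    · rintro ⟨a, b⟩ ⟨c, d⟩ e
      obtain ⟨rfl, rfl⟩ := U_injective (congrArg (fun g : unip h => g.1.1) e)
      rfl
    · rintro ⟨g, a, b, hg⟩
      exact ⟨(a, b), Subtype.ext (Subtype.ext hg.symm)⟩
  rw [← e, Nat.card_prod, pow_two]

include h in
theorem finite_SL : Finite (SpecialLinearGroup (Fin 4) F) := by
  have := h.finite
  infer_instance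

theorem mem_stab_inf {g : G} :
    g ∈ MulAction.stabilizer G (inf F) ↔ ∃ a b t, g = uE h a b * dE h t := by
  constructor
  · intro hg
    obtain ⟨a, b, t, e⟩ := exists_U_of_fix_inf h g.2 hg
    exact ⟨a, b, t, Subtype.ext e⟩
  · rintro ⟨a, b, t, rfl⟩
    show (U m a b * D m t) • inf F = inf F
    rw [mul_smul, D_smul_inf, U_smul_inf]

theorem unip_le_stab : unip h ≤ MulAction.stabilizer G (inf F) := by
  rintro g ⟨a, b, hg⟩
  show g.1 • inf F = inf F
  rw [hg, U_smul_inf]

theorem dE_mul_uE (t : Fˣ) (a b : F) :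
    dE h t * uE h a b = uE h (sg m (t : F) * a) (sg m (t : F) * (t : F) ^ 2 * b) * dE h t :=
  Subtype.ext (D_mul_U t a b h)

theorem uE_mul (a b c d : F) : uE h a b * uE h c d = uE h (a + c) (b + d + sg m a * c) :=
  Subtype.ext (h.U_mul a b c d)

theorem uE_zero : uE h 0 0 = 1 := Subtype.ext U_zero

theorem wE_mul_dE (t : Fˣ) : wE h * dE h t = dE h t⁻¹ * wE h := Subtype.ext (W_mul_D t)

theorem wE_mul_wE : wE h * wE h = 1 := Subtype.ext W_mul_W

include h in
theorem exists_pair {p q : PP} (hp : p ∈ Cfsg.suzukiOvoid F m) (hq : q ∈ Cfsg.suzukiOvoid F m)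
    (hpq : p ≠ q) : ∃ g : G, g • inf F = p ∧ g • pt m (0 : F) 0 = q := by
  obtain ⟨g, hg, hgp⟩ := exists_move h hp
  have hne : g⁻¹ • q ≠ inf F := fun e => hpq (by rw [← hgp, ← e, smul_inv_smul])
  obtain ⟨x, y, hxy⟩ :=
    (mem_ovoid.1 (smul_mem_ovoid ((Cfsg.Sz F m).inv_mem hg) hq)).resolve_left hne
  refine ⟨⟨g, hg⟩ * uE h x y, ?_, ?_⟩
  · show (g * U m x y) • inf F = p
    rw [mul_smul, U_smul_inf, hgp]
  · show (g * U m x y) • pt m (0 : F) 0 = q
    rw [mul_smul, U_smul_pt h]
    simp [← hxy]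

include h in
theorem D_fix_pt {t : Fˣ} {x y : F} (hxy : x ≠ 0 ∨ y ≠ 0) (e : D m t • pt m x y = pt m x y) :
    t = 1 := by
  rw [D_smul_pt h, pt_eq_iff] at e
  have := h.charP
  rcases hxy with hx | hy
  · have h1 : sg m (t : F) = 1 := (mul_eq_right₀ hx).1 e.1
    apply Units.ext
    exact h.sg_injective (by rw [h1, Units.val_one, sg_one])
  · have h1 : sg m (t : F) * (t : F) ^ 2 = 1 := (mul_eq_right₀ hy).1 e.2
    have h2 := congrArg (sg m) h1
    rw [sg_mul, sg_pow, h.sg_sg, sg_one] at h2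
    have h3 : (t : F) * sg m (t : F) = 1 := CharTwo.sq_inj.1 (by rw [one_pow]; linear_combination h2)
    apply Units.ext
    rw [Units.val_one]
    linear_combination h1 - (t : F) * h3

include h in
theorem eq_one_of_fix_three {g : G} {p q r : PP} (hp : p ∈ Cfsg.suzukiOvoid F m)
    (hq : q ∈ Cfsg.suzukiOvoid F m) (hr : r ∈ Cfsg.suzukiOvoid F m)
    (hpq : p ≠ q) (hpr : p ≠ r) (hqr : q ≠ r) (gp : g • p = p) (gq : g • q = q) (gr : g • r = r) :
    g = 1 := by
  obtain ⟨c, cp, cq⟩ := exists_pair h hp hq hpq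
  set k := c⁻¹ * g * c with hk
  have k1 : k • inf F = inf F := by rw [hk, mul_smul, mul_smul, cp, gp, ← cp, inv_smul_smul]
  have k2 : k • pt m (0 : F) 0 = pt m 0 0 := by
    rw [hk, mul_smul, mul_smul, cq, gq, ← cq, inv_smul_smul]
  have k3 : k • (c⁻¹ • r) = c⁻¹ • r := by rw [hk, mul_smul, mul_smul, smul_inv_smul, gr]
  obtain ⟨t, ht⟩ := twoPointStab h k.2 k1 k2
  have hs : c⁻¹ • r ∈ Cfsg.suzukiOvoid F m := smul_mem_ovoid (c⁻¹ : G).2 hr
  have hne : c⁻¹ • r ≠ inf F := fun e => hpr (by rw [← cp, ← e, smul_inv_smul])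
  obtain ⟨x, y, hxy⟩ := (mem_ovoid.1 hs).resolve_left hne
  have hxy0 : x ≠ 0 ∨ y ≠ 0 := by
    by_contra hc
    simp only [not_or, not_not] at hc
    rw [hc.1, hc.2] at hxy
    exact hqr (by rw [← cq, ← hxy, smul_inv_smul])
  have ht1 : t = 1 := by
    apply D_fix_pt h hxy0
    rw [← ht, ← smul_sub_def k, ← hxy, k3]
  have : k = 1 := Subtype.ext (by rw [ht, ht1, D_one]; rfl)
  rw [hk] at this
  calc g = c * (c⁻¹ * g * c) * c⁻¹ := by group
    _ = 1 := by rw [this]; group

include h in
theorem eq_one_of_fix_ovoid {g : G} (hg : ∀ p ∈ Cfsg.suzukiOvoid F m, g • p = p) : g = 1 :=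
  eq_one_of_fix_three h inf_mem (pt_mem 0 0) (pt_mem 1 0) (pt_ne_inf _ _).symm (pt_ne_inf _ _).symm
    (fun e => zero_ne_one (pt_eq_iff.1 e).1) (hg _ inf_mem) (hg _ (pt_mem _ _)) (hg _ (pt_mem _ _))

theorem isMultiplyPretransitive_two (hz : IsSzField F m) :
    MulAction.IsMultiplyPretransitive G (Cfsg.suzukiOvoid F m) 2 := by
  rw [MulAction.is_two_pretransitive_iff]
  intro a b c d hab hcd
  obtain ⟨g, g1, g2⟩ := exists_pair hz a.2 b.2 (fun e => hab (Subtype.ext e))
  obtain ⟨k, k1, k2⟩ := exists_pair hz c.2 d.2 (fun e => hcd (Subtype.ext e))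
  refine ⟨k * g⁻¹, Subtype.ext ?_, Subtype.ext ?_⟩
  · show (k * g⁻¹) • (a : PP) = c
    rw [mul_smul, ← g1, inv_smul_smul, k1]
  · show (k * g⁻¹) • (b : PP) = d
    rw [mul_smul, ← g2, inv_smul_smul, k2]

/-! ### Perfectness and simplicity -/

include h in
theorem exists_unit_sg_ne_one : ∃ t : Fˣ, sg m (t : F) + 1 ≠ 0 ∧
    sg m (t : F) * (t : F) ^ 2 + 1 ≠ 0 := by
  have := h.finite
  have : Nontrivial Fˣ := by
    rw [← Finite.one_lt_card_iff_nontrivial, Nat.card_units, h.card]
    have := h.sigma_add_two_lt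
    have := h.four_le
    omega
  obtain ⟨t, ht⟩ := exists_ne (1 : Fˣ)
  refine ⟨t, fun e => ht (D_fix_pt h (m := m) (x := 1) (y := 0) (Or.inl one_ne_zero) ?_),
    fun e => ht (D_fix_pt h (m := m) (x := 0) (y := 1) (Or.inr one_ne_zero) ?_)⟩
  · rw [D_smul_pt h, pt_eq_iff]
    exact ⟨by linear_combination e - h.two_eq_zero, by simp⟩
  · rw [D_smul_pt h, pt_eq_iff]
    exact ⟨by simp, by linear_combination e - h.two_eq_zero⟩

theorem uE_mem_commutator (a b : F) : uE h a b ∈ commutator G := by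
  have two := h.two_eq_zero
  obtain ⟨t, ht1, ht2⟩ := exists_unit_sg_ne_one h
  have key : ∀ c d : F, ∃ e, uE h (sg m (t : F) * c + c) e ∈ commutator G ∧
      (c = 0 → e = (sg m (t : F) * (t : F) ^ 2 + 1) * d) := by
    intro c d
    refine ⟨sg m (t : F) * (t : F) ^ 2 * d + (d + sg m c * c) + sg m (sg m (t : F) * c) * c,
      ?_, fun hc => by subst hc; simp; ring⟩
    have hmem : ⁅dE h t, uE h c d⁆ ∈ commutator G :=
      Subgroup.commutator_mem_commutator (Subgroup.mem_top _) (Subgroup.mem_top _)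
    have hinv : (uE h c d)⁻¹ = uE h c (d + sg m c * c) := by
      refine inv_eq_of_mul_eq_one_right ?_
      rw [uE_mul, ← uE_zero h]
      congr 1
      · linear_combination c * two
      · linear_combination (d + sg m c * c) * two
    rw [commutatorElement_def, dE_mul_uE, mul_inv_cancel_right, hinv, uE_mul] at hmem
    exact hmem
  have hcen : ∀ e : F, uE h 0 e ∈ commutator G := by
    intro e
    obtain ⟨e', he', he''⟩ := key 0 (e / (sg m (t : F) * (t : F) ^ 2 + 1))
    rw [he'' rfl, mul_div_cancel₀ e ht2, mul_zero, zero_add] at he'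
    exact he'
  obtain ⟨e, he, -⟩ := key (a / (sg m (t : F) + 1)) 0
  have ha : sg m (t : F) * (a / (sg m (t : F) + 1)) + a / (sg m (t : F) + 1) = a := by
    field_simp
  rw [ha] at he
  have := (commutator G).mul_mem he (hcen (b + e))
  rw [uE_mul] at this
  convert this using 2
  · rw [add_zero]
  · linear_combination (norm := (simp; ring_nf)) -e * two

theorem dE_mem_commutator (t : Fˣ) : dE h t ∈ commutator G := by
  have := h.finite
  have := h.charP
  obtain ⟨s, hs⟩ : ∃ s : Fˣ, s * s = t := by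
    obtain ⟨s, hs⟩ := (Finite.injective_iff_surjective.mp
      (fun x y e => Units.ext (CharTwo.sq_inj.1 (by
        simpa [pow_two] using congrArg Units.val (show x * x = y * y from e)))) :
      Function.Surjective fun s : Fˣ => s * s) t
    exact ⟨s, hs⟩
  have hmem : ⁅dE h s, wE h⁆ ∈ commutator G :=
    Subgroup.commutator_mem_commutator (Subgroup.mem_top _) (Subgroup.mem_top _)
  rw [commutatorElement_def, ← map_inv, mul_assoc (dE h s), wE_mul_dE, inv_inv, mul_assoc,
    mul_assoc, mul_inv_cancel, mul_one, ← map_mul, hs] at hmem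
  exact hmem

theorem exists_fixed_of_sq_one {g : G} (hz : IsSzField F m) (hg : g * g = 1) :
    ∃ p ∈ Cfsg.suzukiOvoid F m, g • p = p := by
  have := hz.finite
  have hP : IsPGroup 2 (Subgroup.zpowers g) := by
    rintro ⟨x, k, rfl⟩
    refine ⟨1, Subtype.ext ?_⟩
    show (g ^ k) ^ (2 ^ 1) = 1
    rw [← zpow_natCast, ← _root_.zpow_mul, mul_comm, _root_.zpow_mul, zpow_natCast, pow_one, pow_two, hg, _root_.one_zpow]
  have := (ovoid_finite hz).to_subtype
  obtain ⟨p, hp⟩ := hP.nonempty_fixed_point_of_prime_not_dvd_card (Cfsg.suzukiOvoid F m) (by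
    rw [card_ovoid, hz.card]
    intro hd
    have : 2 ∣ (2 ^ (2 * m + 1)) ^ 2 := by
      rw [← pow_mul]; exact dvd_pow_self 2 (by omega)
    omega)
  exact ⟨p.1, p.2, congrArg Subtype.val (hp ⟨g, Subgroup.mem_zpowers g⟩)⟩

include h in
theorem exists_conj_to_inf {g : G} {p : PP} (hp : p ∈ Cfsg.suzukiOvoid F m) (hg : g • p = p) :
    ∃ c : G, c⁻¹ * g * c ∈ MulAction.stabilizer G (inf F) := by
  obtain ⟨c, hc, hcp⟩ := exists_move h hp
  refine ⟨⟨c, hc⟩, ?_⟩
  rw [MulAction.mem_stabilizer_iff, mul_smul, mul_smul]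
  have : (⟨c, hc⟩ : G) • inf F = p := hcp
  rw [this, hg, ← this, inv_smul_smul]

theorem involution_conj_unip {g : G} (hg : g * g = 1) (hz : IsSzField F m) :
    ∃ c : G, c⁻¹ * g * c ∈ unip hz := by
  obtain ⟨p, hp, hgp⟩ := exists_fixed_of_sq_one hz hg
  obtain ⟨c, hc⟩ := exists_conj_to_inf hz hp hgp
  refine ⟨c, ?_⟩
  obtain ⟨a, b, t, e⟩ := (mem_stab_inf hz).1 hc
  have h2 : (uE hz a b * dE hz t) * (uE hz a b * dE hz t) = 1 := by
    rw [← e]
    calc c⁻¹ * g * c * (c⁻¹ * g * c) = c⁻¹ * (g * g) * c := by group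
      _ = 1 := by rw [hg]; group
  have h3 := congrArg (fun x : G => x.1.val 1 1) h2
  simp [Subgroup.coe_mul, Matrix.mul_apply, Fin.sum_univ_four, Umat,
    Dmat] at h3
  have := hz.charP
  have ht : t = 1 := Units.ext (CharTwo.sq_inj.1 (by rw [Units.val_one, one_pow]; linear_combination h3))
  rw [e, ht, map_one, mul_one]
  exact uE_mem hz a b

theorem wE_mem_commutator : wE h ∈ commutator G := by
  obtain ⟨c, a, b, hc⟩ := involution_conj_unip (wE_mul_wE h) h
  have : wE h = c * uE h a b * c⁻¹ := by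
    rw [← show c⁻¹ * wE h * c = uE h a b from Subtype.ext hc]; group
  rw [this]
  exact Subgroup.Normal.conj_mem inferInstance _ (uE_mem_commutator h a b) c

theorem decomp (g : G) : (∃ a b t, g = uE h a b * dE h t) ∨
    ∃ a b c d t, g = uE h a b * wE h * uE h c d * dE h t := by
  by_cases hi : g • inf F = inf F
  · exact Or.inl ((mem_stab_inf h).1 hi)
  · right
    obtain ⟨a, b, hab⟩ := (mem_ovoid.1 (smul_mem_ovoid g.2 inf_mem)).resolve_left hi
    have : (uE h a b * wE h)⁻¹ * g ∈ MulAction.stabilizer G (inf F) := by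
      rw [MulAction.mem_stabilizer_iff, mul_smul, inv_smul_eq_iff]
      show g.1 • inf F = (U m a b * W F) • inf F
      rw [hab, mul_smul, W_smul_inf (m := m), U_smul_pt h]
      simp
    obtain ⟨c, d, t, e⟩ := (mem_stab_inf h).1 this
    exact ⟨a, b, c, d, t, by rw [mul_assoc, ← e]; group⟩

include h in
theorem commutator_eq_top : commutator G = ⊤ := by
  rw [eq_top_iff]
  intro g _
  rcases decomp h g with ⟨a, b, t, rfl⟩ | ⟨a, b, c, d, t, rfl⟩
  · exact mul_mem (uE_mem_commutator h a b) (dE_mem_commutator h t)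
  · exact mul_mem (mul_mem (mul_mem (uE_mem_commutator h a b) (wE_mem_commutator h))
      (uE_mem_commutator h c d)) (dE_mem_commutator h t)

include h in
theorem stab_entries {g : G} (hg : g ∈ MulAction.stabilizer G (inf F)) :
    g.1.val 1 0 = 0 ∧ g.1.val 2 0 = 0 ∧ g.1.val 2 1 = 0 ∧ g.1.val 3 0 = 0 ∧ g.1.val 3 1 = 0 ∧
      g.1.val 3 2 = 0 := by
  obtain ⟨a, b, t, rfl⟩ := (mem_stab_inf h).1 hg
  simp [Subgroup.coe_mul, Matrix.mul_apply, Fin.sum_univ_four, Umat, Dmat]

/-- The torus coordinate on the point stabiliser. -/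
def chi : MulAction.stabilizer G (inf F) →* Fˣ :=
  MonoidHom.toHomUnits
    { toFun := fun g => g.1.1.val 1 1
      map_one' := by simp
      map_mul' := fun x y => by
        obtain ⟨x10, -, -, -, -, -⟩ := stab_entries h x.2
        obtain ⟨-, -, y21, -, y31, -⟩ := stab_entries h y.2
        simp [Subgroup.coe_mul, Matrix.mul_apply, Fin.sum_univ_four,
          x10, y21, y31] }

theorem mem_unip_of_chi {g : MulAction.stabilizer G (inf F)} (hg : chi h g = 1) : g.1 ∈ unip h := by
  obtain ⟨a, b, t, e⟩ := (mem_stab_inf h).1 g.2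
  have h1 : g.1.1.val 1 1 = 1 := congrArg Units.val hg
  rw [e] at h1
  simp [Subgroup.coe_mul, Matrix.mul_apply, Fin.sum_univ_four, Umat,
    Dmat] at h1
  rw [e, h1, map_one, mul_one]
  exact uE_mem h a b

/-- The first coordinate on the unipotent subgroup. -/
def alpha : unip h →* Multiplicative F where
  toFun g := Multiplicative.ofAdd (g.1.1.val 2 3)
  map_one' := by simp
  map_mul' := fun x y => by
    obtain ⟨x, a, b, hx⟩ := x
    obtain ⟨y, c, d, hy⟩ := y
    apply Multiplicative.toAdd.injective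
    simp [hx, hy, Subgroup.coe_mul, h.U_mul, Umat]

include h in
theorem solvable_stab : Group.IsSolvable (MulAction.stabilizer G (inf F)) := by
  have hU : Group.IsSolvable (unip h) := by
    refine Group.isSolvable_of_ker_le_range (alpha h).ker.subtype (alpha h) ?_ (hG' := ?_)
    · rw [Subgroup.range_subtype]
    · refine Group.isSolvable_of_comm fun x y => ?_
      obtain ⟨⟨x, a, b, hx⟩, hx0⟩ := x
      obtain ⟨⟨y, c, d, hy⟩, hy0⟩ := y
      apply Subtype.ext; apply Subtype.ext; apply Subtype.ext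
      have ha : a = 0 := by
        have := congrArg Multiplicative.toAdd (MonoidHom.mem_ker.1 hx0)
        simpa [alpha, hx, Umat] using this
      have hc : c = 0 := by
        have := congrArg Multiplicative.toAdd (MonoidHom.mem_ker.1 hy0)
        simpa [alpha, hy, Umat] using this
      show x.1 * y.1 = y.1 * x.1
      rw [hx, hy, ha, hc, h.U_mul, h.U_mul]
      congr 1; ring
  refine Group.isSolvable_of_ker_le_range (Subgroup.inclusion (unip_le_stab h)) (chi h) ?_
  intro g hg
  exact ⟨⟨g.1, mem_unip_of_chi h (MonoidHom.mem_ker.1 hg)⟩, rfl⟩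

include h in
theorem isSimpleGroup_Sz : IsSimpleGroup G := by
  have := h.finite
  have hnt : Nontrivial G := by
    refine ⟨⟨uE h 1 0, 1, fun e => ?_⟩⟩
    rw [← uE_zero h] at e
    exact one_ne_zero (U_injective (congrArg Subtype.val e)).1
  refine { toNontrivial := hnt, eq_bot_or_eq_top_of_normal := fun N hN => ?_ }
  by_cases hall : ∀ n ∈ N, n • inf F = inf F
  · left
    rw [Subgroup.eq_bot_iff_forall]
    intro n hn
    apply eq_one_of_fix_ovoid h
    intro p hp
    obtain ⟨c, hc, rfl⟩ := exists_move h hp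
    have := hall _ (hN.conj_mem n hn (⟨c, hc⟩ : G)⁻¹)
    rw [inv_inv, mul_smul, mul_smul, inv_smul_eq_iff] at this
    exact this
  · right
    simp only [not_forall] at hall
    obtain ⟨n, hn, hne⟩ := hall
    -- `N` is transitive, so the stabiliser maps onto the quotient
    have htr : ∀ g : G, ∃ k ∈ N, k * g ∈ MulAction.stabilizer G (inf F) := by
      intro g
      by_cases hg : g • inf F = inf F
      · exact ⟨1, N.one_mem, by rw [one_mul]; exact hg⟩
      obtain ⟨c, c1, c2⟩ := exists_pair h inf_mem (smul_mem_ovoid (n⁻¹ : G).2 inf_mem) (by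
        intro e; apply hne; exact (eq_inv_smul_iff.1 e))
      obtain ⟨d, d1, d2⟩ := exists_pair h inf_mem (smul_mem_ovoid g.2 inf_mem) (Ne.symm hg)
      refine ⟨(d * c⁻¹) * n * (d * c⁻¹)⁻¹, hN.conj_mem n hn _, ?_⟩
      have e1 : (d * c⁻¹) • inf F = inf F := by
        rw [mul_smul, (inv_smul_eq_iff (g := c)).2 c1.symm, d1]
      have e2 : (d * c⁻¹)⁻¹ • (g • inf F) = n⁻¹ • inf F := by
        rw [_root_.mul_inv_rev, inv_inv, mul_smul,
          show d⁻¹ • (g • inf F) = pt m 0 0 from inv_smul_eq_iff.2 d2.symm, c2]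
        rfl
      rw [MulAction.mem_stabilizer_iff, mul_smul, mul_smul, mul_smul, e2, smul_inv_smul, e1]
    have hsurj : Function.Surjective
        ((QuotientGroup.mk' N).comp (MulAction.stabilizer G (inf F)).subtype) := by
      intro q
      obtain ⟨g, rfl⟩ := QuotientGroup.mk'_surjective N q
      obtain ⟨k, hk, hkg⟩ := htr g
      refine ⟨⟨k * g, hkg⟩, ?_⟩
      simp [(QuotientGroup.eq_one_iff k).2 hk]
    have := solvable_stab h
    have hQ : Group.IsSolvable (G ⧸ N) := Group.isSolvable_of_surjective hsurj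
    have hperf : commutator (G ⧸ N) = ⊤ := by
      rw [eq_top_iff, ← Subgroup.map_top_of_surjective _ (QuotientGroup.mk'_surjective N),
        ← commutator_eq_top h, commutator_def, Subgroup.map_commutator]
      exact Subgroup.commutator_mono le_top le_top
    by_contra hne'
    have : Nontrivial (G ⧸ N) := QuotientGroup.nontrivial_iff.2 hne'
    exact (Group.IsSolvable.commutator_lt_top_of_nontrivial (G ⧸ N)).ne hperf

end CfsgLib.Suzuki
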