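/-
Suzuki group: invariance of the alternating form, and no three collinear ovoid points.
-/
import Cfsg.Agent.Suzuki.Group
import Cfsg.Prelude.Def_LieExceptional

set_option autoImplicit false

namespace CfsgLib.Suzuki

open Matrix

variable {F : Type*} [Field F] {m : ℕ}

/-- The alternating form `antidiag(1,1,1,1)` is preserved. -/
theorem preserves_form (h : IsSzField F m) {g : SpecialLinearGroup (Fin 4) F}
    (hg : g ∈ Cfsg.Sz F m) : g.val.transpose * Cfsg.suzukiForm F * g.val = Cfsg.suzukiForm F := by
  let P : Matrix (Fin 4) (Fin 4) F → Prop :=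
    fun A => A.transpose * Cfsg.suzukiForm F * A = Cfsg.suzukiForm F
  have hmul : ∀ A B, P A → P B → P (A * B) := by
    intro A B hA hB
    show (A * B).transpose * Cfsg.suzukiForm F * (A * B) = _
    rw [Matrix.transpose_mul, show B.transpose * A.transpose * Cfsg.suzukiForm F * (A * B) =
      B.transpose * (A.transpose * Cfsg.suzukiForm F * A) * B by simp only [Matrix.mul_assoc], hA, hB]
  have hU : ∀ a b, P (Umat m a b) := by
    intro a b
    show _ = _
    ext i j
    fin_cases i <;> fin_cases j <;>
      simp [Umat, Cfsg.suzukiForm, Matrix.mul_apply, Fin.sum_univ_four] <;>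
      first
        | linear_combination a * h.two_eq_zero
        | linear_combination (b + a * sg m a) * h.two_eq_zero
        | linear_combination (zf m a b) * h.two_eq_zero
        | linear_combination (a * b + a * a * sg m a + zf m a b) * h.two_eq_zero
        | linear_combination b * h.two_eq_zero
        | linear_combination sg m a * h.two_eq_zero
        | linear_combination (a * b + zf m a b) * h.two_eq_zero
  have hD : ∀ t : Fˣ, P (Dmat m (t : F)) := by
    intro t
    have := sg_ne_zero (m := m) t.ne_zero
    show _ = _
    ext i j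
    fin_cases i <;> fin_cases j <;>
      simp [Dmat, Cfsg.suzukiForm, Matrix.mul_apply, Fin.sum_univ_four] <;> field_simp
  have hW : P (Wmat F) := by
    show _ = _
    ext i j
    fin_cases i <;> fin_cases j <;>
      simp [Wmat, Cfsg.suzukiForm, Matrix.mul_apply, Fin.sum_univ_four]
  rcases decomp h ⟨g, hg⟩ with ⟨a, b, t, e⟩ | ⟨a, b, c, d, t, e⟩
  · have := congrArg (fun x => x.1.val) e
    simp only at this
    rw [this]
    exact hmul _ _ (hU a b) (hD t)
  · have := congrArg (fun x => x.1.val) e
    simp only at this
    rw [this]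
    exact hmul _ _ (hmul _ _ (hmul _ _ (hU a b) hW) (hU c d)) (hD t)

theorem independent_three (h : IsSzField F m) (p : Fin 3 ↪ Cfsg.suzukiOvoid F m) :
    Projectivization.Independent (fun i => (p i : Projectivization F (Fin 4 → F))) := by
  obtain ⟨g, g1, g2⟩ := exists_pair h (p 0).2 (p 1).2
    (fun e => by simpa using p.injective (Subtype.ext e))
  have hs : (g⁻¹ : SzG F m) • (p 2 : Projectivization F (Fin 4 → F)) ∈ Cfsg.suzukiOvoid F m :=
    smul_mem_ovoid (g⁻¹ : SzG F m).2 (p 2).2
  have hne : (g⁻¹ : SzG F m) • (p 2 : Projectivization F (Fin 4 → F)) ≠ inf F := fun e => by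
    rw [inv_smul_eq_iff, g1] at e
    simpa using p.injective (Subtype.ext e)
  obtain ⟨x, y, hxy⟩ := (mem_ovoid.1 hs).resolve_left hne
  have hxy0 : x ≠ 0 ∨ y ≠ 0 := by
    by_contra hc
    simp only [not_or, not_not] at hc
    rw [hc.1, hc.2, inv_smul_eq_iff, g2] at hxy
    simpa using p.injective (Subtype.ext hxy)
  let v : Fin 3 → Fin 4 → F := ![![1, 0, 0, 0], vec m 0 0, vec m x y]
  have hv : LinearIndependent F v := by
    rw [Fintype.linearIndependent_iff]
    intro c hc
    have e0 := congrFun hc 0
    have e1 := congrFun hc 1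
    have e2 := congrFun hc 2
    have e3 := congrFun hc 3
    simp [v, Fin.sum_univ_three, vec] at e0 e1 e2 e3
    have hc2 : c 2 = 0 := by
      rcases hxy0 with hx | hy
      · rcases e2 with e | e
        · exact e
        · exact absurd e hx
      · rcases e1 with e | e
        · exact e
        · exact absurd e hy
    have hc0 : c 0 = 0 := by simpa [hc2] using e0
    have hc1 : c 1 = 0 := by simpa [hc2] using e3
    intro i
    fin_cases i <;> assumption
  refine (Projectivization.independent_iff).2 ?_
  have hp : ∀ i, ∃ c : F, c • ((g : SzG F m).1 • v i) = (p i : Projectivization F (Fin 4 → F)).rep := by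
    intro i
    have hvi : g.1 • v i ≠ 0 := (smul_ne_zero_iff_ne g.1).2 (hv.ne_zero i)
    have : Projectivization.mk F (g.1 • v i) hvi = (p i : Projectivization F (Fin 4 → F)) := by
      fin_cases i
      · exact g1
      · exact g2
      · exact (inv_smul_eq_iff.1 hxy).symm
    rw [← (p i).1.mk_rep] at this
    obtain ⟨c, hc⟩ := (Projectivization.mk_eq_mk_iff' F _ _ _ _).1 this.symm
    exact ⟨c, hc⟩
  choose c hc using hp
  have hind : LinearIndependent F (fun i => g.1 • v i) :=
    hv.map' (Matrix.mulVecLin g.1.val) (LinearMap.ker_eq_bot.2 (fun a b e =>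
      MulAction.injective g.1 (e : g.1 • a = g.1 • b)))
  have hcn : ∀ i, c i ≠ 0 := fun i e => by
    have := hc i
    rw [e, zero_smul] at this
    exact (p i).1.rep_nonzero this.symm
  have := hind.units_smul (fun i => Units.mk0 (c i) (hcn i))
  have hfun : (Projectivization.rep ∘ fun i => (p i : Projectivization F (Fin 4 → F))) =
      ((fun i => Units.mk0 (c i) (hcn i)) • fun i => g.1 • v i) := by
    funext i
    exact (hc i).symm
  rw [hfun]
  exact this

end CfsgLib.Suzuki
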