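/-
The two models of the Suzuki group agree: `Cfsg.Lie.Sz F (2^(m+1))` (symplectic matrices with
`g* = g^θ`) is the image in `GL₄` of the ovoid stabiliser `Cfsg.Sz F m`.
-/
import Cfsg.Agent.Suzuki.Geometry
import Cfsg.Agent.PrimeGraph.SzFix

set_option autoImplicit false

namespace CfsgLib.Suzuki

open Matrix

variable {F : Type*} [Field F] {m : ℕ}

local notation "PP" => Projectivization F (Fin 4 → F)

/-- The condition defining the generators of `Cfsg.Lie.Sz`. -/
def LieCond (m : ℕ) (g : GL (Fin 4) F) : Prop :=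
  g ∈ Cfsg.Lie.Sp4 F ∧
    Cfsg.Lie.star4 (g : Matrix (Fin 4) (Fin 4) F) =
      (g : Matrix (Fin 4) (Fin 4) F).map (fun x => x ^ (2 ^ (m + 1)))

variable (h : IsSzField F m)
include h

/-- The twisting map is a ring homomorphism. -/
theorem exists_sgHom : ∃ f : F →+* F, ∀ x, f x = x ^ (2 ^ (m + 1)) :=
  ⟨{ toFun := sg m
     map_one' := sg_one
     map_mul' := sg_mul
     map_zero' := sg_zero
     map_add' := h.sg_add }, fun _ => rfl⟩

theorem lieCond_of_mem {g : GL (Fin 4) F} (hg : g ∈ Cfsg.Lie.Sz F (2 ^ (m + 1))) : LieCond m g := by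
  have := h.finite
  have := h.charP
  let : Fintype F := Fintype.ofFinite F
  exact CfsgLib.SzFix.mem_iff (exists_sgHom h) hg

omit h in
theorem mem_lie_of_cond {g : GL (Fin 4) F} (hg : LieCond m g) : g ∈ Cfsg.Lie.Sz F (2 ^ (m + 1)) :=
  Subgroup.subset_closure hg

omit h in
theorem toGL_val (g : SpecialLinearGroup (Fin 4) F) :
    ((SpecialLinearGroup.toGL g : GL (Fin 4) F) : Matrix (Fin 4) (Fin 4) F) = g.val := rfl

omit h in
theorem altForm_eq (u v : Fin 4 → F) :
    Cfsg.Lie.altForm4 u v = u ⬝ᵥ (Cfsg.suzukiForm F *ᵥ v) := by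
  simp [Cfsg.Lie.altForm4, Cfsg.suzukiForm, dotProduct, mulVec, Fin.sum_univ_four]

theorem toGL_mem_Sp4 {g : SpecialLinearGroup (Fin 4) F} (hg : g ∈ Cfsg.Sz F m) :
    SpecialLinearGroup.toGL g ∈ Cfsg.Lie.Sp4 F := by
  intro u v
  show Cfsg.Lie.altForm4 (g.val *ᵥ u) (g.val *ᵥ v) = Cfsg.Lie.altForm4 u v
  rw [altForm_eq, altForm_eq, mulVec_mulVec, dotProduct_mulVec, vecMul_mulVec, ← dotProduct_mulVec,
    ← Matrix.mul_assoc, preserves_form h hg]

theorem lieCond_U (a b : F) : LieCond m (SpecialLinearGroup.toGL (U m a b)) := by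
  refine ⟨toGL_mem_Sp4 h (U_mem h a b), ?_⟩
  rw [toGL_val, U_val]
  have h2 := h.two_eq_zero
  ext p r
  fin_cases p <;> fin_cases r <;>
    simp [Umat, Cfsg.Lie.star4, Cfsg.Lie.pairOf, ← sg_def, h.sg_add, sg_mul, sg_pow, h.sg_sg, zf] <;>
    (rw [← sub_eq_zero]; ring_nf) <;> simp [h2]

theorem lieCond_D (t : Fˣ) : LieCond m (SpecialLinearGroup.toGL (D m t)) := by
  refine ⟨toGL_mem_Sp4 h (D_mem h t), ?_⟩
  rw [toGL_val, D_val]
  have ht := t.ne_zero
  have hst := sg_ne_zero (m := m) ht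
  ext p r
  fin_cases p <;> fin_cases r <;>
    simp [Dmat, Cfsg.Lie.star4, Cfsg.Lie.pairOf, ← sg_def, sg_mul, sg_inv, h.sg_sg] <;>
    field_simp

theorem lieCond_W : LieCond m (SpecialLinearGroup.toGL (W F)) := by
  refine ⟨toGL_mem_Sp4 h (W_mem h), ?_⟩
  rw [toGL_val, W_val]
  have := h.charP
  ext p r
  fin_cases p <;> fin_cases r <;>
    simp [Wmat, Cfsg.Lie.star4, Cfsg.Lie.pairOf, ← sg_def, CharTwo.neg_eq]

theorem toGL_mem_lie {g : SpecialLinearGroup (Fin 4) F} (hg : g ∈ Cfsg.Sz F m) :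
    SpecialLinearGroup.toGL g ∈ Cfsg.Lie.Sz F (2 ^ (m + 1)) := by
  rcases decomp h ⟨g, hg⟩ with ⟨a, b, t, e⟩ | ⟨a, b, c, d, t, e⟩
  · have e' : g = U m a b * D m t := congrArg Subtype.val e
    rw [e', map_mul]
    exact mul_mem (mem_lie_of_cond (lieCond_U h a b)) (mem_lie_of_cond (lieCond_D h t))
  · have e' : g = U m a b * W F * U m c d * D m t := congrArg Subtype.val e
    rw [e', map_mul, map_mul, map_mul]
    exact mul_mem (mul_mem (mul_mem (mem_lie_of_cond (lieCond_U h a b))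
      (mem_lie_of_cond (lieCond_W h))) (mem_lie_of_cond (lieCond_U h c d)))
      (mem_lie_of_cond (lieCond_D h t))

/-- A vector `c` completed by some `u` with `p(c,u) = θ(c)` and `B(c,u) = 0` lies on the ovoid. -/
theorem mem_ovoid_of_eqs {c u : Fin 4 → F} (hc : c ≠ 0)
    (e1 : c 0 * u 1 + c 1 * u 0 = sg m (c 0)) (e2 : c 0 * u 2 + c 2 * u 0 = sg m (c 1))
    (e3 : c 1 * u 3 + c 3 * u 1 = sg m (c 2)) (e4 : c 2 * u 3 + c 3 * u 2 = sg m (c 3))
    (eB : c 0 * u 3 + c 1 * u 2 + c 2 * u 1 + c 3 * u 0 = 0) :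
    Projectivization.mk F c hc ∈ Cfsg.suzukiOvoid F m := by
  have h2 := h.two_eq_zero
  by_cases h3 : c 3 = 0
  · have hc2 : c 2 = 0 := by
      by_contra hne
      rw [h3, sg_zero, zero_mul, add_zero] at e4
      have hu3 : u 3 = 0 := (mul_eq_zero.1 e4).resolve_left hne
      rw [h3, hu3] at e3
      simp at e3
      exact hne (sg_eq_zero.1 e3.symm)
    have hc1 : c 1 = 0 := by
      by_contra hne
      rw [hc2, h3, sg_zero, zero_mul, add_zero] at e3
      have hu3 : u 3 = 0 := (mul_eq_zero.1 e3).resolve_left hne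
      rw [hc2, h3, hu3] at eB
      have hu2 : u 2 = 0 := by
        simp at eB
        exact eB.resolve_left hne
      rw [hc2, hu2] at e2
      simp at e2
      exact hne (sg_eq_zero.1 e2.symm)
    rw [mk_eq_inf hc hc1 hc2 h3]
    exact inf_mem
  · have hs := sg_ne_zero (m := m) h3
    have key : c 0 * c 3 * sg m (c 3) =
        c 3 ^ 2 * sg m (c 1) + c 1 * c 2 * sg m (c 3) + c 2 ^ 2 * sg m (c 2) := by
      linear_combination (c 3 ^ 2) * e2 - (c 0 * c 3) * e4 - (c 2 * c 3) * eB +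
        (c 1 * c 2) * e4 + c 2 ^ 2 * e3 +
        (c 0 * c 2 * c 3 * u 3 - c 1 * c 2 ^ 2 * u 3) * h2
    rw [mk_eq_pt hc (x := c 2 / c 3) (y := c 1 / c 3) (c := c 3) ?_]
    · exact pt_mem _ _
    · funext i
      fin_cases i <;> simp [vec] <;> field_simp
      rw [zf]
      simp only [div_eq_mul_inv, sg_mul, sg_inv]
      field_simp
      linear_combination -key

theorem col_zero_mem_ovoid {g : GL (Fin 4) F} (hg : LieCond m g)
    (hc : (fun i => (g : Matrix (Fin 4) (Fin 4) F) i 0) ≠ 0) :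
    Projectivization.mk F _ hc ∈ Cfsg.suzukiOvoid F m := by
  obtain ⟨hsp, hst⟩ := hg
  have := h.charP
  have hB := CfsgLib.SzFix.form_of_mem hsp 0 1
  simp [CfsgLib.SzFix.J4] at hB
  have s0 := congrFun (congrFun hst 0) 0
  have s1 := congrFun (congrFun hst 1) 0
  have s2 := congrFun (congrFun hst 2) 0
  have s3 := congrFun (congrFun hst 3) 0
  simp [Cfsg.Lie.star4, Cfsg.Lie.pairOf, ← sg_def, CharTwo.sub_eq_add] at s0 s1 s2 s3
  exact mem_ovoid_of_eqs h hc (u := fun i => (g : Matrix (Fin 4) (Fin 4) F) i 1)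
    (by linear_combination s0) (by linear_combination s1) (by linear_combination s2)
    (by linear_combination s3) (by linear_combination hB)

theorem det_eq_one_of_cond {g : GL (Fin 4) F} (hg : LieCond m g) :
    (g : Matrix (Fin 4) (Fin 4) F).det = 1 := by
  have := h.charP
  have ht := congrArg Matrix.det (CfsgLib.SzFix.transpose_form hg.1)
  rw [Matrix.det_mul, Matrix.det_mul, Matrix.det_transpose] at ht
  have hJ : (CfsgLib.SzFix.J4 : Matrix (Fin 4) (Fin 4) F).det ≠ 0 := by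
    intro h0
    have := congrArg Matrix.det (CfsgLib.SzFix.J4_mul_J4 (F := F))
    rw [Matrix.det_mul, h0, zero_mul, Matrix.det_one] at this
    exact zero_ne_one this
  apply CharTwo.sq_inj.1
  refine mul_right_cancel₀ hJ ?_
  linear_combination ht

theorem exists_mem_of_cond {g : GL (Fin 4) F} (hg : LieCond m g) :
    ∃ g' ∈ Cfsg.Sz F m, SpecialLinearGroup.toGL g' = g := by
  let g' : SpecialLinearGroup (Fin 4) F :=
    ⟨(g : Matrix (Fin 4) (Fin 4) F), det_eq_one_of_cond h hg⟩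
  refine ⟨g', mem_Sz_of_maps h ?_, Units.ext rfl⟩
  intro p hp
  obtain ⟨k, hk, rfl⟩ := exists_move h hp
  have hgk : LieCond m (g * SpecialLinearGroup.toGL k) :=
    lieCond_of_mem h (mul_mem (mem_lie_of_cond hg) (toGL_mem_lie h hk))
  rw [← mul_smul]
  set gk := g' * k with hgk'
  have hval : gk • (![1, 0, 0, 0] : Fin 4 → F) =
      fun i => ((g * SpecialLinearGroup.toGL k : GL (Fin 4) F) : Matrix (Fin 4) (Fin 4) F) i 0 := by
    funext i
    simp [smul_eq_mulVec, hgk', g', mulVec, dotProduct, Fin.sum_univ_four]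
    rfl
  have hne : gk • (![1, 0, 0, 0] : Fin 4 → F) ≠ 0 :=
    (smul_ne_zero_iff_ne gk).2 (by simp)
  unfold inf Cfsg.suzukiPointInfinity
  rw [Projectivization.smul_mk]
  convert col_zero_mem_ovoid h hgk (hval ▸ hne) using 2

/-- The image of the ovoid model is the Lie model. -/
theorem map_toGL_eq :
    (Cfsg.Sz F m).map SpecialLinearGroup.toGL = Cfsg.Lie.Sz F (2 ^ (m + 1)) := by
  refine le_antisymm ?_ ?_
  · rintro _ ⟨g, hg, rfl⟩
    exact toGL_mem_lie h hg
  · intro g hg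
    obtain ⟨g', hg', e⟩ := exists_mem_of_cond h (lieCond_of_mem h hg)
    exact ⟨g', hg', e⟩

/-- The isomorphism between the two models. -/
noncomputable def lieEquiv : SzG F m ≃* Cfsg.Lie.Sz F (2 ^ (m + 1)) :=
  ((Cfsg.Sz F m).equivMapOfInjective SpecialLinearGroup.toGL SpecialLinearGroup.toGL_injective).trans
    (MulEquiv.subgroupCongr (map_toGL_eq h))

end CfsgLib.Suzuki
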