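/-
Suzuki group: the Sylow 2-subgroups, their normalisers, TI property, centralisers of 2-elements.
-/
import Cfsg.Agent.Suzuki.Group

set_option autoImplicit false

namespace CfsgLib.Suzuki

open Matrix
open scoped Pointwise commutatorElement

variable {F : Type*} [Field F] {m : ℕ}

local notation "PP" => Projectivization F (Fin 4 → F)
local notation "G" => SzG F m

variable (h : IsSzField F m)

/-- The point stabiliser of infinity, i.e. the Borel subgroup. -/
abbrev borel (F : Type*) [Field F] (m : ℕ) : Subgroup (SzG F m) :=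
  MulAction.stabilizer (SzG F m) (inf F)

theorem uE_inj {a b c d : F} (e : uE h a b = uE h c d) : a = c ∧ b = d :=
  U_injective (congrArg Subtype.val e)

theorem exists_uE {g : G} (hg : g ∈ unip h) : ∃ a b, g = uE h a b := by
  obtain ⟨a, b, e⟩ := hg
  exact ⟨a, b, Subtype.ext e⟩

theorem uE_eq_one {a b : F} : uE h a b = 1 ↔ a = 0 ∧ b = 0 := by
  refine ⟨fun e => ?_, fun e => by rw [e.1, e.2, uE_zero]⟩
  rw [← uE_zero h] at e
  exact uE_inj h e

theorem uE_inv (a b : F) : (uE h a b)⁻¹ = uE h a (b + sg m a * a) := by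
  refine inv_eq_of_mul_eq_one_right ?_
  rw [uE_mul, ← uE_zero h]
  congr 1
  · linear_combination a * h.two_eq_zero
  · linear_combination (b + sg m a * a) * h.two_eq_zero

theorem uE_sq (a b : F) : uE h a b * uE h a b = uE h 0 (sg m a * a) := by
  rw [uE_mul]
  congr 1
  · linear_combination a * h.two_eq_zero
  · linear_combination b * h.two_eq_zero

theorem uE_conj (c d a b : F) :
    uE h c d * uE h a b * (uE h c d)⁻¹ = uE h a (b + (sg m c * a + sg m a * c)) := by
  rw [mul_inv_eq_iff_eq_mul, uE_mul, uE_mul]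
  congr 1
  · ring
  · linear_combination -(sg m a * c) * h.two_eq_zero

theorem dE_conj (t : Fˣ) (a b : F) : dE h t * uE h a b * (dE h t)⁻¹ =
    uE h (sg m (t : F) * a) (sg m (t : F) * (t : F) ^ 2 * b) := by
  rw [dE_mul_uE, mul_inv_cancel_right]

include h in
theorem scale_eq_one_left {t : Fˣ} {a : F} (ha : a ≠ 0) (e : sg m (t : F) * a = a) : t = 1 := by
  apply Units.ext
  exact h.sg_injective (by rw [(mul_eq_right₀ ha).1 e, Units.val_one, sg_one])

include h in
theorem scale_eq_one_right {t : Fˣ} {b : F} (hb : b ≠ 0)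
    (e : sg m (t : F) * (t : F) ^ 2 * b = b) : t = 1 := by
  have := h.charP
  have h1 : sg m (t : F) * (t : F) ^ 2 = 1 := (mul_eq_right₀ hb).1 e
  have h2 := congrArg (sg m) h1
  rw [sg_mul, sg_pow, h.sg_sg, sg_one] at h2
  have h3 : (t : F) * sg m (t : F) = 1 := CharTwo.sq_inj.1 (by rw [one_pow]; linear_combination h2)
  apply Units.ext
  rw [Units.val_one]
  linear_combination h1 - (t : F) * h3

/-! ### Fixed points -/

theorem uE_smul_pt (a b x y : F) :
    uE h a b • pt m x y = pt m (x + a) (y + sg m a * x + b) := U_smul_pt h a b x y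

theorem uE_smul_inf (a b : F) : uE h a b • inf F = inf F := U_smul_inf a b

theorem eq_inf_of_unip_fix {u : G} (hu : u ∈ unip h) (hu1 : u ≠ 1) {p : PP}
    (hp : p ∈ Cfsg.suzukiOvoid F m) (hup : u • p = p) : p = inf F := by
  obtain ⟨a, b, rfl⟩ := exists_uE h hu
  rcases mem_ovoid.1 hp with rfl | ⟨x, y, rfl⟩
  · rfl
  · rw [uE_smul_pt, pt_eq_iff] at hup
    obtain ⟨e1, e2⟩ := hup
    have ha : a = 0 := by linear_combination e1
    subst ha
    rw [sg_zero, zero_mul] at e2
    exact absurd ((uE_eq_one h).2 ⟨rfl, by linear_combination e2⟩) hu1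

theorem mem_borel_of_conj_mem_unip {g u : G} (hu : u ∈ unip h) (hu1 : u ≠ 1)
    (hg : g * u * g⁻¹ ∈ unip h) : g ∈ borel F m := by
  have hne : g * u * g⁻¹ ≠ 1 := fun e => hu1 (conj_eq_one_iff.1 e)
  refine eq_inf_of_unip_fix h hg hne (smul_mem_ovoid g.2 inf_mem) ?_
  show (g * u * g⁻¹) • (g • inf F) = g • inf F
  rw [mul_smul, mul_smul, inv_smul_smul]
  obtain ⟨a, b, rfl⟩ := exists_uE h hu
  rw [uE_smul_inf]

theorem borel_le_normalizer : borel F m ≤ Subgroup.normalizer (unip h : Set G) := by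
  intro g hg
  obtain ⟨a, b, t, rfl⟩ := (mem_stab_inf h).1 hg
  refine Subgroup.mem_normalizer_iff.2 fun x => ?_
  have key : ∀ (s : Fˣ) (y : G), y ∈ unip h → dE h s * y * (dE h s)⁻¹ ∈ unip h := by
    intro s y hy
    obtain ⟨c, d, rfl⟩ := exists_uE h hy
    rw [dE_conj]
    exact uE_mem h _ _
  constructor
  · intro hx
    have : uE h a b * (dE h t * x * (dE h t)⁻¹) * (uE h a b)⁻¹ ∈ unip h :=
      mul_mem (mul_mem (uE_mem h a b) (key t x hx)) (inv_mem (uE_mem h a b))
    convert this using 1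
    group
  · intro hx
    have h1 : dE h t * x * (dE h t)⁻¹ ∈ unip h := by
      have := mul_mem (mul_mem (inv_mem (uE_mem h a b)) hx) (uE_mem h a b)
      convert this using 1
      group
    have h2 := key t⁻¹ _ h1
    rw [map_inv] at h2
    convert h2 using 1
    group

theorem normalizer_unip : Subgroup.normalizer (unip h : Set G) = borel F m := by
  refine le_antisymm (fun g hg => ?_) (borel_le_normalizer h)
  have hne : uE h 1 0 ≠ 1 := fun e => one_ne_zero ((uE_eq_one h).1 e).1
  exact mem_borel_of_conj_mem_unip h (uE_mem h 1 0) hne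
    ((Subgroup.mem_normalizer_iff.1 hg _).1 (uE_mem h 1 0))

/-- The centraliser of a nontrivial element of `U` lies in `U`. -/
theorem centralizer_le_unip {u : G} (hu : u ∈ unip h) (hu1 : u ≠ 1) :
    Subgroup.centralizer ({u} : Set G) ≤ unip h := by
  intro g hg
  have hc : g * u = u * g := (Subgroup.mem_centralizer_singleton_iff.1 hg)
  have hgu : g * u * g⁻¹ = u := by rw [hc, mul_inv_cancel_right]
  obtain ⟨c, d, t, rfl⟩ := (mem_stab_inf h).1 (mem_borel_of_conj_mem_unip h hu hu1 (by rwa [hgu]))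
  obtain ⟨a, b, rfl⟩ := exists_uE h hu
  rw [show uE h c d * dE h t * uE h a b * (uE h c d * dE h t)⁻¹ =
    uE h c d * (dE h t * uE h a b * (dE h t)⁻¹) * (uE h c d)⁻¹ by group, dE_conj, uE_conj] at hgu
  obtain ⟨e1, e2⟩ := uE_inj h hgu
  have ht : t = 1 := by
    by_cases ha : a = 0
    · subst ha
      simp at e2
      exact scale_eq_one_right h (fun hb => hu1 ((uE_eq_one h).2 ⟨rfl, hb⟩)) e2
    · exact scale_eq_one_left h ha e1
  rw [ht, map_one, mul_one]
  exact uE_mem h c d

/-- Regular action on the affine part of the ovoid. -/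
theorem existsUnique_unip {p q : PP} (hp : p ∈ Cfsg.suzukiOvoid F m) (hq : q ∈ Cfsg.suzukiOvoid F m)
    (hp' : p ≠ inf F) (hq' : q ≠ inf F) : ∃! s : unip h, (s : G) • p = q := by
  obtain ⟨x, y, rfl⟩ := (mem_ovoid.1 hp).resolve_left hp'
  obtain ⟨x', y', rfl⟩ := (mem_ovoid.1 hq).resolve_left hq'
  refine ⟨⟨uE h (x' - x) (y' - y - sg m (x' - x) * x), uE_mem h _ _⟩, ?_, ?_⟩
  · show uE h _ _ • pt m x y = _
    rw [uE_smul_pt, pt_eq_iff]
    constructor <;> ring
  · rintro ⟨s, hs⟩ e
    obtain ⟨a, b, rfl⟩ := exists_uE h hs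
    simp only [uE_smul_pt, pt_eq_iff] at e
    obtain ⟨e1, e2⟩ := e
    apply Subtype.ext
    have ha : a = x' - x := by linear_combination e1
    subst ha
    show uE h _ _ = uE h _ _
    congr 1
    linear_combination e2

/-! ### Sylow -/

theorem isPGroup_unip : IsPGroup 2 (unip h) :=
  IsPGroup.of_card (n := (2 * m + 1) * 2) (by rw [card_unip, h.card, ← pow_mul])

include h in
theorem card_borel : Nat.card (borel F m) = Nat.card F ^ 2 * (Nat.card F - 1) :=
  card_stab_inf h

theorem index_borel (hz : IsSzField F m) : (borel F m).index = Nat.card F ^ 2 + 1 := by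
  rw [MulAction.index_stabilizer, orbit_inf hz, ← Nat.card_coe_set_eq]
  have := hz.finite
  exact card_ovoid F m

theorem index_unip : (unip h).index = (Nat.card F ^ 2 + 1) * (Nat.card F - 1) := by
  have := h.finite
  have hc := (unip h).card_mul_index
  rw [card_unip, card_Sz h, mul_assoc] at hc
  exact Nat.eq_of_mul_eq_mul_left (by rw [h.card]; positivity) hc

theorem not_two_dvd_index_unip : ¬ 2 ∣ (unip h).index := by
  rw [index_unip, h.card, Nat.prime_two.dvd_mul]
  have h2 : 2 ∣ 2 ^ (2 * m + 1) := dvd_pow_self 2 (by omega)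
  have h3 : 2 ∣ (2 ^ (2 * m + 1)) ^ 2 := dvd_pow h2 (by norm_num)
  have h4 : 0 < 2 ^ (2 * m + 1) := by positivity
  rintro (h5 | h5) <;> omega

/-- The Sylow subgroup at infinity. -/
noncomputable def unipSylow : Sylow 2 G := (isPGroup_unip h).toSylow (not_two_dvd_index_unip h)

theorem coe_unipSylow : (unipSylow h : Subgroup G) = unip h := rfl

include h in
theorem finite_G : Finite G := by
  have := finite_SL h
  infer_instance

/-- Every 2-subgroup is conjugate into `U`. -/
theorem exists_conj_le_unip {P : Subgroup G} (hP : IsPGroup 2 P) :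
    ∃ c : G, ∀ x ∈ P, c * x * c⁻¹ ∈ unip h := by
  have := finite_G h
  obtain ⟨Q, hQ⟩ := hP.exists_le_sylow
  have : Fact (Nat.Prime 2) := ⟨Nat.prime_two⟩
  obtain ⟨c, hc⟩ := MulAction.exists_smul_eq G Q (unipSylow h)
  refine ⟨c, fun x hx => ?_⟩
  rw [← coe_unipSylow h, ← hc]
  exact Subgroup.smul_mem_pointwise_smul x (MulAut.conj c) _ (hQ hx)

/-- Every Sylow 2-subgroup is a conjugate of `U`. -/
theorem sylow_eq_conj (P : Sylow 2 G) :
    ∃ c : G, (P : Subgroup G) = (unip h).map (MulAut.conj c).toMonoidHom := by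
  have := finite_G h
  have : Fact (Nat.Prime 2) := ⟨Nat.prime_two⟩
  obtain ⟨c, hc⟩ := MulAction.exists_smul_eq G (unipSylow h) P
  exact ⟨c, by rw [← hc]; rfl⟩

/-! ### Structure of `U` -/

include h in
theorem exists_ne_two : ∃ e : F, e + sg m e ≠ 0 := by
  by_contra hc
  simp only [not_exists, not_not] at hc
  obtain ⟨t, ht, -⟩ := exists_unit_sg_ne_one h
  have h1 : sg m (t : F) = t := by linear_combination hc t - (t : F) * h.two_eq_zero
  have h2 := h.sg_sg (t : F)
  rw [h1, h1] at h2
  have h3 : (t : F) = 1 := (mul_eq_left₀ t.ne_zero).1 (by linear_combination -h2)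
  apply ht
  rw [h1, h3]
  linear_combination h.two_eq_zero

include h in
theorem bijective_norm_map : Function.Bijective (fun x : F => sg m x * x) := by
  have := h.finite
  have hinj : Function.Injective (fun x : F => sg m x * x) := by
    intro x y e
    simp only at e
    have e' := congrArg (sg m) e
    rw [sg_mul, sg_mul, h.sg_sg, h.sg_sg] at e'
    by_cases hy : y = 0
    · subst hy
      simp [sg_eq_zero] at e
      exact e
    · refine mul_right_cancel₀ (mul_ne_zero (sg_ne_zero (m := m) hy) hy) ?_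
      calc x * (sg m y * y) = x * (sg m x * x) := by rw [e]
        _ = x ^ 2 * sg m x := by ring
        _ = y ^ 2 * sg m y := e'
        _ = y * (sg m y * y) := by ring
  exact ⟨hinj, Finite.injective_iff_surjective.mp hinj⟩

theorem mem_center_unip_iff {u : unip h} :
    u ∈ Subgroup.center (unip h) ↔ ∃ b, (u : G) = uE h 0 b := by
  constructor
  · intro hu
    obtain ⟨a, b, e⟩ := exists_uE h u.2
    refine ⟨b, ?_⟩
    by_cases ha : a = 0
    · rw [e, ha]
    exfalso
    obtain ⟨e₀, he₀⟩ := exists_ne_two h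
    have hc := congrArg Subtype.val
      (Subgroup.mem_center_iff.1 hu ⟨uE h (a * e₀) 0, uE_mem h _ _⟩)
    simp only [Subgroup.coe_mul, e, uE_mul] at hc
    have h2 := (uE_inj h hc).2
    rw [sg_mul] at h2
    have : sg m a * a * (e₀ + sg m e₀) = 0 := by
      linear_combination h2 + sg m a * a * e₀ * h.two_eq_zero
    exact he₀ ((mul_eq_zero.1 this).resolve_left (mul_ne_zero (sg_ne_zero ha) ha))
  · rintro ⟨b, e⟩
    refine Subgroup.mem_center_iff.2 fun x => Subtype.ext ?_
    obtain ⟨c, d, e'⟩ := exists_uE h x.2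
    simp only [Subgroup.coe_mul, e, e', uE_mul, sg_zero, mul_zero, zero_mul, add_zero, zero_add]
    rw [add_comm b d]

theorem commutator_unip : commutator (unip h) = Subgroup.center (unip h) := by
  refine le_antisymm ?_ ?_
  · rw [commutator_def, Subgroup.commutator_le]
    intro x _ y _
    rw [mem_center_unip_iff]
    obtain ⟨a, b, e⟩ := exists_uE h x.2
    obtain ⟨c, d, e'⟩ := exists_uE h y.2
    refine ⟨sg m a * c + sg m c * a, ?_⟩
    simp only [commutatorElement_def, Subgroup.coe_mul, Subgroup.coe_inv, e, e', uE_inv, uE_mul,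
      h.sg_add]
    congr 1
    · linear_combination (a + c) * h.two_eq_zero
    · linear_combination (b + d + sg m a * a + sg m c * c + sg m a * c) * h.two_eq_zero
  · intro u hu
    obtain ⟨b, e⟩ := (mem_center_unip_iff h).1 hu
    obtain ⟨e₀, he₀⟩ := exists_ne_two h
    obtain ⟨l, hl⟩ := (bijective_norm_map h).2 (b / (e₀ + sg m e₀))
    simp only at hl
    have hb : b = sg m l * l * (e₀ + sg m e₀) := by rw [hl, div_mul_cancel₀ b he₀]
    have : u = ⁅(⟨uE h l 0, uE_mem h _ _⟩ : unip h), ⟨uE h (l * e₀) 0, uE_mem h _ _⟩⁆ := by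
      apply Subtype.ext
      simp only [commutatorElement_def, Subgroup.coe_mul, Subgroup.coe_inv, e, uE_inv, uE_mul,
        h.sg_add, sg_mul, hb]
      congr 1
      · linear_combination -(l + l * e₀) * h.two_eq_zero
      · rw [← sub_eq_zero]
        ring_nf
        simp [h.two_eq_zero]
    rw [this, commutator_def]
    exact Subgroup.commutator_mem_commutator (Subgroup.mem_top _) (Subgroup.mem_top _)

theorem card_center_unip : Nat.card (Subgroup.center (unip h)) = Nat.card F := by
  refine (Nat.card_congr (Equiv.ofBijective (fun b => ⟨⟨uE h 0 b, uE_mem h _ _⟩,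
    (mem_center_unip_iff h).2 ⟨b, rfl⟩⟩) ⟨?_, ?_⟩)).symm
  · intro b c e
    exact (uE_inj h (congrArg (fun x : Subgroup.center (unip h) => x.1.1) e)).2
  · rintro ⟨u, hu⟩
    obtain ⟨b, e⟩ := (mem_center_unip_iff h).1 hu
    exact ⟨b, Subtype.ext (Subtype.ext e.symm)⟩

theorem exponent_unip : Monoid.exponent (unip h) = 4 := by
  have h4 : ∀ u : unip h, u ^ 4 = 1 := by
    intro u
    obtain ⟨a, b, e⟩ := exists_uE h u.2
    apply Subtype.ext
    rw [SubmonoidClass.coe_pow, e, OneMemClass.coe_one]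
    have e4 : uE h a b ^ 4 = (uE h a b * uE h a b) * (uE h a b * uE h a b) := by
      simp [pow_succ, mul_assoc]
    rw [e4, uE_sq, uE_sq]
    simp [uE_zero]
  refine Nat.dvd_antisymm (Monoid.exponent_dvd_of_forall_pow_eq_one h4) ?_
  have : orderOf (⟨uE h 1 0, uE_mem h _ _⟩ : unip h) = 2 ^ (1 + 1) := by
    have : Fact (Nat.Prime 2) := ⟨Nat.prime_two⟩
    refine orderOf_eq_prime_pow ?_ (h4 _)
    intro e
    rw [pow_one] at e
    have e' := congrArg Subtype.val e
    rw [SubmonoidClass.coe_pow, OneMemClass.coe_one, pow_two] at e'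
    simp only [uE_sq, uE_eq_one] at e'
    simp at e'
  have hd := Monoid.order_dvd_exponent (⟨uE h 1 0, uE_mem h _ _⟩ : unip h)
  rw [this] at hd
  exact hd

/-- An element of order four is not inverted inside its centraliser's normaliser. -/
theorem not_real_of_ne_zero {a b : F} (ha : a ≠ 0) (g : G) :
    g * uE h a b * g⁻¹ ≠ (uE h a b)⁻¹ := by
  intro e
  have hu1 : uE h a b ≠ 1 := fun e' => ha ((uE_eq_one h).1 e').1
  obtain ⟨c, d, t, rfl⟩ := (mem_stab_inf h).1
    (mem_borel_of_conj_mem_unip h (uE_mem h a b) hu1 (by rw [e]; exact inv_mem (uE_mem h a b)))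
  rw [show uE h c d * dE h t * uE h a b * (uE h c d * dE h t)⁻¹ =
    uE h c d * (dE h t * uE h a b * (dE h t)⁻¹) * (uE h c d)⁻¹ by group, dE_conj, uE_conj,
    uE_inv] at e
  obtain ⟨e1, e2⟩ := uE_inj h e
  have ht := scale_eq_one_left h ha e1
  subst ht
  simp at e2
  obtain ⟨k, rfl⟩ : ∃ k, c = a * k := ⟨c / a, by field_simp⟩
  apply h.corner_ne_zero k
  have : sg m a * a * (sg m k + k + 1) = 0 := by
    rw [sg_mul] at e2
    linear_combination e2 + sg m a * a * h.two_eq_zero
  exact (mul_eq_zero.1 this).resolve_left (mul_ne_zero (sg_ne_zero ha) ha)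

/-! ### The unique maximal subgroup over `U` -/

include h in
theorem borel_ne_top : borel F m ≠ ⊤ := by
  intro e
  have : wE h ∈ borel F m := e ▸ Subgroup.mem_top _
  have h2 : W F • inf F = inf F := this
  rw [W_smul_inf (m := m)] at h2
  exact pt_ne_inf _ _ h2

theorem le_borel_of_unip_le {M : Subgroup G} (hM : unip h ≤ M) (hne : M ≠ ⊤) : M ≤ borel F m := by
  by_contra hc
  obtain ⟨g, hgM, hg⟩ := SetLike.not_le_iff_exists.1 hc
  have := isSimpleGroup_Sz h
  apply hne
  have htrans : ∀ p ∈ Cfsg.suzukiOvoid F m, ∃ k ∈ M, k • inf F = p := by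
    intro p hp
    by_cases hpi : p = inf F
    · exact ⟨1, M.one_mem, by rw [one_smul, hpi]⟩
    obtain ⟨s, hs, -⟩ := existsUnique_unip h (smul_mem_ovoid g.2 inf_mem) hp (fun e => hg e) hpi
    exact ⟨s * g, M.mul_mem (hM s.2) hgM, by rw [mul_smul]; exact hs⟩
  have hnc : ∀ (x : G), ∀ u ∈ unip h, x * u * x⁻¹ ∈ M := by
    intro x u hu
    obtain ⟨k, hk, hke⟩ := htrans _ (smul_mem_ovoid x.2 inf_mem)
    have hb : k⁻¹ * x ∈ borel F m := by
      show (k⁻¹ * x) • inf F = inf F
      rw [mul_smul, inv_smul_eq_iff]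
      exact hke.symm
    have h1 : (k⁻¹ * x) * u * (k⁻¹ * x)⁻¹ ∈ unip h :=
      (Subgroup.mem_normalizer_iff.1 (borel_le_normalizer h hb) u).1 hu
    have h2 := M.mul_mem (M.mul_mem hk (hM h1)) (M.inv_mem hk)
    convert h2 using 1
    group
  rcases Subgroup.Normal.eq_bot_or_eq_top
    (Subgroup.normalClosure_normal (s := (unip h : Set G))) with e | e
  · have h1 : uE h 1 0 ∈ Subgroup.normalClosure (unip h : Set G) :=
      Subgroup.subset_normalClosure (uE_mem h 1 0)
    rw [e, Subgroup.mem_bot] at h1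
    exact absurd ((uE_eq_one h).1 h1).1 one_ne_zero
  · rw [eq_top_iff, ← e, Subgroup.normalClosure, Subgroup.closure_le]
    intro y hy
    obtain ⟨u, hu, hc'⟩ := Group.mem_conjugatesOfSet_iff.1 hy
    obtain ⟨x, hx⟩ := isConj_iff.1 hc'
    rw [← hx]
    exact hnc x u hu

end CfsgLib.Suzuki
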