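/-
Suzuki group: the split torus, and the classification of elements by fixed points.
-/
import Cfsg.Agent.Suzuki.Sylow

set_option autoImplicit false

namespace CfsgLib.Suzuki

open Matrix

variable {F : Type*} [Field F] {m : ℕ}

local notation "PP" => Projectivization F (Fin 4 → F)
local notation "G" => SzG F m

variable (h : IsSzField F m)

/-- The split torus, of order `q - 1`. -/
def torus : Subgroup G := (dE h).range

/-- An element fixing no point of the ovoid. -/
def IsFpf (g : SzG F m) : Prop := ∀ p ∈ Cfsg.suzukiOvoid F m, g • p ≠ p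

theorem mem_torus_iff {g : G} : g ∈ torus h ↔ g • inf F = inf F ∧ g • pt m (0 : F) 0 = pt m 0 0 := by
  constructor
  · rintro ⟨t, rfl⟩
    refine ⟨D_smul_inf t, ?_⟩
    show D m t • pt m (0 : F) 0 = pt m 0 0
    rw [D_smul_pt h]
    simp
  · rintro ⟨g1, g2⟩
    obtain ⟨t, ht⟩ := twoPointStab h g.2 g1 g2
    exact ⟨t, Subtype.ext ht.symm⟩

theorem smul_mem_ovoid' (g : G) {p : PP} (hp : p ∈ Cfsg.suzukiOvoid F m) :
    g • p ∈ Cfsg.suzukiOvoid F m := smul_mem_ovoid g.2 hp

theorem card_torus : Nat.card (torus h) = Nat.card F - 1 := by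
  rw [torus, ← Nat.card_congr (MonoidHom.ofInjective (dE_injective h)).toEquiv, Nat.card_units]

theorem isCyclic_torus : IsCyclic (torus h) := by
  have := h.finite
  exact isCyclic_of_surjective _ (dE h).rangeRestrict_surjective

theorem torus_fixed {g : G} (hg : g ∈ torus h) (hg1 : g ≠ 1) {p : PP}
    (hp : p ∈ Cfsg.suzukiOvoid F m) (hgp : g • p = p) : p = inf F ∨ p = pt m (0 : F) 0 := by
  obtain ⟨t, rfl⟩ := hg
  rcases mem_ovoid.1 hp with rfl | ⟨x, y, rfl⟩
  · exact Or.inl rfl
  · right
    by_contra hne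
    refine hg1 ?_
    have hxy : x ≠ 0 ∨ y ≠ 0 := by
      by_contra hc
      simp only [not_or, not_not] at hc
      exact hne (by rw [hc.1, hc.2])
    rw [D_fix_pt h hxy hgp, map_one]

/-- The centraliser of a nontrivial torus element is the torus. -/
theorem centralizer_torus {g : G} (hg : g ∈ torus h) (hg1 : g ≠ 1) :
    Subgroup.centralizer ({g} : Set G) = torus h := by
  refine le_antisymm (fun k hk => ?_) ?_
  · have hc : g * k = k * g := (Subgroup.mem_centralizer_singleton_iff.1 hk).symm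
    have h1 : g • (k • inf F) = k • inf F := by
      rw [← mul_smul, hc, mul_smul, ((mem_torus_iff h).1 hg).1]
    have h2 : g • (k • pt m (0 : F) 0) = k • pt m 0 0 := by
      rw [← mul_smul, hc, mul_smul, ((mem_torus_iff h).1 hg).2]
    rcases torus_fixed h hg hg1 (smul_mem_ovoid' k inf_mem) h1 with e1 | e1
    · refine (mem_torus_iff h).2 ⟨e1, ?_⟩
      rcases torus_fixed h hg hg1 (smul_mem_ovoid' k (pt_mem 0 0)) h2 with e2 | e2
      · exact absurd ((smul_left_cancel_iff k).1 (e2.trans e1.symm)) (pt_ne_inf _ _)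
      · exact e2
    · rcases torus_fixed h hg hg1 (smul_mem_ovoid' k (pt_mem 0 0)) h2 with e2 | e2
      · exfalso
        have hk' : wE h * k ∈ torus h := by
          refine (mem_torus_iff h).2 ⟨?_, ?_⟩
          · rw [mul_smul, e1]; exact W_smul_pt_zero
          · rw [mul_smul, e2]; exact W_smul_inf
        obtain ⟨t, rfl⟩ := hg
        obtain ⟨s, hs⟩ := hk'
        have hk2 : k = wE h * dE h s := by rw [hs, ← mul_assoc, wE_mul_wE, one_mul]
        rw [hk2, ← mul_assoc, ← inv_inv t, ← wE_mul_dE, mul_assoc, mul_assoc] at hc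
        have := mul_left_cancel hc
        rw [← map_mul, ← map_mul] at this
        have h3 := dE_injective h this
        rw [inv_inv, mul_comm s t] at h3
        have h4 : t⁻¹ = t := mul_right_cancel h3
        apply hg1
        have : t = 1 := by
          have := h.charP
          apply Units.ext
          rw [Units.val_one]
          apply CharTwo.sq_inj.1
          rw [one_pow, pow_two, ← Units.val_mul]
          nth_rewrite 1 [← h4]
          rw [inv_mul_cancel, Units.val_one]
        rw [this, map_one]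
      · exact absurd ((smul_left_cancel_iff k).1 (e2.trans e1.symm)) (pt_ne_inf _ _)
  · intro k hk
    rw [Subgroup.mem_centralizer_singleton_iff]
    obtain ⟨t, rfl⟩ := hg
    obtain ⟨s, rfl⟩ := hk
    rw [← map_mul, ← map_mul, mul_comm]

/-- An element of the point stabiliser outside `U` fixes a second point. -/
theorem exists_second_fixed {g : G} (hg : g • inf F = inf F) (hu : g ∉ unip h) :
    ∃ x y : F, g • pt m x y = pt m x y := by
  obtain ⟨a, b, t, rfl⟩ := (mem_stab_inf h).1 hg
  have ht : t ≠ 1 := fun e => hu (by rw [e, map_one, mul_one]; exact uE_mem h a b)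
  have h1 : sg m (t : F) + 1 ≠ 0 := fun e =>
    ht (scale_eq_one_left h one_ne_zero (by linear_combination e - h.two_eq_zero))
  have h2 : sg m (t : F) * (t : F) ^ 2 + 1 ≠ 0 := fun e =>
    ht (scale_eq_one_right h one_ne_zero (by linear_combination e - h.two_eq_zero))
  refine ⟨a / (sg m (t : F) + 1),
    (sg m a * (sg m (t : F) * (a / (sg m (t : F) + 1))) + b) / (sg m (t : F) * (t : F) ^ 2 + 1), ?_⟩
  show (U m a b * D m t) • pt m (_ : F) _ = pt m (_ : F) _
  rw [mul_smul, D_smul_pt h, U_smul_pt h, pt_eq_iff]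
  constructor
  · field_simp
    linear_combination a * sg m (t : F) * h.two_eq_zero
  · field_simp
    linear_combination (sg m a * sg m (t : F) * a + b * (sg m (t : F) + 1)) *
      (sg m (t : F) * (t : F) ^ 2) * h.two_eq_zero

include h in
/-- An element with two fixed points is conjugate into the torus. -/
theorem exists_conj_torus {g : G} {p p' : PP} (hp : p ∈ Cfsg.suzukiOvoid F m)
    (hp' : p' ∈ Cfsg.suzukiOvoid F m) (hne : p ≠ p') (gp : g • p = p) (gp' : g • p' = p') :
    ∃ c : G, c * g * c⁻¹ ∈ torus h := by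
  obtain ⟨d, d1, d2⟩ := exists_pair h hp hp' hne
  refine ⟨d⁻¹, (mem_torus_iff h).2 ⟨?_, ?_⟩⟩
  · rw [mul_smul, mul_smul, inv_inv, d1, gp, ← d1, inv_smul_smul]
  · rw [mul_smul, mul_smul, inv_inv, d2, gp', ← d2, inv_smul_smul]

include h in
/-- Every element is conjugate into `U` or into the torus or fixes no point. -/
theorem trichotomy (g : G) :
    (∃ c : G, c * g * c⁻¹ ∈ unip h) ∨ (∃ c : G, c * g * c⁻¹ ∈ torus h) ∨ IsFpf g := by
  by_cases hf : IsFpf g
  · exact Or.inr (Or.inr hf)
  simp only [IsFpf, ne_eq, not_forall, not_not] at hf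
  obtain ⟨p, hp, hgp⟩ := hf
  obtain ⟨c, hc⟩ := exists_conj_to_inf h hp hgp
  have hc' : (c⁻¹ * g * c) • inf F = inf F := hc
  by_cases hu : c⁻¹ * g * c ∈ unip h
  · exact Or.inl ⟨c⁻¹, by rwa [inv_inv]⟩
  · obtain ⟨x, y, hxy⟩ := exists_second_fixed h hc' hu
    obtain ⟨d, hd⟩ := exists_conj_torus h inf_mem (pt_mem x y) (pt_ne_inf x y).symm hc' hxy
    exact Or.inr (Or.inl ⟨d * c⁻¹, by
      rwa [show d * c⁻¹ * g * (d * c⁻¹)⁻¹ = d * (c⁻¹ * g * c) * d⁻¹ by group]⟩)

theorem not_isFpf_of_conj_borel {g c : G} (hc : (c * g * c⁻¹) • inf F = inf F) : ¬ IsFpf g := by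
  intro hf
  refine hf (c⁻¹ • inf F) (smul_mem_ovoid' c⁻¹ inf_mem) ?_
  rw [mul_smul, mul_smul, ← eq_inv_smul_iff] at hc
  exact hc

theorem not_isFpf_one : ¬ IsFpf (1 : G) := fun hf => hf _ inf_mem (one_smul _ _)

theorem isFpf_conj {g : G} (hg : IsFpf g) (c : G) : IsFpf (c * g * c⁻¹) := by
  intro p hp e
  refine hg (c⁻¹ • p) (smul_mem_ovoid' c⁻¹ hp) ?_
  rw [mul_smul, mul_smul, ← eq_inv_smul_iff] at e
  exact e

include h in
/-- Whatever commutes with a fixed point free element is fixed point free. -/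
theorem isFpf_of_commute {g k : G} (hg : IsFpf g) (hk1 : k ≠ 1) (hc : g * k = k * g) :
    IsFpf k := by
  rcases trichotomy h k with ⟨c, hk⟩ | ⟨c, hk⟩ | hf
  · exfalso
    have hne : c * k * c⁻¹ ≠ 1 := fun e => hk1 (conj_eq_one_iff.1 e)
    have hcent : c * g * c⁻¹ ∈ Subgroup.centralizer ({c * k * c⁻¹} : Set G) := by
      rw [Subgroup.mem_centralizer_singleton_iff]
      calc c * g * c⁻¹ * (c * k * c⁻¹) = c * (g * k) * c⁻¹ := by group
        _ = c * (k * g) * c⁻¹ := by rw [hc]
        _ = _ := by group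
    exact not_isFpf_of_conj_borel (unip_le_stab h (centralizer_le_unip h hk hne hcent)) hg
  · exfalso
    have hne : c * k * c⁻¹ ≠ 1 := fun e => hk1 (conj_eq_one_iff.1 e)
    have hcent : c * g * c⁻¹ ∈ Subgroup.centralizer ({c * k * c⁻¹} : Set G) := by
      rw [Subgroup.mem_centralizer_singleton_iff]
      calc c * g * c⁻¹ * (c * k * c⁻¹) = c * (g * k) * c⁻¹ := by group
        _ = c * (k * g) * c⁻¹ := by rw [hc]
        _ = _ := by group
    rw [centralizer_torus h hk hne] at hcent
    exact not_isFpf_of_conj_borel ((mem_torus_iff h).1 hcent).1 hg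
  · exact hf

include h in
/-- A power of a fixed point free element is trivial or fixed point free. -/
theorem isFpf_pow {g : G} (hg : IsFpf g) (n : ℕ) (hn : g ^ n ≠ 1) : IsFpf (g ^ n) :=
  isFpf_of_commute h hg hn ((Commute.refl g).pow_right n)

include h in
theorem orderOf_dvd_of_isFpf {g : G} (hg : IsFpf g) :
    orderOf g ∣ Nat.card F ^ 2 + 1 := by
  have := h.finite
  have := finite_G h
  have := (ovoid_finite h).to_subtype
  rw [← card_ovoid F m, ← Nat.card_zpowers]
  have hfree : ∀ (p : Cfsg.suzukiOvoid F m),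
      MulAction.stabilizer (Subgroup.zpowers g) p = ⊥ := by
    intro p
    rw [Subgroup.eq_bot_iff_forall]
    rintro ⟨x, hx⟩ hxp
    obtain ⟨n, rfl⟩ := mem_powers_iff_mem_zpowers.2 hx
    apply Subtype.ext
    by_contra hne
    exact isFpf_pow h hg n hne p.1 p.2 (congrArg Subtype.val hxp)
  exact ⟨_, (Nat.card_congr (MulAction.selfEquivSigmaOrbitsQuotientStabilizer
    (Subgroup.zpowers g) (Cfsg.suzukiOvoid F m))).trans (by
      rw [Nat.card_congr (Equiv.sigmaCongrRight fun ω => (Subgroup.quotientEquivOfEq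
        (hfree _)).trans QuotientGroup.quotientBot.toEquiv), Nat.card_congr (Equiv.sigmaEquivProd _ _),
        Nat.card_prod, mul_comm])⟩

include h in
theorem odd_card_sq_add_one : Odd (Nat.card F ^ 2 + 1) := by
  rw [h.card]
  exact (Nat.even_pow.2 ⟨Nat.even_pow.2 ⟨even_two, by omega⟩, two_ne_zero⟩).add_one

include h in
theorem orderOf_odd_of_isFpf {g : G} (hg : IsFpf g) : Odd (orderOf g) :=
  (odd_card_sq_add_one h).of_dvd_nat (orderOf_dvd_of_isFpf h hg)

end CfsgLib.Suzuki
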