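/-
Suzuki group: fixed point free elements. Their eigenvalues over an algebraic closure, the
cyclicity of their centralisers, and the bound on the normaliser.
-/
import Cfsg.Agent.Suzuki.Torus
import Cfsg.Agent.Suzuki.LieModel

set_option autoImplicit false

namespace CfsgLib.Suzuki

open Matrix

variable {F : Type*} [Field F] {m : ℕ}

local notation "G" => SzG F m
local notation "K" => AlgebraicClosure F

/-- The matrix of a group element over the algebraic closure. -/
noncomputable def matK (g : SzG F m) : Matrix (Fin 4) (Fin 4) (AlgebraicClosure F) :=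
  (algebraMap F (AlgebraicClosure F)).mapMatrix g.1.val

theorem matK_mul (g k : G) : matK (g * k) = matK g * matK k := by
  rw [matK, matK, matK, ← map_mul]
  rfl

@[simp] theorem matK_one : matK (1 : G) = 1 := map_one _

theorem matK_pow (g : G) (n : ℕ) : matK (g ^ n) = matK g ^ n := by
  induction n with
  | zero => simp
  | succ n ih => rw [pow_succ, pow_succ, matK_mul, ih]

/-- `l` is an eigenvalue of `g` over the algebraic closure. -/
def IsEig (g : SzG F m) (l : AlgebraicClosure F) : Prop :=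
  ∃ v : Fin 4 → AlgebraicClosure F, v ≠ 0 ∧ matK g *ᵥ v = l • v

theorem isEig_iff_det (g : G) (l : K) :
    IsEig g l ↔ (l • (1 : Matrix (Fin 4) (Fin 4) K) - matK g).det = 0 := by
  rw [← Matrix.exists_mulVec_eq_zero_iff]
  simp only [IsEig, sub_mulVec, smul_mulVec, one_mulVec, sub_eq_zero, eq_comm]

theorem IsEig.pow {g : G} {l : K} (hl : IsEig g l) (n : ℕ) : IsEig (g ^ n) (l ^ n) := by
  obtain ⟨v, hv, he⟩ := hl
  refine ⟨v, hv, ?_⟩
  induction n with
  | zero => simp
  | succ n ih => rw [pow_succ, matK_mul, ← mulVec_mulVec, he, mulVec_smul, ih, smul_smul, pow_succ, mul_comm]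

theorem IsEig.eq_one {g : G} {l : K} (hl : IsEig g l) (hg : g = 1) : l = 1 := by
  obtain ⟨v, hv, he⟩ := hl
  rw [hg, matK_one, one_mulVec] at he
  by_contra hne
  refine hv ?_
  have : (l - 1) • v = 0 := by rw [sub_smul, one_smul, ← he, sub_self]
  exact (smul_eq_zero.1 this).resolve_left (sub_ne_zero.2 hne)

theorem IsEig.pow_orderOf {g : G} {l : K} (hl : IsEig g l) : l ^ orderOf g = 1 :=
  (hl.pow _).eq_one (pow_orderOf_eq_one g)

theorem IsEig.conj {g : G} {l : K} (hl : IsEig g l) (c : G) : IsEig (c * g * c⁻¹) l := by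
  obtain ⟨v, hv, he⟩ := hl
  have hinv : matK c⁻¹ *ᵥ (matK c *ᵥ v) = v := by
    rw [mulVec_mulVec, ← matK_mul, inv_mul_cancel, matK_one, one_mulVec]
  refine ⟨matK c *ᵥ v, fun e => hv ?_, ?_⟩
  · rw [← hinv, e, mulVec_zero]
  · rw [matK_mul, matK_mul, ← mulVec_mulVec, hinv, ← mulVec_mulVec, he, mulVec_smul]

variable (h : IsSzField F m)
include h

theorem charP_K : CharP K 2 := by
  have := h.charP
  exact charP_of_injective_ringHom (algebraMap F K).injective 2

/-- An element of odd order fixing a nonzero vector over the closure is trivial. -/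
theorem eq_one_of_isEig_one {g : G} (hodd : Odd (orderOf g)) (hl : IsEig g 1) : g = 1 := by
  have := h.finite
  have := h.charP
  let : Fintype F := Fintype.ofFinite F
  rw [isEig_iff_det, one_smul] at hl
  have hd : (1 - g.1.val).det = 0 := by
    apply (algebraMap F K).injective
    rw [RingHom.map_det, map_zero, map_sub, map_one]
    exact hl
  obtain ⟨v, hv, hgv⟩ := Matrix.exists_mulVec_eq_zero_iff.2 hd
  rw [sub_mulVec, one_mulVec, sub_eq_zero] at hgv
  have hm : SpecialLinearGroup.toGL g.1 ∈ Cfsg.Lie.Sz F (2 ^ (m + 1)) := toGL_mem_lie h g.2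
  have hord : ¬ 2 ∣ orderOf (SpecialLinearGroup.toGL g.1) := by
    rw [orderOf_injective _ SpecialLinearGroup.toGL_injective, Subgroup.orderOf_coe]
    exact Nat.two_dvd_ne_zero.2 (Nat.odd_iff.1 hodd)
  have := CfsgLib.SzFix.eq_one_of_fixed (e := 2 ^ (m + 1)) (by positivity) (exists_sgHom h) hm
    hord v hv hgv.symm
  refine Subtype.ext (SpecialLinearGroup.toGL_injective ?_)
  rw [this, OneMemClass.coe_one, map_one]

theorem IsEig.ne_one {g : G} {l : K} (hl : IsEig g l) (hg : IsFpf g) : l ≠ 1 := by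
  rintro rfl
  have hg1 := eq_one_of_isEig_one h (orderOf_odd_of_isFpf h hg) hl
  exact not_isFpf_one (hg1 ▸ hg)

/-- The characteristic equation. -/
theorem det_eq (g : G) (x : K) :
    (x • (1 : Matrix (Fin 4) (Fin 4) K) - matK g).det =
      x ^ 4 + algebraMap F K g.1.val.trace * x ^ 3 +
        algebraMap F K g.1.val.trace ^ (2 ^ (m + 1)) * x ^ 2 +
        algebraMap F K g.1.val.trace * x + 1 := by
  have := h.charP
  have := charP_K h
  set φ := algebraMap F K
  obtain ⟨hsp, hst⟩ := lieCond_of_mem h (toGL_mem_lie h g.2)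
  rw [toGL_val] at hst
  set A := g.1.val with hA
  have hdet : A.det = 1 := g.1.property
  have hinv := CfsgLib.SzFix.inv_eq hsp
  rw [toGL_val, ← hA] at hinv
  have hadj : A.adjugate.trace = A.trace := by
    have h1 : A.adjugate = CfsgLib.SzFix.J4 * Aᵀ * CfsgLib.SzFix.J4 := by
      calc A.adjugate = (CfsgLib.SzFix.J4 * Aᵀ * CfsgLib.SzFix.J4 * A) * A.adjugate := by
            rw [hinv, Matrix.one_mul]
        _ = CfsgLib.SzFix.J4 * Aᵀ * CfsgLib.SzFix.J4 * (A * A.adjugate) := by rw [Matrix.mul_assoc]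
        _ = CfsgLib.SzFix.J4 * Aᵀ * CfsgLib.SzFix.J4 := by
            rw [Matrix.mul_adjugate, hdet, one_smul, Matrix.mul_one]
    rw [h1, Matrix.trace_mul_cycle, CfsgLib.SzFix.J4_mul_J4, Matrix.one_mul, Matrix.trace_transpose]
  have hX : (A 0 0 * A 3 3 - A 3 0 * A 0 3) + (A 1 1 * A 2 2 - A 2 1 * A 1 2) = 0 := by
    have hc := CfsgLib.SzFix.form_of_mem hsp 0 3
    have hr := CfsgLib.SzFix.form_rows hsp 1 2
    simp [CfsgLib.SzFix.J4, toGL_val, ← hA] at hc hr
    linear_combination hc - hr + (A 1 1 * A 2 2 - A 3 0 * A 0 3) * CharTwo.two_eq_zero (R := F)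
  have he2 : (A 0 0 * A 1 1 - A 1 0 * A 0 1) + (A 0 0 * A 2 2 - A 2 0 * A 0 2) +
      (A 1 1 * A 3 3 - A 3 1 * A 1 3) + (A 2 2 * A 3 3 - A 3 2 * A 2 3) +
      (A 0 0 * A 3 3 - A 3 0 * A 0 3) + (A 1 1 * A 2 2 - A 2 1 * A 1 2) =
      sg m A.trace := by
    have h0 : (Cfsg.Lie.star4 A).trace = sg m A.trace := by
      rw [hst]
      simp [Matrix.trace, Fin.sum_univ_four, sg_def, ← h.sg_add]
      simp [← sg_def, h.sg_add]
    simp [Matrix.trace, Fin.sum_univ_four, Cfsg.Lie.star4, Cfsg.Lie.pairOf] at h0 ⊢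
    linear_combination h0 + hX
  have hmap := congrArg φ he2
  simp only [map_add, map_sub, map_mul, sg_def, map_pow] at hmap
  rw [CfsgLib.SzFix.det_four_sub, matK, ← RingHom.map_adjugate, ← RingHom.map_det, hdet,
    show (φ.mapMatrix A.adjugate).trace = φ A.adjugate.trace by simp [Matrix.trace, map_sum], hadj,
    show (φ.mapMatrix A).trace = φ A.trace by simp [Matrix.trace, map_sum]]
  simp only [RingHom.mapMatrix_apply, Matrix.map_apply, map_one, CharTwo.sub_eq_add] at hmap ⊢
  linear_combination x ^ 2 * hmap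

theorem IsEig.frobenius {g : G} {l : K} (hl : IsEig g l) : IsEig g (l ^ Nat.card F) := by
  have := h.finite
  let : Fintype F := Fintype.ofFinite F
  rw [isEig_iff_det, det_eq h] at hl ⊢
  have := congrArg (FiniteField.frobeniusAlgHom F K) hl
  simp only [map_add, map_mul, map_pow, map_one, map_zero, AlgHom.commutes,
    FiniteField.coe_frobeniusAlgHom, ← Nat.card_eq_fintype_card] at this
  exact this

theorem exists_isEig (g : G) : ∃ l : K, IsEig g l := by
  obtain ⟨l, hl⟩ := IsAlgClosed.exists_root (matK g).charpoly (by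
    rw [Matrix.charpoly_degree_eq_dim]; simp)
  refine ⟨l, (isEig_iff_det g l).2 ?_⟩
  rw [Polynomial.IsRoot, Matrix.eval_charpoly] at hl
  rwa [Matrix.smul_one_eq_diagonal, ← Matrix.scalar_apply]

theorem IsEig.ne_zero {g : G} {l : K} (hl : IsEig g l) : l ≠ 0 := by
  have := finite_G h
  intro e
  have := hl.pow_orderOf
  rw [e, zero_pow (orderOf_pos g).ne'] at this
  exact zero_ne_one this

/-- The eigenvalue is moved by the first three powers of the Frobenius map. -/
theorem IsEig.orbit_injective {g : G} {l : K} (hl : IsEig g l) (hg : IsFpf g) :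
    Function.Injective (fun i : Fin 4 => l ^ (Nat.card F ^ (i : ℕ))) := by
  have := h.finite
  have := charP_K h
  have hne := hl.ne_one h hg
  have hl0 := hl.ne_zero h
  set q := Nat.card F with hq
  have hq1 : 1 ≤ q := Nat.card_pos
  have hN : l ^ (q ^ 2 + 1) = 1 := by
    obtain ⟨k, hk⟩ := orderOf_dvd_of_isFpf h hg
    rw [← hq] at hk
    rw [hk, pow_mul, hl.pow_orderOf, one_pow]
  have hb : l ^ (q ^ 2) ≠ l := by
    intro e
    rw [pow_succ, e] at hN
    exact hne (CharTwo.sq_inj.1 (by rw [one_pow, pow_two]; exact hN))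
  have hbi : l ^ (q ^ 2) = l⁻¹ := eq_inv_of_mul_eq_one_left (by rw [← pow_succ, hN])
  have ha : l ^ q ≠ l := by
    intro e
    exact hb (by rw [pow_two, pow_mul, e, e])
  have hinj : Function.Injective (fun x : K => x ^ q) := by
    rw [hq, h.card]
    have : Fact (Nat.Prime 2) := ⟨Nat.prime_two⟩
    exact iterateFrobenius_inj K 2 _
  intro i j e
  have key : ∀ k : ℕ, k ∈ ({1, 2, 3} : Set ℕ) → l ^ (q ^ k) ≠ l := by
    rintro k (rfl | rfl | rfl)
    · rwa [pow_one]
    · exact hb
    · intro e3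
      rw [pow_succ, pow_mul, hbi, inv_pow] at e3
      refine hb ?_
      calc l ^ (q ^ 2) = (l ^ q) ^ q := by rw [pow_two, pow_mul]
        _ = l := by
          have e4 : l ^ q = l⁻¹ := by rw [← inv_inv (l ^ q), e3]
          rw [e4, inv_pow, e4, inv_inv]
  have main : ∀ a b : ℕ, a < b → b < 4 → l ^ (q ^ a) ≠ l ^ (q ^ b) := by
    intro a b hab hb4 e'
    have hd : ∀ a' : ℕ, ∀ x y : K, x ^ (q ^ a') = y ^ (q ^ a') → x = y := by
      intro a'
      induction a' with
      | zero => intro x y h'; simpa using h'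
      | succ n ih =>
        intro x y h'
        rw [pow_succ, pow_mul, pow_mul] at h'
        exact ih _ _ (hinj h')
    refine key (b - a) ?_ (hd a _ _ ?_)
    · have : b - a = 1 ∨ b - a = 2 ∨ b - a = 3 := by omega
      simpa using this
    · rw [← pow_mul, ← pow_add, Nat.sub_add_cancel hab.le, e']
  apply Fin.ext
  rcases lt_trichotomy (i : ℕ) j with h' | h' | h'
  · exact absurd e (main _ _ h' j.2)
  · exact h'
  · exact absurd e.symm (main _ _ h' i.2)

theorem IsEig.orbit {g : G} {l : K} (hl : IsEig g l) (k : ℕ) : IsEig g (l ^ (Nat.card F ^ k)) := by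
  induction k with
  | zero => simpa using hl
  | succ n ih => rw [pow_succ, pow_mul]; exact ih.frobenius h

/-- Eigenbasis of a fixed point free element. -/
theorem exists_eigenbasis {g : G} {l : K} (hl : IsEig g l) (hg : IsFpf g) :
    ∃ v : Fin 4 → (Fin 4 → K), LinearIndependent K v ∧
      ∀ i, matK g *ᵥ v i = l ^ (Nat.card F ^ (i : ℕ)) • v i := by
  choose v hv hev using fun i : Fin 4 => hl.orbit h (i : ℕ)
  refine ⟨v, ?_, hev⟩
  exact Module.End.eigenvectors_linearIndependent' (matK g).mulVecLin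
    (fun i : Fin 4 => l ^ (Nat.card F ^ (i : ℕ))) (hl.orbit_injective h hg) v
    (fun i => Module.End.hasEigenvector_iff.2 ⟨Module.End.mem_eigenspace_iff.2 (hev i), hv i⟩)

/-- The eigenvalues form one Frobenius orbit, and the eigenspaces are lines. -/
theorem IsEig.cases {g : G} {l x : K} {w : Fin 4 → K} (hl : IsEig g l) (hg : IsFpf g)
    {v : Fin 4 → (Fin 4 → K)} (hv : LinearIndependent K v)
    (hev : ∀ i, matK g *ᵥ v i = l ^ (Nat.card F ^ (i : ℕ)) • v i)
    (hw : w ≠ 0) (hx : matK g *ᵥ w = x • w) :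
    ∃ i : Fin 4, x = l ^ (Nat.card F ^ (i : ℕ)) ∧ ∃ c : K, w = c • v i := by
  classical
  let b := basisOfLinearIndependentOfCardEqFinrank hv (by simp)
  have hb : ∀ i, b i = v i := fun i => by simp [b]
  have hsum : ∑ i, (b.repr w i) • v i = w := by
    conv_rhs => rw [← b.sum_repr w]
    simp [hb]
  have hzero : ∑ i : Fin 4, ((l ^ (Nat.card F ^ (i : ℕ)) - x) * b.repr w i) • v i = 0 := by
    have e : matK g *ᵥ w = ∑ i, (b.repr w i * l ^ (Nat.card F ^ (i : ℕ))) • v i := by
      conv_lhs => rw [← hsum]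
      rw [mulVec_sum]
      exact Finset.sum_congr rfl fun i _ => by rw [mulVec_smul, hev, smul_smul]
    have e' : x • w = ∑ i, (x * b.repr w i) • v i := by
      conv_lhs => rw [← hsum]
      rw [Finset.smul_sum]
      exact Finset.sum_congr rfl fun i _ => by rw [smul_smul]
    rw [hx, e'] at e
    rw [← sub_eq_zero.2 e.symm, ← Finset.sum_sub_distrib]
    exact Finset.sum_congr rfl fun i _ => by rw [← sub_smul]; congr 1; ring
  have hc := Fintype.linearIndependent_iff.1 hv _ hzero
  obtain ⟨i, hi⟩ : ∃ i, b.repr w i ≠ 0 := by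
    by_contra hne
    simp only [not_exists, not_not] at hne
    exact hw (by rw [← hsum]; simp [hne])
  have hxi : x = l ^ (Nat.card F ^ (i : ℕ)) :=
    (sub_eq_zero.1 ((mul_eq_zero.1 (hc i)).resolve_right hi)).symm
  refine ⟨i, hxi, b.repr w i, ?_⟩
  conv_lhs => rw [← hsum]
  refine Finset.sum_eq_single i (fun j _ hji => ?_) (fun hn => absurd (Finset.mem_univ i) hn)
  have : b.repr w j = 0 := (mul_eq_zero.1 (hc j)).resolve_left (sub_ne_zero.2 fun e =>
    hji (hl.orbit_injective h hg (e.trans hxi)))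
  rw [this, zero_smul]

theorem IsEig.mem_orbit {g : G} {l x : K} (hl : IsEig g l) (hg : IsFpf g) (hx : IsEig g x) :
    ∃ i : Fin 4, x = l ^ (Nat.card F ^ (i : ℕ)) := by
  obtain ⟨w, hw, hx⟩ := hx
  obtain ⟨v, hv, hev⟩ := exists_eigenbasis h hl hg
  obtain ⟨i, hi, -⟩ := hl.cases h hg hv hev hw hx
  exact ⟨i, hi⟩

/-- The centraliser of a fixed point free element is cyclic. -/
theorem isCyclic_centralizer {g : G} (hg : IsFpf g) :
    IsCyclic (Subgroup.centralizer ({g} : Set G)) := by
  obtain ⟨l, hl⟩ := exists_isEig h g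
  obtain ⟨v0, hv0, he0⟩ := hl
  have hl' : IsEig g l := ⟨v0, hv0, he0⟩
  have hscal : ∀ k : Subgroup.centralizer ({g} : Set G), ∃ c : K, matK k.1 *ᵥ v0 = c • v0 := by
    intro k
    by_cases hw : matK k.1 *ᵥ v0 = 0
    · exact ⟨0, by rw [hw, zero_smul]⟩
    have hc : g * k.1 = k.1 * g := (Subgroup.mem_centralizer_singleton_iff.1 k.2).symm
    have hx : matK g *ᵥ (matK k.1 *ᵥ v0) = l • (matK k.1 *ᵥ v0) := by
      rw [mulVec_mulVec, ← matK_mul, hc, matK_mul, ← mulVec_mulVec, he0, mulVec_smul]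
    obtain ⟨v, hv, hev⟩ := exists_eigenbasis h hl' hg
    obtain ⟨i, hi, c, hc'⟩ := hl'.cases h hg hv hev hw hx
    obtain ⟨i', hi', c', hc''⟩ := hl'.cases h hg hv hev hv0 he0
    obtain rfl : i = i' := hl'.orbit_injective h hg (hi.symm.trans hi')
    have hc0 : c' ≠ 0 := fun e => hv0 (by rw [hc'', e, zero_smul])
    exact ⟨c / c', by rw [hc', hc'', smul_smul, div_mul_cancel₀ _ hc0]⟩
  choose c hc using hscal
  let χ : Subgroup.centralizer ({g} : Set G) →* K :=
    { toFun := c
      map_one' := by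
        have := hc 1
        rw [OneMemClass.coe_one, matK_one, one_mulVec] at this
        exact smul_left_injective K hv0 (by simpa using this.symm)
      map_mul' := fun a b => by
        have := hc (a * b)
        rw [Subgroup.coe_mul, matK_mul, ← mulVec_mulVec, hc b, mulVec_smul, hc a, smul_smul] at this
        exact smul_left_injective K hv0 (by simpa [mul_comm] using this.symm) }
  have := finite_G h
  refine isCyclic_of_injective_ringHom χ ((injective_iff_map_eq_one χ).2 fun k hk => ?_)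
  by_contra hk1
  have hne : k.1 ≠ 1 := fun e => hk1 (Subtype.ext e)
  have hf := isFpf_of_commute h hg hne (Subgroup.mem_centralizer_singleton_iff.1 k.2).symm
  refine IsEig.ne_one h ⟨v0, hv0, ?_⟩ hf rfl
  rw [hc k]
  exact congrArg (· • v0) hk

/-- An eigenvalue of a fixed point free element has the same order as the element. -/
theorem IsEig.orderOf_eq {g : G} {l : K} (hl : IsEig g l) (hg : IsFpf g) :
    orderOf l = orderOf g := by
  refine Nat.dvd_antisymm (orderOf_dvd_of_pow_eq_one hl.pow_orderOf) ?_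
  refine orderOf_dvd_of_pow_eq_one (by_contra fun hne => ?_)
  exact (hl.pow (orderOf l)).ne_one h (isFpf_pow h hg _ hne) (pow_orderOf_eq_one l)

omit h in
theorem add_inv_cases {x y : K} (hx : x ≠ 0) (hy : y ≠ 0) (e : x + x⁻¹ = y + y⁻¹) :
    x = y ∨ x = y⁻¹ := by
  have : (x - y) * (x * y - 1) = 0 := by
    field_simp at e
    linear_combination e
  rcases mul_eq_zero.1 this with e' | e'
  · exact Or.inl (sub_eq_zero.1 e')
  · exact Or.inr (eq_inv_of_mul_eq_one_left (sub_eq_zero.1 e'))

/-- The order of a fixed point free element divides `q+σ+1` or `q-σ+1`. -/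
theorem orderOf_dvd_pm {g : G} (hg : IsFpf g) :
    orderOf g ∣ 2 ^ (2 * m + 1) + 2 ^ (m + 1) + 1 ∨
      orderOf g ∣ 2 ^ (2 * m + 1) - 2 ^ (m + 1) + 1 := by
  have := h.finite
  let : Fintype F := Fintype.ofFinite F
  have := charP_K h
  have two : (2 : K) = 0 := CharTwo.two_eq_zero
  obtain ⟨l, hl⟩ := exists_isEig h g
  have hinj := hl.orbit_injective h hg
  have hN : l ^ (Nat.card F ^ 2 + 1) = 1 := by
    obtain ⟨k, hk⟩ := orderOf_dvd_of_isFpf h hg
    rw [hk, pow_mul, hl.pow_orderOf, one_pow]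
  rw [← hl.orderOf_eq h hg]
  have hl0 := hl.ne_zero h
  set q := Nat.card F with hq
  set s := 2 ^ (m + 1) with hs
  have hqs : q = 2 ^ (2 * m + 1) := h.card
  rw [← hqs]
  have hsq : s < q := by have := h.sigma_add_two_lt; omega
  have hs2 : s * s = 2 * q := by
    rw [hs, hqs, ← pow_add, show m + 1 + (m + 1) = 2 * m + 1 + 1 by omega, pow_succ, mul_comm]
  -- the two traces
  set T := algebraMap F K g.1.val.trace with hT
  have hTT : (T ^ s) ^ s = T ^ 2 := by
    rw [hT, ← map_pow, ← map_pow, ← map_pow]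
    exact congrArg _ (h.sg_sg _)
  set μ := l ^ q with hμ
  have hμ0 : μ ≠ 0 := pow_ne_zero _ hl0
  have hroot : ∀ x : K, IsEig g x → x ≠ 0 →
      (x + x⁻¹) ^ 2 + T * (x + x⁻¹) + T ^ s = 0 := by
    intro x hx hx0
    rw [isEig_iff_det, det_eq h, ← hT, ← hs] at hx
    field_simp
    linear_combination hx + x ^ 2 * two
  have ht := hroot l hl hl0
  have hu := hroot μ (by have := hl.orbit h 1; rwa [pow_one] at this) hμ0
  have hlinv : l ^ (q ^ 2) = l⁻¹ := eq_inv_of_mul_eq_one_left (by rw [← pow_succ, hN])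
  have htu : l + l⁻¹ ≠ μ + μ⁻¹ := by
    intro e
    rcases add_inv_cases hl0 hμ0 e with e' | e'
    · exact absurd (hinj (a₁ := (0 : Fin 4)) (a₂ := (1 : Fin 4)) (by simpa using e')) (by decide)
    · refine absurd (hinj (a₁ := (1 : Fin 4)) (a₂ := (2 : Fin 4)) ?_) (by decide)
      show l ^ q ^ 1 = l ^ q ^ 2
      rw [pow_one, hlinv, ← hμ, e', inv_inv]
  set t := l + l⁻¹
  set u := μ + μ⁻¹
  have hsum : t + u = T := by
    have : (t - u) * (t + u + T) = 0 := by linear_combination ht - hu
    have := (mul_eq_zero.1 this).resolve_left (sub_ne_zero.2 htu)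
    linear_combination this - T * two
  have hprod : t * u = T ^ s := by
    linear_combination -ht + t * hsum + t * T * two
  have : Fact (Nat.Prime 2) := ⟨Nat.prime_two⟩
  have hts : (t ^ s) ^ 2 + T ^ s * t ^ s + T ^ 2 = 0 := by
    have h' := congrArg (fun x : K => x ^ s) ht
    simp only [hs, add_pow_char_pow] at h'
    rw [zero_pow (by positivity), mul_pow, ← hs, hTT, ← pow_mul, mul_comm 2 s, pow_mul] at h'
    exact h'
  set A := l * μ + (l * μ)⁻¹ with hAdef
  set B := l / μ + (l / μ)⁻¹ with hBdef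
  have hAB : A + B = T ^ s := by
    rw [← hprod, hAdef, hBdef]
    simp only [t, u]
    field_simp
    ring
  have hAB2 : A * B = T ^ 2 := by
    rw [← hsum, hAdef, hBdef]
    simp only [t, u]
    field_simp
    rw [← sub_eq_zero]
    ring_nf
    simp [two, show (4 : K) = 0 by linear_combination (2 : K) * two]
  have hcase : t ^ s = A ∨ t ^ s = B := by
    have : (t ^ s - A) * (t ^ s - B) = 0 := by
      linear_combination hts - t ^ s * hAB + hAB2 + (-(t ^ s * T ^ s)) * two
    rcases mul_eq_zero.1 this with e | e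
    · exact Or.inl (sub_eq_zero.1 e)
    · exact Or.inr (sub_eq_zero.1 e)
  have hts' : t ^ s = l ^ s + (l ^ s)⁻¹ := by
    simp only [t, hs, add_pow_char_pow, inv_pow]
  have cancel : ∀ a b : ℕ, a ≤ b → l ^ b = l ^ a → l ^ (b - a) = 1 := by
    intro a b hab e
    have e' : l ^ (b - a) * l ^ a = 1 * l ^ a := by
      rw [← pow_add, Nat.sub_add_cancel hab, one_mul, e]
    exact mul_right_cancel₀ (pow_ne_zero _ hl0) e'
  have hlone : l ≠ 1 := hl.ne_one h hg
  have hodd : Odd (orderOf l) := by rw [hl.orderOf_eq h hg]; exact orderOf_odd_of_isFpf h hg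
  rcases hcase with e | e <;> rw [hts'] at e
  · rcases add_inv_cases (pow_ne_zero _ hl0) (mul_ne_zero hl0 hμ0) e with e' | e'
    · right
      refine orderOf_dvd_of_pow_eq_one ?_
      have := cancel s (q + 1) (by omega) (by rw [pow_succ, ← hμ, mul_comm, e'])
      rwa [show q - s + 1 = q + 1 - s by omega]
    · left
      refine orderOf_dvd_of_pow_eq_one ?_
      rw [show q + s + 1 = s + (q + 1) by omega, pow_add, pow_succ, ← hμ, e', mul_comm μ l,
        inv_mul_cancel₀ (mul_ne_zero hl0 hμ0)]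
  · -- impossible: it forces `l ^ (4 * q) = 1`
    exfalso
    have key : l ^ (s + q) = l ∨ l ^ (s + 1) = l ^ q := by
      rcases add_inv_cases (pow_ne_zero _ hl0) (div_ne_zero hl0 hμ0) e with e' | e'
      · left
        rw [pow_add, ← hμ, e', div_mul_cancel₀ _ hμ0]
      · right
        rw [pow_succ, ← hμ, e', inv_div, div_mul_cancel₀ _ hl0]
    have h3 : l ^ (q * q) = l⁻¹ := by rw [← pow_two]; exact hlinv
    have h4q : l ^ (4 * q) = 1 := by
      rcases key with h1 | h1
      · -- `l ^ s = l ^ (1 - q)`, raise to `s`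
        have e1 : l ^ ((s + q) * s) = l ^ s := by rw [pow_mul, h1]
        have e2 : l ^ ((s + q) * q) = l ^ q := by rw [pow_mul, h1]
        have e3 : l ^ (q * s) * l⁻¹ = l ^ q := by
          rw [← h3, ← pow_add, ← e2]; congr 1; ring
        have e4 : l ^ (2 * q) * l ^ (q * s) = l ^ s := by
          rw [← pow_add, ← e1]; congr 1; rw [← hs2]; ring
        have e5 : l ^ (q * s) = l ^ q * l := by
          rw [← e3, mul_assoc, inv_mul_cancel₀ hl0, mul_one]
        rw [e5] at e4
        have e6 : l ^ (4 * q) * l = l := by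
          calc l ^ (4 * q) * l = l ^ (2 * q) * (l ^ q * l) * l ^ q := by
                rw [show 4 * q = 2 * q + q + q by ring, pow_add, pow_add]; ring
            _ = l ^ s * l ^ q := by rw [e4]
            _ = l := by rw [← pow_add, h1]
        exact (mul_eq_right₀ hl0).1 e6
      · have e1 : l ^ ((s + 1) * s) = l ^ (q * s) := by rw [pow_mul, h1, ← pow_mul]
        have e2 : l ^ ((s + 1) * q) = l ^ (q * q) := by rw [pow_mul, h1, ← pow_mul]
        have e3 : l ^ (q * s) * l ^ q * l = 1 := by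
          rw [← pow_add, show q * s + q = (s + 1) * q by ring, e2, h3, inv_mul_cancel₀ hl0]
        have e4 : l ^ (2 * q) * l ^ s = l ^ (q * s) := by
          rw [← pow_add, ← e1]; congr 1; rw [← hs2]; ring
        rw [← e4] at e3
        calc l ^ (4 * q) = l ^ (2 * q) * l ^ q * l ^ q := by
              rw [← pow_add, ← pow_add]; congr 1; ring
          _ = l ^ (2 * q) * l ^ s * l ^ q * l := by rw [← h1, pow_succ]; ring
          _ = 1 := e3
    have hdvd : orderOf l ∣ 2 ^ (2 * m + 1 + 2) := by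
      refine orderOf_dvd_of_pow_eq_one ?_
      rw [pow_add, ← hqs, mul_comm]; exact h4q
    obtain ⟨j, -, hj⟩ := (Nat.dvd_prime_pow Nat.prime_two).1 hdvd
    rcases Nat.eq_zero_or_pos j with rfl | hj0
    · exact hlone (orderOf_eq_one_iff.1 (by simpa using hj))
    · rw [hj] at hodd
      exact (Nat.not_even_iff_odd.2 hodd) (Nat.even_pow.2 ⟨even_two, by omega⟩)

end CfsgLib.Suzuki
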