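/-
Suzuki group: the partition into conjugates of `U`, the split torus and the two cyclic tori of
orders `q + σ + 1` and `q - σ + 1`.
-/
import Cfsg.Agent.Suzuki.Fpf

set_option autoImplicit false

namespace CfsgLib.Suzuki

open Matrix

section TI

variable {Γ : Type*} [Group Γ]

/-- The nontrivial elements having a conjugate in `A`. -/
def conjSet (A : Subgroup Γ) : Set Γ := {y | y ≠ 1 ∧ ∃ c : Γ, c * y * c⁻¹ ∈ A}

/-- Trivial intersection in the strong form: an element moving some `x ≠ 1` of `A` into `A`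
normalises `A`. -/
def IsTI (A : Subgroup Γ) : Prop :=
  ∀ c x : Γ, x ∈ A → x ≠ 1 → c * x * c⁻¹ ∈ A → c ∈ Subgroup.normalizer (A : Set Γ)

theorem card_conjSet_mul [Finite Γ] {A : Subgroup Γ} (hA : IsTI A) :
    Nat.card (conjSet A) * Nat.card (Subgroup.normalizer (A : Set Γ)) =
      Nat.card Γ * (Nat.card A - 1) := by
  classical
  let C : conjSet A → Γ := fun y => y.2.2.choose
  have hC : ∀ y : conjSet A, C y * y.1 * (C y)⁻¹ ∈ A := fun y => y.2.2.choose_spec
  have hne : ∀ y : conjSet A, C y * y.1 * (C y)⁻¹ ≠ 1 := fun y e => y.2.1 (conj_eq_one_iff.1 e)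
  let toY : Γ × {x : A // x ≠ 1} → conjSet A := fun p =>
    ⟨p.1⁻¹ * p.2.1.1 * p.1, by
      intro e
      apply p.2.2
      apply Subtype.ext
      have : p.2.1.1 = p.1 * (p.1⁻¹ * p.2.1.1 * p.1) * p.1⁻¹ := by group
      rw [this, e]; simp,
      p.1, by
      have : p.1 * (p.1⁻¹ * p.2.1.1 * p.1) * p.1⁻¹ = p.2.1.1 := by group
      rw [this]; exact p.2.1.2⟩
  let f : Γ × {x : A // x ≠ 1} → conjSet A × Subgroup.normalizer (A : Set Γ) := fun p =>
    (toY p, ⟨p.1 * (C (toY p))⁻¹, hA _ _ (hC (toY p)) (hne _) (by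
      have : p.1 * (C (toY p))⁻¹ * (C (toY p) * (toY p).1 * (C (toY p))⁻¹) *
          (p.1 * (C (toY p))⁻¹)⁻¹ = p.2.1.1 := by
        show p.1 * (C (toY p))⁻¹ * (C (toY p) * (p.1⁻¹ * p.2.1.1 * p.1) * (C (toY p))⁻¹) *
          (p.1 * (C (toY p))⁻¹)⁻¹ = p.2.1.1
        group
      rw [this]; exact p.2.1.2)⟩)
  have hbij : Function.Bijective f := by
    constructor
    · rintro ⟨c, x⟩ ⟨c', x'⟩ e
      obtain ⟨e1, e2⟩ := Prod.ext_iff.1 e
      have e1' : toY (c, x) = toY (c', x') := e1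
      have e2' : c * (C (toY (c, x)))⁻¹ = c' * (C (toY (c', x')))⁻¹ := congrArg Subtype.val e2
      rw [e1'] at e2'
      obtain rfl := mul_right_cancel e2'
      refine Prod.ext rfl (Subtype.ext (Subtype.ext ?_))
      exact mul_left_cancel (mul_right_cancel (congrArg Subtype.val e1'))
    · rintro ⟨y, n⟩
      have hz : n.1 * (C y * y.1 * (C y)⁻¹) * n.1⁻¹ ∈ A :=
        (Subgroup.mem_normalizer_iff.1 n.2 _).1 (hC y)
      refine ⟨(n.1 * C y, ⟨⟨_, hz⟩, fun e => hne y
        (conj_eq_one_iff.1 (congrArg Subtype.val e))⟩), ?_⟩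
      have hy : toY (n.1 * C y, ⟨⟨_, hz⟩, fun e => hne y
          (conj_eq_one_iff.1 (congrArg Subtype.val e))⟩) = y := by
        apply Subtype.ext
        show (n.1 * C y)⁻¹ * (n.1 * (C y * y.1 * (C y)⁻¹) * n.1⁻¹) * (n.1 * C y) = y.1
        group
      refine Prod.ext hy (Subtype.ext ?_)
      show n.1 * C y * (C (toY _))⁻¹ = n.1
      rw [hy, mul_inv_cancel_right]
  have hcard : Nat.card {x : A // x ≠ 1} = Nat.card A - 1 := by
    let : Fintype A := Fintype.ofFinite A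
    rw [Nat.card_eq_fintype_card, Nat.card_eq_fintype_card, Fintype.card_subtype_compl,
      Fintype.card_subtype_eq]
  rw [← hcard, ← Nat.card_prod, ← Nat.card_prod, Nat.card_eq_of_bijective f hbij]

end TI

variable {F : Type*} [Field F] {m : ℕ}

local notation "G" => SzG F m

variable (h : IsSzField F m)

omit h in
theorem orderOf_conj_eq (c y : G) : orderOf (c * y * c⁻¹) = orderOf y :=
  (MulAut.conj c).orderOf_eq y

theorem isTI_unip : IsTI (unip h) := fun _ _ hx hx1 hc => by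
  rw [normalizer_unip]
  exact mem_borel_of_conj_mem_unip h hx hx1 hc

/-- A self-centralising subgroup in the strong sense is TI. -/
theorem isTI_of_centralizer {A : Subgroup G}
    (hA : ∀ x ∈ A, x ≠ 1 → Subgroup.centralizer ({x} : Set G) = A) : IsTI A := by
  intro c x hx hx1 hc
  have hne : c * x * c⁻¹ ≠ 1 := fun e => hx1 (conj_eq_one_iff.1 e)
  refine Subgroup.mem_normalizer_iff.2 fun y => ?_
  rw [← hA x hx hx1]
  constructor
  · intro hy
    rw [hA x hx hx1, ← hA _ hc hne, Subgroup.mem_centralizer_singleton_iff]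
    have hy' := Subgroup.mem_centralizer_singleton_iff.1 hy
    calc c * y * c⁻¹ * (c * x * c⁻¹) = c * (y * x) * c⁻¹ := by group
      _ = c * (x * y) * c⁻¹ := by rw [hy']
      _ = _ := by group
  · intro hy
    rw [hA x hx hx1, ← hA _ hc hne, Subgroup.mem_centralizer_singleton_iff] at hy
    rw [Subgroup.mem_centralizer_singleton_iff]
    calc y * x = c⁻¹ * (c * y * c⁻¹ * (c * x * c⁻¹)) * c := by group
      _ = c⁻¹ * (c * x * c⁻¹ * (c * y * c⁻¹)) * c := by rw [hy]
      _ = _ := by group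

theorem isTI_torus : IsTI (torus h) :=
  isTI_of_centralizer fun _ hx hx1 => centralizer_torus h hx hx1

theorem wE_smul_inf : wE h • inf F = pt m (0 : F) 0 := W_smul_inf

theorem wE_smul_zero : wE h • pt m (0 : F) 0 = inf F := W_smul_pt_zero

theorem wE_normalizes_torus : wE h ∈ Subgroup.normalizer (torus h : Set G) := by
  refine Subgroup.mem_normalizer_iff.2 fun x => ?_
  rw [mem_torus_iff, mem_torus_iff]
  have hw : (wE h)⁻¹ = wE h := inv_eq_of_mul_eq_one_right (wE_mul_wE h)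
  rw [hw, mul_smul, mul_smul, mul_smul, mul_smul, wE_smul_inf, wE_smul_zero]
  constructor
  · rintro ⟨e1, e2⟩
    rw [e1, e2, wE_smul_inf, wE_smul_zero]
    exact ⟨rfl, rfl⟩
  · rintro ⟨e1, e2⟩
    rw [smul_eq_iff_eq_inv_smul, hw, wE_smul_inf] at e1
    rw [smul_eq_iff_eq_inv_smul, hw, wE_smul_zero] at e2
    exact ⟨e2, e1⟩

theorem card_normalizer_torus :
    Nat.card (Subgroup.normalizer (torus h : Set G)) = 2 * (Nat.card F - 1) := by
  have := h.finite
  have hnT : ∀ t : Fˣ, dE h t ∈ Subgroup.normalizer (torus h : Set G) :=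
    fun t => Subgroup.le_normalizer ⟨t, rfl⟩
  have hbool : Nat.card Bool = 2 := by simp
  rw [← hbool, ← Nat.card_units, ← Nat.card_prod]
  refine (Nat.card_eq_of_bijective (fun p : Bool × Fˣ =>
    (⟨(if p.1 then wE h else 1) * dE h p.2, ?_⟩ : Subgroup.normalizer (torus h : Set G))) ⟨?_, ?_⟩).symm
  · split
    · exact mul_mem (wE_normalizes_torus h) (hnT _)
    · exact mul_mem (one_mem _) (hnT _)
  · rintro ⟨b, t⟩ ⟨b', t'⟩ e
    have e' : (if b then wE h else 1) * dE h t = (if b' then wE h else 1) * dE h t' :=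
      congrArg Subtype.val e
    have key := congrArg (fun g : G => g • inf F) e'
    have hd : ∀ s, dE h s • inf F = inf F := fun s => D_smul_inf s
    cases b <;> cases b' <;> simp [mul_smul, hd, wE_smul_inf] at key e' <;>
      first
        | exact Prod.ext rfl (dE_injective h e')
        | exact absurd key (pt_ne_inf _ _)
        | exact absurd key.symm (pt_ne_inf _ _)
  · rintro ⟨n, hn⟩
    obtain ⟨t₀, ht₀, -⟩ := exists_unit_sg_ne_one h
    have hne : dE h t₀ ≠ 1 := fun e => ht₀ (by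
      rw [dE_injective h (e.trans (map_one _).symm), Units.val_one, sg_one]
      linear_combination h.two_eq_zero)
    have hT : dE h t₀ ∈ torus h := ⟨t₀, rfl⟩
    obtain ⟨e1, e2⟩ := (mem_torus_iff h).1 hT
    have hc : n⁻¹ * dE h t₀ * n⁻¹⁻¹ ∈ torus h :=
      (Subgroup.mem_normalizer_iff.1 (inv_mem hn) _).1 hT
    have hc1 : n⁻¹ * dE h t₀ * n⁻¹⁻¹ ≠ 1 := fun e => hne (conj_eq_one_iff.1 e)
    obtain ⟨c1, c2⟩ := (mem_torus_iff h).1 hc
    rw [inv_inv, mul_smul, mul_smul, inv_smul_eq_iff] at c1 c2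
    rcases torus_fixed h hT hne (smul_mem_ovoid' n inf_mem) c1 with a | a <;>
      rcases torus_fixed h hT hne (smul_mem_ovoid' n (pt_mem 0 0)) c2 with b | b
    · exact absurd ((smul_left_cancel_iff n).1 (b.trans a.symm)) (pt_ne_inf _ _)
    · obtain ⟨t, ht⟩ := (mem_torus_iff h).2 ⟨a, b⟩
      exact ⟨(false, t), Subtype.ext (by simp [ht])⟩
    · obtain ⟨t, ht⟩ := (mem_torus_iff h).2 (show (wE h * n) • inf F = inf F ∧
          (wE h * n) • pt m (0 : F) 0 = pt m 0 0 by
        rw [mul_smul, mul_smul, a, b, wE_smul_zero, wE_smul_inf]; exact ⟨rfl, rfl⟩)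
      exact ⟨(true, t), Subtype.ext (by simp [ht, ← mul_assoc, wE_mul_wE])⟩
    · exact absurd ((smul_left_cancel_iff n).1 (b.trans a.symm)) (pt_ne_inf _ _)

include h in
theorem coprime_unip_torus_card : Nat.Coprime (Nat.card F ^ 2) (Nat.card F - 1) := by
  rw [h.card, ← pow_mul]
  refine Nat.Coprime.pow_left _ ((Nat.prime_two.coprime_iff_not_dvd).2 ?_)
  have h1 : 0 < 2 ^ (2 * m + 1) := by positivity
  have h2 : 2 ∣ 2 ^ (2 * m + 1) := dvd_pow_self 2 (by omega)
  omega

include h in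
theorem card_fpf :
    2 * (Nat.card {g : G // IsFpf g}) = Nat.card F ^ 3 * (Nat.card F - 1) ^ 2 := by
  have := h.finite
  have := finite_G h
  set q := Nat.card F with hq
  have h4 := h.sigma_add_two_lt
  have hq8 : 2 < q := by rw [hq, h.card]; have := h.four_le; omega
  have hU := card_conjSet_mul (isTI_unip h)
  rw [normalizer_unip, card_borel h, card_unip, card_Sz h, ← hq] at hU
  have hT := card_conjSet_mul (isTI_torus h)
  rw [card_normalizer_torus, card_torus, card_Sz h, ← hq] at hT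
  have hdisj : Disjoint (conjSet (unip h)) (conjSet (torus h)) := by
    refine Set.disjoint_left.2 fun y ⟨hy, c, hc⟩ ⟨_, d, hd⟩ => hy ?_
    rw [← orderOf_eq_one_iff]
    refine Nat.eq_one_of_dvd_coprimes (coprime_unip_torus_card h) ?_ ?_
    · have := Subgroup.orderOf_dvd_natCard _ hc
      rwa [orderOf_conj_eq, card_unip] at this
    · have := Subgroup.orderOf_dvd_natCard _ hd
      rwa [orderOf_conj_eq, card_torus] at this
  have hcompl : {g : G | IsFpf g} = ({1} ∪ (conjSet (unip h) ∪ conjSet (torus h)))ᶜ := by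
    ext g
    simp only [Set.mem_setOf_eq, Set.mem_compl_iff, Set.mem_union, Set.mem_singleton_iff]
    constructor
    · rintro hg (rfl | ⟨-, c, hc⟩ | ⟨-, c, hc⟩)
      · exact not_isFpf_one hg
      · exact not_isFpf_of_conj_borel (c := c) (unip_le_stab h hc) hg
      · exact not_isFpf_of_conj_borel (c := c) ((mem_torus_iff h).1 hc).1 hg
    · intro hg
      rcases trichotomy h g with ⟨c, hc⟩ | ⟨c, hc⟩ | hf
      · by_contra
        exact hg (or_iff_not_imp_left.2 fun h1 => Or.inl ⟨h1, c, hc⟩)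
      · by_contra
        exact hg (or_iff_not_imp_left.2 fun h1 => Or.inr ⟨h1, c, hc⟩)
      · exact hf
  have hd1 : Disjoint ({1} : Set G) (conjSet (unip h) ∪ conjSet (torus h)) := by
    rw [Set.disjoint_singleton_left]
    rintro (⟨h1, -⟩ | ⟨h1, -⟩) <;> exact h1 rfl
  have hN : Set.ncard {g : G | IsFpf g} +
      (1 + ((conjSet (unip h)).ncard + (conjSet (torus h)).ncard)) = Nat.card G := by
    rw [hcompl, ← Set.ncard_union_eq hdisj, ← Set.ncard_singleton (1 : G),
      ← Set.ncard_union_eq hd1, add_comm]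
    exact Set.ncard_add_ncard_compl _
  rw [Nat.card_coe_set_eq] at hU hT
  rw [card_Sz h, ← hq] at hN
  have e : Nat.card {g : G // IsFpf g} = Set.ncard {g : G | IsFpf g} := Nat.card_coe_set_eq _
  rw [e]
  set N₀ := Set.ncard {g : G | IsFpf g}
  set CU := (conjSet (unip h)).ncard
  set CT := (conjSet (torus h)).ncard
  have h1 : 1 ≤ q := by omega
  have h2 : 1 ≤ q ^ 2 := Nat.one_le_pow _ _ (by omega)
  have h3 : 1 ≤ q - 1 := by omega
  have hU' : (CU : ℤ) = ((q : ℤ) ^ 2 + 1) * ((q : ℤ) ^ 2 - 1) := by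
    have := congrArg (fun x : ℕ => (x : ℤ)) hU
    push_cast [Nat.cast_sub h1, Nat.cast_sub h2] at this
    refine mul_right_cancel₀ (b := (q : ℤ) ^ 2 * ((q : ℤ) - 1))
      (mul_ne_zero (pow_ne_zero _ (by omega)) (by omega)) ?_
    linear_combination this
  have hT' : 2 * (CT : ℤ) = (q : ℤ) ^ 2 * ((q : ℤ) ^ 2 + 1) * ((q : ℤ) - 2) := by
    have := congrArg (fun x : ℕ => (x : ℤ)) hT
    push_cast [Nat.cast_sub h1, Nat.cast_sub h3] at this
    refine mul_right_cancel₀ (b := (q : ℤ) - 1) (by omega) ?_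
    linear_combination this
  have hN' := congrArg (fun x : ℕ => (x : ℤ)) hN
  push_cast [Nat.cast_sub h1] at hN'
  zify [h1]
  linear_combination 2 * hN' - 2 * hU' - hT'

/-! ### The centraliser of a fixed point free element -/

theorem centralizer_fpf_eq {g x : G} (hg : IsFpf g)
    (hx : x ∈ Subgroup.centralizer ({g} : Set G)) (hx1 : x ≠ 1) (hz : IsSzField F m) :
    IsFpf x ∧ Subgroup.centralizer ({x} : Set G) = Subgroup.centralizer ({g} : Set G) := by
  have hgx := Subgroup.mem_centralizer_singleton_iff.1 hx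
  have hxf := isFpf_of_commute hz hg hx1 hgx.symm
  refine ⟨hxf, le_antisymm (fun y hy => ?_) (fun y hy => ?_)⟩
  · have := isCyclic_centralizer hz hxf
    let : CommGroup (Subgroup.centralizer ({x} : Set G)) := IsCyclic.commGroup
    rw [Subgroup.mem_centralizer_singleton_iff]
    exact congrArg Subtype.val (mul_comm (⟨y, hy⟩ : Subgroup.centralizer ({x} : Set G))
      ⟨g, Subgroup.mem_centralizer_singleton_iff.2 hgx.symm⟩)
  · have := isCyclic_centralizer hz hg
    let : CommGroup (Subgroup.centralizer ({g} : Set G)) := IsCyclic.commGroup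
    rw [Subgroup.mem_centralizer_singleton_iff]
    exact congrArg Subtype.val (mul_comm (⟨y, hy⟩ : Subgroup.centralizer ({g} : Set G)) ⟨x, hx⟩)

/-- A cyclic torus without fixed points: the centraliser of one of its elements. -/
def IsFpfTorus (A : Subgroup (SzG F m)) : Prop :=
  ∃ g : SzG F m, IsFpf g ∧ A = Subgroup.centralizer ({g} : Set (SzG F m))

include h in
theorem IsFpfTorus.isFpf {A : Subgroup G} (hA : IsFpfTorus A) {x : G} (hx : x ∈ A) (hx1 : x ≠ 1) :
    IsFpf x := by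
  obtain ⟨g, hg, rfl⟩ := hA
  exact (centralizer_fpf_eq hg hx hx1 h).1

include h in
theorem IsFpfTorus.centralizer_eq {A : Subgroup G} (hA : IsFpfTorus A) {x : G} (hx : x ∈ A)
    (hx1 : x ≠ 1) : Subgroup.centralizer ({x} : Set G) = A := by
  obtain ⟨g, hg, rfl⟩ := hA
  exact (centralizer_fpf_eq hg hx hx1 h).2

include h in
theorem IsFpfTorus.isCyclic {A : Subgroup G} (hA : IsFpfTorus A) : IsCyclic A := by
  obtain ⟨g, hg, rfl⟩ := hA
  exact isCyclic_centralizer h hg

include h in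
theorem IsFpfTorus.isTI {A : Subgroup G} (hA : IsFpfTorus A) : IsTI A :=
  isTI_of_centralizer fun _ hx hx1 => hA.centralizer_eq h hx hx1

theorem IsFpfTorus.ne_bot {A : Subgroup G} (hA : IsFpfTorus A) : A ≠ ⊥ := by
  obtain ⟨g, hg, rfl⟩ := hA
  intro e
  have hmem : g ∈ Subgroup.centralizer ({g} : Set G) :=
    Subgroup.mem_centralizer_singleton_iff.2 rfl
  rw [e, Subgroup.mem_bot] at hmem
  exact not_isFpf_one (hmem ▸ hg)

include h in
theorem IsFpfTorus.exists_generator {A : Subgroup G} (hA : IsFpfTorus A) :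
    ∃ x ∈ A, x ≠ 1 ∧ orderOf x = Nat.card A := by
  have := finite_G h
  have := hA.isCyclic h
  obtain ⟨x, hx⟩ := IsCyclic.exists_ofOrder_eq_natCard (α := A)
  refine ⟨x.1, x.2, fun e => ?_, by rw [Subgroup.orderOf_coe, hx]⟩
  apply hA.ne_bot
  rw [← Subgroup.card_eq_one, ← hx, ← Subgroup.orderOf_coe, e, orderOf_one]

include h in
theorem IsFpfTorus.card_dvd {A : Subgroup G} (hA : IsFpfTorus A) :
    Nat.card A ∣ 2 ^ (2 * m + 1) + 2 ^ (m + 1) + 1 ∨
      Nat.card A ∣ 2 ^ (2 * m + 1) - 2 ^ (m + 1) + 1 := by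
  obtain ⟨x, hx, hx1, ho⟩ := hA.exists_generator h
  rw [← ho]
  exact orderOf_dvd_pm h (hA.isFpf h hx hx1)

include h in
theorem five_le_of_dvd {a : ℕ} (ha : a ∣ Nat.card F ^ 2 + 1) (ha1 : a ≠ 1) : 5 ≤ a := by
  have ho := (odd_card_sq_add_one h).of_dvd_nat ha
  have h3 : ¬ 3 ∣ Nat.card F ^ 2 + 1 := by
    intro hd
    have h2 : (Nat.card F ^ 2 + 1) % 3 = 0 := Nat.mod_eq_zero_of_dvd hd
    rw [Nat.add_mod, Nat.pow_mod] at h2
    have : Nat.card F % 3 < 3 := Nat.mod_lt _ (by omega)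
    interval_cases (Nat.card F % 3) <;> simp at h2
  have : a ≠ 3 := fun e => h3 (e ▸ ha)
  obtain ⟨k, rfl⟩ := ho
  omega

include h in
theorem IsFpfTorus.card_dvd_sq {A : Subgroup G} (hA : IsFpfTorus A) :
    Nat.card A ∣ Nat.card F ^ 2 + 1 := by
  obtain ⟨x, hx, hx1, ho⟩ := hA.exists_generator h
  rw [← ho]
  exact orderOf_dvd_of_isFpf h (hA.isFpf h hx hx1)

include h in
theorem IsFpfTorus.five_le {A : Subgroup G} (hA : IsFpfTorus A) : 5 ≤ Nat.card A :=
  five_le_of_dvd h (hA.card_dvd_sq h) (fun e => hA.ne_bot (Subgroup.card_eq_one.1 e))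

include h in
/-- The index of a torus in its normaliser is 1, 2 or 4. -/
theorem IsFpfTorus.normalizer_card {A : Subgroup G} (hA : IsFpfTorus A) :
    ∃ w, (w = 1 ∨ w = 2 ∨ w = 4) ∧
      Nat.card (Subgroup.normalizer (A : Set G)) = w * Nat.card A := by
  have := finite_G h
  set q := Nat.card F with hq
  obtain ⟨x, hx, hx1, ho⟩ := hA.exists_generator h
  have hxf := hA.isFpf h hx hx1
  obtain ⟨l, hl⟩ := exists_isEig h x
  have hxall : ∀ y ∈ A, ∃ k : ℕ, y = x ^ k := by
    intro y hy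
    have hz : Subgroup.zpowers x = A := by
      refine Subgroup.eq_of_le_of_card_ge ((Subgroup.zpowers_le).2 hx) ?_
      rw [Nat.card_zpowers, ho]
    rw [← hz, ← mem_powers_iff_mem_zpowers] at hy
    obtain ⟨k, hk⟩ := hy
    exact ⟨k, hk.symm⟩
  set N := Subgroup.normalizer (A : Set G)
  have hkey : ∀ n ∈ N, ∃ i : Fin 4, n * x ^ (q ^ (i : ℕ)) * n⁻¹ = x := by
    intro n hn
    obtain ⟨k, hk⟩ := hxall _ ((Subgroup.mem_normalizer_iff.1 hn x).1 hx)
    have hkf : IsFpf (x ^ k) := hk ▸ isFpf_conj hxf n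
    have hl' : IsEig (x ^ k) l := hk ▸ hl.conj n
    obtain ⟨i, hi⟩ := (hl.pow k).mem_orbit h hkf hl'
    refine ⟨i, ?_⟩
    rw [← conj_pow, hk, ← pow_mul]
    set M := k * q ^ (i : ℕ)
    have hlM : l ^ M = l := by rw [pow_mul, ← hi]
    have hM : M ≠ 0 := by
      intro e
      rw [e, pow_zero] at hlM
      exact hl.ne_one h hxf hlM.symm
    obtain ⟨j, hj⟩ : ∃ j, M = j + 1 := ⟨M - 1, by omega⟩
    rw [hj, pow_succ] at hlM
    have h1 : l ^ j = 1 := (mul_eq_right₀ (hl.ne_zero h)).1 hlM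
    have h2 : x ^ j = 1 := by
      rw [← orderOf_dvd_iff_pow_eq_one, ← hl.orderOf_eq h hxf]
      exact orderOf_dvd_of_pow_eq_one h1
    rw [hj, pow_succ, h2, one_mul]
  -- fibres of the Frobenius exponent are cosets of `A`
  choose ψ hψ using hkey
  have hfib : ∀ n (hn : n ∈ N) n' (hn' : n' ∈ N), ψ n hn = ψ n' hn' → n'⁻¹ * n ∈ A := by
    intro n hn n' hn' e
    have e1 := hψ n hn
    have e2 := hψ n' hn'
    rw [e] at e1
    set y := x ^ (q ^ ((ψ n' hn' : Fin 4) : ℕ))
    have hy1 : y ≠ 1 := by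
      intro hy
      rw [hy, mul_one, mul_inv_cancel] at e2
      exact hx1 e2.symm
    rw [← hA.centralizer_eq h (pow_mem hx _) hy1, Subgroup.mem_centralizer_singleton_iff]
    have e3 : n' * y * n'⁻¹ = n * y * n⁻¹ := e2.trans e1.symm
    calc n'⁻¹ * n * y = n'⁻¹ * (n * y * n⁻¹) * n := by group
      _ = n'⁻¹ * (n' * y * n'⁻¹) * n := by rw [e3]
      _ = y * (n'⁻¹ * n) := by group
  set A' := A.subgroupOf N
  have hle : A ≤ N := Subgroup.le_normalizer
  have hidx : A'.index ≤ 4 := by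
    have hinj : Function.Injective (fun c : N ⧸ A' => ψ c.out.1 c.out.2) := by
      intro a b e
      rw [← QuotientGroup.out_eq' a, ← QuotientGroup.out_eq' b, QuotientGroup.eq]
      exact hfib _ b.out.2 _ a.out.2 e.symm
    have := Nat.card_le_card_of_injective _ hinj
    simpa [Subgroup.index] using this
  have hcardN : Nat.card N = A'.index * Nat.card A := by
    rw [← Subgroup.index_mul_card A', Nat.card_congr (Subgroup.subgroupOfEquivOfLe hle).toEquiv]
  refine ⟨A'.index, ?_, hcardN⟩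
  have h0 : A'.index ≠ 0 := Subgroup.index_ne_zero_of_finite
  by_contra hne
  have h3 : A'.index = 3 := by omega
  have : A'.Normal := Subgroup.normal_subgroupOf_iff_le_normalizer hle |>.2 le_rfl
  have hq4 : x ^ (q ^ 4) = x := by
    obtain ⟨c, hc⟩ := hA.card_dvd_sq h
    have h4 : q ^ 4 = (q ^ 2 + 1) * (q ^ 2 - 1) + 1 := by
      have : 1 ≤ q ^ 2 := Nat.one_le_pow _ _ (by rw [hq, h.card]; positivity)
      zify [this]
      ring
    rw [← hq] at hc
    rw [h4, pow_succ, pow_mul, hc, pow_mul, ← ho, pow_orderOf_eq_one, one_pow, one_pow, one_mul]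
  have hall : ∀ n (hn : n ∈ N), n ∈ A := by
    intro n hn
    set Q := q ^ ((ψ n hn : Fin 4) : ℕ) with hQ
    have hn1 : n * x ^ Q * n⁻¹ = x := hψ n hn
    have hjall : ∀ j : ℕ, n ^ j * x ^ (Q ^ j) * (n ^ j)⁻¹ = x := by
      intro j
      induction j with
      | zero => simp
      | succ j ih =>
        calc n ^ (j + 1) * x ^ (Q ^ (j + 1)) * (n ^ (j + 1))⁻¹
            = n * (n ^ j * x ^ (Q ^ (j + 1)) * (n ^ j)⁻¹) * n⁻¹ := by group
          _ = n * x ^ Q * n⁻¹ := by rw [pow_succ Q j, pow_mul, ← conj_pow, ih]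
          _ = x := hn1
    have hQ4 : x ^ (Q ^ 4) = x := by
      rw [hQ, ← pow_mul, mul_comm, pow_mul]
      generalize ((ψ n hn : Fin 4) : ℕ) = i
      induction i with
      | zero => simp
      | succ i ih => rw [pow_succ, pow_mul, ih, hq4]
    have hn4 : n ^ 4 ∈ A := by
      have e := hjall 4
      rw [hQ4, mul_inv_eq_iff_eq_mul] at e
      rw [← hA.centralizer_eq h hx hx1, Subgroup.mem_centralizer_singleton_iff]
      exact e
    have hn3 : n ^ 3 ∈ A := by
      have := A'.pow_index_mem ⟨n, hn⟩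
      rw [h3] at this
      simpa [A', Subgroup.mem_subgroupOf] using this
    have e : n = (n ^ 3)⁻¹ * n ^ 4 := by group
    rw [e]
    exact mul_mem (inv_mem hn3) hn4
  have : A' = ⊤ := by
    rw [eq_top_iff]
    exact fun n _ => hall n.1 n.2
  rw [this, Subgroup.index_top] at h3
  omega

/-! ### Counting: exactly two classes of fixed point free tori -/

theorem conjSet_subset_fpf {A : Subgroup G} (hz : IsSzField F m) (hA : IsFpfTorus A) :
    conjSet A ⊆ {g : G | IsFpf g} := by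
  rintro y ⟨hy, c, hc⟩
  have hf := hA.isFpf hz hc (fun e => hy (conj_eq_one_iff.1 e))
  have := isFpf_conj hf c⁻¹
  rwa [show c⁻¹ * (c * y * c⁻¹) * c⁻¹⁻¹ = y by group] at this

omit h in
theorem self_mem_conjSet {g : G} (hg : IsFpf g) :
    g ∈ conjSet (Subgroup.centralizer ({g} : Set G)) :=
  ⟨fun e => not_isFpf_one (e ▸ hg), 1, by simp [Subgroup.mem_centralizer_singleton_iff]⟩

/-- Conjugacy sets of tori meet only if they coincide. -/
theorem conjSet_disjoint {A : Subgroup G} {g : G} (hz : IsSzField F m) (hA : IsFpfTorus A)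
    (hg : IsFpf g) (hgA : g ∉ conjSet A) :
    Disjoint (conjSet A) (conjSet (Subgroup.centralizer ({g} : Set G))) := by
  refine Set.disjoint_left.2 fun y ⟨hy, c, hc⟩ ⟨_, d, hd⟩ => hgA ?_
  refine ⟨fun e => not_isFpf_one (e ▸ hg), c * d⁻¹, ?_⟩
  have hne : d * y * d⁻¹ ≠ 1 := fun e => hy (conj_eq_one_iff.1 e)
  have hne' : c * y * c⁻¹ ≠ 1 := fun e => hy (conj_eq_one_iff.1 e)
  have hcen := (centralizer_fpf_eq hg hd hne hz).2
  have hgd : g ∈ Subgroup.centralizer ({d * y * d⁻¹} : Set G) := by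
    rw [hcen, Subgroup.mem_centralizer_singleton_iff]
  rw [← hA.centralizer_eq hz hc hne', Subgroup.mem_centralizer_singleton_iff]
  rw [Subgroup.mem_centralizer_singleton_iff] at hgd
  calc c * d⁻¹ * g * (c * d⁻¹)⁻¹ * (c * y * c⁻¹)
      = c * d⁻¹ * (g * (d * y * d⁻¹)) * d * c⁻¹ := by group
    _ = c * d⁻¹ * (d * y * d⁻¹ * g) * d * c⁻¹ := by rw [hgd]
    _ = _ := by group

/-- The normalised number of elements lying in conjugates of `A`. -/
noncomputable def share (A : Subgroup (SzG F m)) : ℚ :=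
  4 * (conjSet A).ncard / (Nat.card (SzG F m) : ℚ)

include h in
theorem share_eq {A : Subgroup G} (hA : IsFpfTorus A) :
    ∃ w, (w = 1 ∨ w = 2 ∨ w = 4) ∧
      Nat.card (Subgroup.normalizer (A : Set G)) = w * Nat.card A ∧
      share A = 4 / (w : ℚ) * (1 - 1 / (Nat.card A : ℚ)) := by
  have := finite_G h
  obtain ⟨w, hw, hN⟩ := hA.normalizer_card h
  refine ⟨w, hw, hN, ?_⟩
  have e := card_conjSet_mul (hA.isTI h)
  rw [hN, Nat.card_coe_set_eq] at e
  have h5 := hA.five_le h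
  have e' := congrArg (fun x : ℕ => (x : ℚ)) e
  push_cast [Nat.cast_sub (show 1 ≤ Nat.card A by omega)] at e'
  have h1 : (Nat.card G : ℚ) ≠ 0 := Nat.cast_ne_zero.2 Nat.card_pos.ne'
  have h2 : (w : ℚ) ≠ 0 := Nat.cast_ne_zero.2 (by omega)
  have h3 : (Nat.card A : ℚ) ≠ 0 := Nat.cast_ne_zero.2 (by omega)
  rw [share]
  field_simp
  linear_combination e'

include h in
theorem four_fifths_le_share {A : Subgroup G} (hA : IsFpfTorus A) : 4 / 5 ≤ share A := by
  obtain ⟨w, hw, -, e⟩ := share_eq h hA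
  have h5 : (5 : ℚ) ≤ (Nat.card A : ℚ) := by exact_mod_cast hA.five_le h
  have h1 : 1 / (Nat.card A : ℚ) ≤ 1 / 5 := one_div_le_one_div_of_le (by norm_num) h5
  rw [e]
  rcases hw with rfl | rfl | rfl <;> norm_num <;> linarith [h1, show (Nat.card A : ℚ)⁻¹ = 1 / _
    from (one_div _).symm]

/-- Exactly two classes of tori, of orders `q + σ + 1` and `q - σ + 1`, of index 4 in their
normalisers. -/
theorem exists_fpf_tori (hz : IsSzField F m) :
    ∃ A B : Subgroup G, IsFpfTorus A ∧ IsFpfTorus B ∧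
      Nat.card A = 2 ^ (2 * m + 1) + 2 ^ (m + 1) + 1 ∧
      Nat.card B = 2 ^ (2 * m + 1) - 2 ^ (m + 1) + 1 ∧
      Nat.card (Subgroup.normalizer (A : Set G)) = 4 * Nat.card A ∧
      Nat.card (Subgroup.normalizer (B : Set G)) = 4 * Nat.card B ∧
      ∀ g : G, IsFpf g → (∃ c, c * g * c⁻¹ ∈ A) ∨ ∃ c, c * g * c⁻¹ ∈ B := by
  have := hz.finite
  have := finite_G hz
  set q := Nat.card F with hq
  have hqs : q = 2 ^ (2 * m + 1) := hz.card
  set s := 2 ^ (m + 1) with hs
  have hs2 : s * s = 2 * q := by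
    rw [hs, hqs, ← pow_add, show m + 1 + (m + 1) = 2 * m + 1 + 1 by omega, pow_succ, mul_comm]
  have hsq : 2 * s ≤ q := by
    rw [hs, hqs, ← pow_succ']
    exact Nat.pow_le_pow_right (by norm_num) (by have := hz.pos; omega)
  have hq8 : 8 ≤ q := by
    rw [hqs]
    exact le_trans (by norm_num : 8 ≤ 2 ^ 3) (Nat.pow_le_pow_right (by norm_num) (by have := hz.pos; omega))
  rw [← hqs]
  have hG0 : (0 : ℚ) < Nat.card G := by exact_mod_cast Nat.card_pos
  have hqQ : (8 : ℚ) ≤ q := by exact_mod_cast hq8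
  have hsQ : 2 * (s : ℚ) ≤ q := by exact_mod_cast hsq
  have hsQ2 : (s : ℚ) * s = 2 * q := by exact_mod_cast hs2
  have hs0 : (0 : ℚ) < s := by rw [hs]; positivity
  set Φ := {g : G | IsFpf g} with hΦ
  set X : ℚ := 4 * (Φ.ncard : ℚ) / (Nat.card G : ℚ) with hX
  have hXval : X = 2 * q * (q - 1) / ((q : ℚ) ^ 2 + 1) := by
    have e := card_fpf hz
    rw [← hq] at e
    have e0 : Nat.card {g : G // IsFpf g} = Φ.ncard := Nat.card_coe_set_eq _
    rw [e0] at e
    have e' := congrArg (fun x : ℕ => (x : ℚ)) e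
    push_cast [Nat.cast_sub (show 1 ≤ q by omega)] at e'
    have hc := congrArg (fun x : ℕ => (x : ℚ)) (card_Sz hz)
    rw [← hq] at hc
    push_cast [Nat.cast_sub (show 1 ≤ q by omega)] at hc
    have d1 : (q : ℚ) ^ 2 + 1 ≠ 0 := by positivity
    have d2 : (q : ℚ) - 1 ≠ 0 := by linarith
    have d3 : (q : ℚ) ≠ 0 := by positivity
    rw [hX, show (Nat.card G : ℚ) = (q : ℚ) ^ 2 * ((q : ℚ) ^ 2 + 1) * ((q : ℚ) - 1) from hc]
    field_simp
    linear_combination 2 * e'
  have hX1 : 1 < X := by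
    rw [hXval, lt_div_iff₀ (by positivity)]
    nlinarith
  have hX2 : X < 2 := by
    rw [hXval, div_lt_iff₀ (by positivity)]
    nlinarith
  -- a first torus
  have hne : Φ.Nonempty := by
    by_contra hc
    rw [Set.not_nonempty_iff_eq_empty] at hc
    rw [hX, hc] at hX1
    simp at hX1
    linarith
  obtain ⟨g₁, hg₁⟩ := hne
  set A₁ := Subgroup.centralizer ({g₁} : Set G)
  have hA₁ : IsFpfTorus A₁ := ⟨g₁, hg₁, rfl⟩
  obtain ⟨w₁, hw₁, hN₁, hsh₁⟩ := share_eq hz hA₁
  have h5₁ := hA₁.five_le hz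
  have hsub₁ := conjSet_subset_fpf hz hA₁
  have hshare : ∀ S : Set G, S ⊆ Φ → 4 * (S.ncard : ℚ) / (Nat.card G : ℚ) ≤ X := by
    intro S hS
    have hle : (S.ncard : ℚ) ≤ Φ.ncard := by exact_mod_cast Set.ncard_le_ncard hS
    rw [hX]
    gcongr
  -- a second torus
  have hne₂ : ¬ Φ ⊆ conjSet A₁ := by
    intro hsub
    have hsX : share A₁ = X := by rw [share, hX, Set.Subset.antisymm hsub₁ hsub]
    rw [hsh₁] at hsX
    have ha : (5 : ℚ) ≤ (Nat.card A₁ : ℚ) := by exact_mod_cast h5₁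
    have ha' : 1 / (Nat.card A₁ : ℚ) ≤ 1 / 5 := one_div_le_one_div_of_le (by norm_num) ha
    have ha0 : 0 < 1 / (Nat.card A₁ : ℚ) := by positivity
    rcases hw₁ with rfl | rfl | rfl <;> norm_num at hsX
    · rw [one_div] at ha'
      linarith
    · -- index two would need `q + 1 ∣ q ^ 2 + 1`
      rw [hXval] at hsX
      have d1 : (q : ℚ) ^ 2 + 1 ≠ 0 := by positivity
      have d2 : (Nat.card A₁ : ℚ) ≠ 0 := by positivity
      field_simp at hsX
      have hZ : (Nat.card A₁ : ℚ) * (q + 1) = (q : ℚ) ^ 2 + 1 := by linear_combination hsX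
      have hN : Nat.card A₁ * (q + 1) = q ^ 2 + 1 := by exact_mod_cast hZ
      have hd : (q + 1 : ℤ) ∣ 2 := by
        have h1 : (q + 1 : ℤ) ∣ (q : ℤ) ^ 2 + 1 :=
          ⟨Nat.card A₁, by rw [mul_comm]; exact_mod_cast hN.symm⟩
        have h2 : (q + 1 : ℤ) ∣ (q : ℤ) ^ 2 - 1 := ⟨(q : ℤ) - 1, by ring⟩
        have := h1.sub h2
        ring_nf at this ⊢
        exact this
      have := Int.le_of_dvd (by norm_num) hd
      omega
    · rw [one_div] at ha0
      linarith
  obtain ⟨g₂, hg₂, hg₂'⟩ := Set.not_subset.1 hne₂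
  set A₂ := Subgroup.centralizer ({g₂} : Set G)
  have hA₂ : IsFpfTorus A₂ := ⟨g₂, hg₂, rfl⟩
  obtain ⟨w₂, hw₂, hN₂, hsh₂⟩ := share_eq hz hA₂
  have h5₂ := hA₂.five_le hz
  have hsub₂ := conjSet_subset_fpf hz hA₂
  have hd₁₂ : Disjoint (conjSet A₁) (conjSet A₂) := conjSet_disjoint hz hA₁ hg₂ hg₂'
  -- there is no third one
  have hcover : Φ ⊆ conjSet A₁ ∪ conjSet A₂ := by
    intro g hg
    by_contra hc
    rw [Set.mem_union, not_or] at hc
    set A₃ := Subgroup.centralizer ({g} : Set G)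
    have hA₃ : IsFpfTorus A₃ := ⟨g, hg, rfl⟩
    have hd : Disjoint (conjSet A₁ ∪ conjSet A₂) (conjSet A₃) :=
      Set.disjoint_union_left.2 ⟨conjSet_disjoint hz hA₁ hg hc.1, conjSet_disjoint hz hA₂ hg hc.2⟩
    have hle := hshare (conjSet A₁ ∪ conjSet A₂ ∪ conjSet A₃)
      (Set.union_subset (Set.union_subset hsub₁ hsub₂) (conjSet_subset_fpf hz hA₃))
    rw [Set.ncard_union_eq hd, Set.ncard_union_eq hd₁₂, Nat.cast_add, Nat.cast_add] at hle
    have h1 := four_fifths_le_share hz hA₁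
    have h2 := four_fifths_le_share hz hA₂
    have h3 := four_fifths_le_share hz hA₃
    have : share A₁ + share A₂ + share A₃ ≤ X := by
      simp only [share]
      rw [← add_div, ← add_div]
      linear_combination hle
    linarith
  have htot : share A₁ + share A₂ = X := by
    have e : Φ = conjSet A₁ ∪ conjSet A₂ :=
      Set.Subset.antisymm hcover (Set.union_subset hsub₁ hsub₂)
    rw [hX, e, Set.ncard_union_eq hd₁₂, Nat.cast_add]
    simp only [share]
    ring
  have h45₁ := four_fifths_le_share hz hA₁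
  have h45₂ := four_fifths_le_share hz hA₂
  have hfour : ∀ w : ℕ, ∀ a : ℕ, (w = 1 ∨ w = 2 ∨ w = 4) → 5 ≤ a →
      4 / (w : ℚ) * (1 - 1 / (a : ℚ)) + 4 / 5 < 2 → w = 4 := by
    intro w a hw ha hlt
    have ha' : 1 / (a : ℚ) ≤ 1 / 5 :=
      one_div_le_one_div_of_le (by norm_num) (by exact_mod_cast ha)
    rw [one_div] at ha'
    rcases hw with rfl | rfl | rfl
    · norm_num at hlt; linarith
    · norm_num at hlt; linarith
    · rfl
  obtain rfl : w₁ = 4 := hfour _ _ hw₁ h5₁ (by rw [← hsh₁]; linarith)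
  obtain rfl : w₂ = 4 := hfour _ _ hw₂ h5₂ (by rw [← hsh₂]; linarith)
  rw [hsh₁, hsh₂] at htot
  -- identify the orders
  set M := q + s + 1 with hM
  set L := q - s + 1 with hL
  have hMQ : (M : ℚ) = q + s + 1 := by rw [hM]; push_cast; ring
  have hLQ : (L : ℚ) = q - s + 1 := by rw [hL]; push_cast [Nat.cast_sub (show s ≤ q by omega)]; ring
  have hL0 : (0 : ℚ) < L := by rw [hLQ]; linarith
  have hM0 : (0 : ℚ) < M := by rw [hMQ]; linarith
  have hML : (M : ℚ) * L = (q : ℚ) ^ 2 + 1 := by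
    rw [hMQ, hLQ]; linear_combination -hsQ2
  set r₁ := 1 / (Nat.card A₁ : ℚ)
  set r₂ := 1 / (Nat.card A₂ : ℚ)
  set RM := 1 / (M : ℚ) with hRM
  set RL := 1 / (L : ℚ) with hRL
  have hsumR : r₁ + r₂ = RM + RL := by
    have hR : RM + RL = (2 * q + 2) / ((q : ℚ) ^ 2 + 1) := by
      rw [hRM, hRL, div_add_div _ _ hM0.ne' hL0.ne', hML]
      congr 1
      rw [hMQ, hLQ]; ring
    rw [hR, hXval] at *
    norm_num at htot
    have d1 : (q : ℚ) ^ 2 + 1 ≠ 0 := by positivity
    field_simp at htot ⊢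
    linear_combination -htot
  have hRlt : RM < RL := one_div_lt_one_div_of_lt hL0 (by rw [hMQ, hLQ]; linarith)
  have h5RM : RL < 5 * RM := by
    rw [hRM, hRL, mul_one_div, div_lt_div_iff₀ hL0 hM0, hMQ, hLQ]
    linarith
  -- each order is `M`, `L`, or small enough to be impossible
  have hclass : ∀ A : Subgroup G, IsFpfTorus A →
      RM ≤ 1 / (Nat.card A : ℚ) ∧ (Nat.card A = M ∨ Nat.card A = L ∨
        5 * RM ≤ 1 / (Nat.card A : ℚ)) := by
    intro A hA
    have ha5 := hA.five_le hz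
    have hdv := hA.card_dvd hz
    rw [← hqs, ← hs, ← hM, ← hL] at hdv
    have hMLn : M * L = q ^ 2 + 1 := by exact_mod_cast hML
    have key : ∀ Y : ℕ, Y ∣ q ^ 2 + 1 → (0 : ℚ) < Y → (Y : ℚ) ≤ M → Nat.card A ∣ Y →
        RM ≤ 1 / (Nat.card A : ℚ) ∧ (Nat.card A = Y ∨ 5 * RM ≤ 1 / (Nat.card A : ℚ)) := by
      intro Y hY hY0 hYM ⟨k, hk⟩
      have hk0 : k ≠ 0 := by
        rintro rfl
        rw [mul_zero] at hk
        rw [hk] at hY0
        simp at hY0
      have ha0 : (0 : ℚ) < (Nat.card A : ℚ) := by exact_mod_cast (by omega : 0 < Nat.card A)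
      have hkQ : (Nat.card A : ℚ) * k = Y := by exact_mod_cast hk.symm
      have hk1 : (1 : ℚ) ≤ k := by exact_mod_cast (Nat.one_le_iff_ne_zero.2 hk0)
      refine ⟨?_, ?_⟩
      · exact one_div_le_one_div_of_le ha0 (le_trans (le_trans (le_mul_of_one_le_right ha0.le hk1) hkQ.le) hYM)
      by_cases hk' : k = 1
      · left; rw [hk, hk', mul_one]
      · right
        have hk5 : 5 ≤ k := five_le_of_dvd hz (dvd_trans ⟨Nat.card A, by rw [hk, mul_comm]⟩ hY) hk'
        have hk5Q : (5 : ℚ) ≤ k := by exact_mod_cast hk5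
        rw [hRM, mul_one_div, div_le_div_iff₀ hM0 ha0]
        nlinarith
    rcases hdv with hd | hd
    · obtain ⟨h1, h2⟩ := key M ⟨L, hMLn.symm⟩ hM0 le_rfl hd
      exact ⟨h1, h2.imp id Or.inr⟩
    · obtain ⟨h1, h2⟩ := key L ⟨M, by rw [mul_comm, hMLn]⟩ hL0 (by rw [hMQ, hLQ]; linarith) hd
      exact ⟨h1, Or.inr h2⟩
  obtain ⟨hm₁, hc₁⟩ := hclass A₁ hA₁
  obtain ⟨hm₂, hc₂⟩ := hclass A₂ hA₂
  change RM ≤ r₁ at hm₁
  change RM ≤ r₂ at hm₂
  change Nat.card A₁ = M ∨ Nat.card A₁ = L ∨ 5 * RM ≤ r₁ at hc₁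
  change Nat.card A₂ = M ∨ Nat.card A₂ = L ∨ 5 * RM ≤ r₂ at hc₂
  have hcases : (Nat.card A₁ = M ∧ Nat.card A₂ = L) ∨ (Nat.card A₂ = M ∧ Nat.card A₁ = L) := by
    rcases hc₁ with e1 | e1 | e1
    · rcases hc₂ with e2 | e2 | e2
      · exfalso
        have : r₁ = RM := by simp only [r₁, hRM, e1]
        have : r₂ = RM := by simp only [r₂, hRM, e2]
        linarith
      · exact Or.inl ⟨e1, e2⟩
      · exfalso; linarith
    · rcases hc₂ with e2 | e2 | e2
      · exact Or.inr ⟨e2, e1⟩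
      · exfalso
        have : r₁ = RL := by simp only [r₁, hRL, e1]
        have : r₂ = RL := by simp only [r₂, hRL, e2]
        linarith
      · exfalso; linarith
    · exfalso; linarith
  rcases hcases with ⟨e1, e2⟩ | ⟨e2, e1⟩
  · refine ⟨A₁, A₂, hA₁, hA₂, e1, e2, hN₁, hN₂, fun g hg => ?_⟩
    rcases hcover hg with hc | hc
    · exact Or.inl hc.2
    · exact Or.inr hc.2
  · refine ⟨A₂, A₁, hA₂, hA₁, e2, e1, hN₂, hN₁, fun g hg => ?_⟩
    rcases hcover hg with hc | hc
    · exact Or.inr hc.2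
    · exact Or.inl hc.2

end CfsgLib.Suzuki
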