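/-
Suzuki group: centralisers of all nontrivial elements, and the partition.
-/
import Cfsg.Agent.Suzuki.Partition

set_option autoImplicit false

namespace CfsgLib.Suzuki

open Matrix

variable {F : Type*} [Field F] {m : ℕ}

local notation "G" => SzG F m

/-- The three odd torus orders. -/
def torusOrders (m : ℕ) : Set ℕ :=
  {2 ^ (2 * m + 1) - 1, 2 ^ (2 * m + 1) + 2 ^ (m + 1) + 1, 2 ^ (2 * m + 1) - 2 ^ (m + 1) + 1}

variable (h : IsSzField F m)

theorem map_centralizer_singleton (c g : G) :
    (Subgroup.centralizer ({g} : Set G)).map (MulAut.conj c).toMonoidHom =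
      Subgroup.centralizer ({c * g * c⁻¹} : Set G) := by
  ext x
  rw [Subgroup.mem_map_equiv, Subgroup.mem_centralizer_singleton_iff,
    Subgroup.mem_centralizer_singleton_iff, MulAut.conj_symm_apply]
  constructor
  · intro e
    calc x * (c * g * c⁻¹) = c * (c⁻¹ * x * c * g) * c⁻¹ := by group
      _ = c * (g * (c⁻¹ * x * c)) * c⁻¹ := by rw [e]
      _ = _ := by group
  · intro e
    calc c⁻¹ * x * c * g = c⁻¹ * (x * (c * g * c⁻¹)) * c := by group
      _ = c⁻¹ * (c * g * c⁻¹ * x) * c := by rw [e]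
      _ = _ := by group

include h in
/-- Centralisers of nontrivial elements. -/
theorem centralizer_cases {g : G} (hg : g ≠ 1) :
    (∃ c : G, c * g * c⁻¹ ∈ unip h ∧
        ∀ x ∈ Subgroup.centralizer ({g} : Set G), c * x * c⁻¹ ∈ unip h) ∨
      (IsCyclic (Subgroup.centralizer ({g} : Set G)) ∧
        Nat.card (Subgroup.centralizer ({g} : Set G)) ∈ torusOrders m) := by
  have hcard : ∀ c : G, Nat.card (Subgroup.centralizer ({c * g * c⁻¹} : Set G)) =
      Nat.card (Subgroup.centralizer ({g} : Set G)) := fun c => by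
    rw [← map_centralizer_singleton]
    exact Subgroup.card_map_of_injective (MulAut.conj c).injective
  have hconj : ∀ c x : G, x ∈ Subgroup.centralizer ({g} : Set G) →
      c * x * c⁻¹ ∈ Subgroup.centralizer ({c * g * c⁻¹} : Set G) := fun c x hx => by
    rw [← map_centralizer_singleton]
    exact ⟨x, hx, rfl⟩
  rcases trichotomy h g with ⟨c, hc⟩ | ⟨c, hc⟩ | hf
  · left
    exact ⟨c, hc, fun x hx =>
      centralizer_le_unip h hc (fun e => hg (conj_eq_one_iff.1 e)) (hconj c x hx)⟩
  · right
    have e := centralizer_torus h hc (fun e => hg (conj_eq_one_iff.1 e))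
    have hcy : IsCyclic (Subgroup.centralizer ({c * g * c⁻¹} : Set G)) := by
      rw [e]; exact isCyclic_torus h
    refine ⟨?_, ?_⟩
    · rw [← map_centralizer_singleton] at hcy
      exact ((Subgroup.centralizer ({g} : Set G)).equivMapOfInjective _
        (MulAut.conj c).injective).isCyclic.2 hcy
    · rw [← hcard c, e, card_torus, h.card]
      exact Set.mem_insert _ _
  · right
    refine ⟨isCyclic_centralizer h hf, ?_⟩
    obtain ⟨A, B, hA, hB, cA, cB, -, -, hcov⟩ := exists_fpf_tori h
    rcases hcov g hf with ⟨c, hc⟩ | ⟨c, hc⟩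
    · rw [← hcard c, hA.centralizer_eq h hc (fun e => hg (conj_eq_one_iff.1 e)), cA]
      exact Set.mem_insert_of_mem _ (Set.mem_insert _ _)
    · rw [← hcard c, hB.centralizer_eq h hc (fun e => hg (conj_eq_one_iff.1 e)), cB]
      exact Set.mem_insert_of_mem _ (Set.mem_insert_of_mem _ rfl)

include h in
theorem torusOrders_odd {k : ℕ} (hk : k ∈ torusOrders m) : ¬ 2 ∣ k := by
  have h1 := h.four_le
  have h2 := h.sigma_add_two_lt
  have d1 : 2 ∣ 2 ^ (2 * m + 1) := dvd_pow_self 2 (by omega)
  have d2 : 2 ∣ 2 ^ (m + 1) := dvd_pow_self 2 (by omega)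
  simp only [torusOrders, Set.mem_insert_iff, Set.mem_singleton_iff] at hk
  rcases hk with rfl | rfl | rfl <;> omega

include h in
theorem torusOrders_coprime {a b : ℕ} (ha : a ∈ torusOrders m) (hb : b ∈ torusOrders m)
    (hab : a ≠ b) : Nat.Coprime a b := by
  have h1 := h.four_le
  have h2 := h.sigma_add_two_lt
  have hodd : ∀ k ∈ torusOrders m, ¬ 2 ∣ k := fun k hk => torusOrders_odd h hk
  set q := 2 ^ (2 * m + 1) with hq
  set s := 2 ^ (m + 1) with hs
  have hs2 : s * s = 2 * q := by
    rw [hs, hq, ← pow_add, show m + 1 + (m + 1) = 2 * m + 1 + 1 by omega, pow_succ, mul_comm]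
  have hML : ((q + s + 1 : ℕ) : ℤ) * ((q - s + 1 : ℕ) : ℤ) = (q : ℤ) ^ 2 + 1 := by
    push_cast [Nat.cast_sub (show s ≤ q by omega)]
    have hz2 : (s : ℤ) * s = 2 * q := by exact_mod_cast hs2
    linear_combination -hz2
  -- a common divisor divides a power of two
  have hkey : ∀ d, Nat.Prime d → d ∣ a → d ∣ b → d ∣ 2 * (2 * s) → False := by
    intro d hd hda hdb hd2
    rcases (Nat.Prime.dvd_mul hd).1 hd2 with h3 | h3
    · exact hodd a ha (((Nat.prime_dvd_prime_iff_eq hd Nat.prime_two).1 h3) ▸ hda)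
    · rw [hs, ← pow_succ'] at h3
      exact hodd a ha (((Nat.prime_dvd_prime_iff_eq hd Nat.prime_two).1 (hd.dvd_of_dvd_pow h3)) ▸ hda)
  refine Nat.coprime_of_dvd fun d hd hda hdb => hkey d hd hda hdb ?_
  rw [← Int.natCast_dvd_natCast]
  have za := Int.natCast_dvd_natCast.2 hda
  have zb := Int.natCast_dvd_natCast.2 hdb
  simp only [torusOrders, Set.mem_insert_iff, Set.mem_singleton_iff, ← hq, ← hs] at ha hb
  rcases ha with rfl | rfl | rfl <;> rcases hb with rfl | rfl | rfl <;>
    first | exact absurd rfl hab | skip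
  all_goals first
    | (have e : (d : ℤ) ∣ ((q + s + 1 : ℕ) : ℤ) - ((q - s + 1 : ℕ) : ℤ) := by
        first | exact za.sub zb | exact zb.sub za
       push_cast [Nat.cast_sub (show s ≤ q by omega)] at e ⊢
       ring_nf at e ⊢
       exact (e.mul_right 2).trans (dvd_of_eq (by ring)))
    | (have e0 : (d : ℤ) ∣ ((q - 1 : ℕ) : ℤ) := by first | exact za | exact zb
       have e1 : (d : ℤ) ∣ (q : ℤ) ^ 2 + 1 := by
         rw [← hML]
         first
           | exact za.mul_right _ | exact za.mul_left _ | exact zb.mul_right _ | exact zb.mul_left _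
       have e : (d : ℤ) ∣ 2 := by
         have := e1.sub (e0.mul_right ((q : ℤ) + 1))
         push_cast [Nat.cast_sub (show 1 ≤ q by omega)] at this
         ring_nf at this ⊢
         exact this
       push_cast
       exact dvd_mul_of_dvd_left e _)

end CfsgLib.Suzuki
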