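/-
General lemmas on finite groups used in the subgroup analysis of the Suzuki groups.
-/
import Cfsg.Agent.Suzuki.Partition

set_option autoImplicit false

namespace CfsgLib.Suzuki

open scoped commutatorElement

variable {Γ : Type*} [Group Γ]

theorem isTI_of_centralizer_eq {A : Subgroup Γ}
    (hA : ∀ x ∈ A, x ≠ 1 → Subgroup.centralizer ({x} : Set Γ) = A) : IsTI A := by
  intro c x hx hx1 hc
  have hne : c * x * c⁻¹ ≠ 1 := fun e => hx1 (conj_eq_one_iff.1 e)
  refine Subgroup.mem_normalizer_iff.2 fun y => ?_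
  constructor
  · intro hy
    rw [← hA _ hc hne, Subgroup.mem_centralizer_singleton_iff]
    rw [← hA x hx hx1, Subgroup.mem_centralizer_singleton_iff] at hy
    calc c * y * c⁻¹ * (c * x * c⁻¹) = c * (y * x) * c⁻¹ := by group
      _ = c * (x * y) * c⁻¹ := by rw [hy]
      _ = _ := by group
  · intro hy
    rw [← hA _ hc hne, Subgroup.mem_centralizer_singleton_iff] at hy
    rw [← hA x hx hx1, Subgroup.mem_centralizer_singleton_iff]
    calc y * x = c⁻¹ * (c * y * c⁻¹ * (c * x * c⁻¹)) * c := by group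
      _ = c⁻¹ * (c * x * c⁻¹ * (c * y * c⁻¹)) * c := by rw [hy]
      _ = _ := by group

/-- A nontrivial solvable group has a nontrivial abelian normal subgroup. -/
theorem exists_abelian_normal [hs : Group.IsSolvable Γ] [Nontrivial Γ] :
    ∃ K : Subgroup Γ, K.Normal ∧ K ≠ ⊥ ∧ ∀ a ∈ K, ∀ b ∈ K, a * b = b * a := by
  obtain ⟨n, hn⟩ := hs.solvable
  have key : ∀ n, derivedSeries Γ n = ⊥ →
      ∃ K : Subgroup Γ, K.Normal ∧ K ≠ ⊥ ∧ ∀ a ∈ K, ∀ b ∈ K, a * b = b * a := by
    intro n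
    induction n with
    | zero => intro hn; exact absurd hn top_ne_bot
    | succ n ih =>
      intro hn
      by_cases hne : derivedSeries Γ n = ⊥
      · exact ih hne
      refine ⟨derivedSeries Γ n, derivedSeries_normal Γ n, hne, fun a ha b hb => ?_⟩
      have h1 : ⁅a, b⁆ ∈ (⊥ : Subgroup Γ) := by
        rw [← hn, derivedSeries_succ]
        exact Subgroup.commutator_mem_commutator ha hb
      exact commutatorElement_eq_one_iff_mul_comm.1 (Subgroup.mem_bot.1 h1)
  exact key n hn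

/-- Two involutions with product of odd order are conjugate. -/
theorem involutions_conj {i j : Γ} (hi : i * i = 1) (hj : j * j = 1) (ho : Odd (orderOf (i * j))) :
    ∃ c ∈ Subgroup.closure ({i, j} : Set Γ), c * i * c⁻¹ = j := by
  obtain ⟨k, hk⟩ := ho
  have hmi : i ∈ Subgroup.closure ({i, j} : Set Γ) := Subgroup.subset_closure (by simp)
  have hmj : j ∈ Subgroup.closure ({i, j} : Set Γ) := Subgroup.subset_closure (by simp)
  refine ⟨(i * j) ^ k, Subgroup.pow_mem _ (Subgroup.mul_mem _ hmi hmj) k, ?_⟩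
  have hi' : i⁻¹ = i := inv_eq_of_mul_eq_one_right hi
  have hj' : j⁻¹ = j := inv_eq_of_mul_eq_one_right hj
  have hflip : i * (i * j) * i⁻¹ = (i * j)⁻¹ := by
    rw [hi', mul_inv_rev, hi', hj', ← mul_assoc i i j, hi, one_mul]
  set c := (i * j) ^ k with hc
  have h1 : i * c * i⁻¹ = c⁻¹ := by rw [hc, ← conj_pow, hflip, inv_pow]
  have h2 : i * c⁻¹ = c * i := by
    have h1' : (i * c * i⁻¹)⁻¹ = c := by rw [h1, inv_inv]
    rw [mul_inv_rev, mul_inv_rev, inv_inv, hi', ← mul_assoc] at h1'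
    calc i * c⁻¹ = i * c⁻¹ * i * i := by rw [mul_assoc _ i i, hi, mul_one]
      _ = c * i := by rw [h1']
  have h3 : c * c = (i * j)⁻¹ := by
    refine eq_inv_of_mul_eq_one_left ?_
    have e : (i * j) ^ (2 * k + 1) = 1 := orderOf_dvd_iff_pow_eq_one.1 (dvd_of_eq hk)
    rw [hc, ← pow_add, ← two_mul, ← pow_succ]
    exact e
  rw [mul_assoc, h2, ← mul_assoc, h3, mul_inv_rev, hi', hj', mul_assoc, hi, mul_one]


/-- With cyclic Sylow `r`-subgroups the subgroups of order `r` are conjugate. -/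
theorem conj_mem_zpowers [Finite Γ] {r : ℕ} [hr : Fact r.Prime]
    (hcy : ∀ P : Sylow r Γ, IsCyclic P) {z y : Γ} (hz : orderOf z = r) (hy : orderOf y = r) :
    ∃ c : Γ, c * z * c⁻¹ ∈ Subgroup.zpowers y := by
  obtain ⟨P, hP⟩ := (IsPGroup.of_card (n := 1) (by rw [Nat.card_zpowers, hz, pow_one]) :
    IsPGroup r (Subgroup.zpowers z)).exists_le_sylow
  obtain ⟨Q, hQ⟩ := (IsPGroup.of_card (n := 1) (by rw [Nat.card_zpowers, hy, pow_one]) :
    IsPGroup r (Subgroup.zpowers y)).exists_le_sylow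
  obtain ⟨c, hc⟩ := MulAction.exists_smul_eq Γ P Q
  refine ⟨c, ?_⟩
  have h1 : c * z * c⁻¹ ∈ (Q : Subgroup Γ) := by
    rw [← hc]
    exact Subgroup.smul_mem_pointwise_smul z (MulAut.conj c) _ (hP (Subgroup.mem_zpowers z))
  have := hcy Q
  obtain ⟨g, hg⟩ := IsCyclic.exists_generator (α := Q)
  have hrN : r ∣ orderOf g := by
    have e : orderOf (⟨y, hQ (Subgroup.mem_zpowers y)⟩ : Q) = r := (Subgroup.orderOf_mk _ _).trans hy
    rw [orderOf_eq_card_of_forall_mem_zpowers hg]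
    exact (dvd_of_eq e.symm).trans (orderOf_dvd_natCard _)
  obtain ⟨M, hM⟩ := hrN
  have hMpos : 0 < M := by
    have := orderOf_pos g
    rw [hM] at this
    exact pos_of_mul_pos_right this (Nat.zero_le _)
  have hgM : orderOf (g ^ M) = r := by
    rw [orderOf_pow' g hMpos.ne', hM, Nat.gcd_mul_left_left, Nat.mul_div_cancel _ hMpos]
  have key : ∀ x : Q, orderOf x = r → Subgroup.zpowers x = Subgroup.zpowers (g ^ M) := by
    intro x hx
    refine Subgroup.eq_of_le_of_card_ge (Subgroup.zpowers_le.2 ?_) (by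
      rw [Nat.card_zpowers, Nat.card_zpowers, hx, hgM])
    obtain ⟨n, rfl⟩ := mem_powers_iff_mem_zpowers.2 (hg x)
    have hd : orderOf g ∣ n * r := by
      rw [orderOf_dvd_iff_pow_eq_one, pow_mul, ← orderOf_dvd_iff_pow_eq_one]
      exact dvd_of_eq hx
    rw [hM, mul_comm r M] at hd
    obtain ⟨t, rfl⟩ := Nat.dvd_of_mul_dvd_mul_right hr.out.pos hd
    show g ^ (M * t) ∈ _
    rw [pow_mul]
    exact pow_mem (Subgroup.mem_zpowers _) _
  have ho : orderOf (⟨c * z * c⁻¹, h1⟩ : Q) = r :=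
    (Subgroup.orderOf_mk _ _).trans (((MulAut.conj c).orderOf_eq z).trans hz)
  have h3 : (⟨c * z * c⁻¹, h1⟩ : Q) ∈ Subgroup.zpowers ⟨y, hQ (Subgroup.mem_zpowers y)⟩ := by
    rw [key _ ((Subgroup.orderOf_mk _ _).trans hy), ← key _ ho]
    exact Subgroup.mem_zpowers _
  obtain ⟨n, hn⟩ := Subgroup.mem_zpowers_iff.1 h3
  exact Subgroup.mem_zpowers_iff.2 ⟨n, congrArg Subtype.val hn⟩

/-- The index of `A ∩ M` in its normaliser inside `M` divides the index of `A` in its
normaliser. -/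
theorem normalizer_index_subgroupOf [Finite Γ] {A M : Subgroup Γ} (hA : IsTI A) {z : Γ}
    (hzA : z ∈ A) (hzM : z ∈ M) (hz : z ≠ 1) :
    ∃ w, w * Nat.card A ∣ Nat.card (Subgroup.normalizer (A : Set Γ)) ∧
      Nat.card (Subgroup.normalizer (A.subgroupOf M : Set M)) = w * Nat.card (A.subgroupOf M) := by
  set N := Subgroup.normalizer (A : Set Γ) with hN
  set N₀ := Subgroup.normalizer (A.subgroupOf M : Set M) with hN₀
  have hle : ∀ n : M, n ∈ N₀ → (n : Γ) ∈ N := by
    intro n hn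
    refine hA _ z hzA hz ?_
    have := (Subgroup.mem_normalizer_iff.1 hn ⟨z, hzM⟩).1 hzA
    exact this
  let f : N₀ →* N := ((M.subtype).comp N₀.subtype).codRestrict N fun n => hle n.1 n.2
  have : (A.subgroupOf N).Normal := (Subgroup.normal_subgroupOf_iff_le_normalizer
    Subgroup.le_normalizer).2 le_rfl
  let g : N₀ →* N ⧸ A.subgroupOf N := (QuotientGroup.mk' (A.subgroupOf N)).comp f
  have hker : g.ker = (A.subgroupOf M).subgroupOf N₀ := by
    ext n
    rw [MonoidHom.mem_ker]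
    show (QuotientGroup.mk (f n) : N ⧸ A.subgroupOf N) = 1 ↔ _
    rw [QuotientGroup.eq_one_iff]
    rfl
  refine ⟨Nat.card g.range, ?_, ?_⟩
  · obtain ⟨k, hk⟩ := Subgroup.card_subgroup_dvd_card g.range
    rw [← Nat.card_congr (Subgroup.subgroupOfEquivOfLe (Subgroup.le_normalizer : A ≤ N)).toEquiv,
      ← Subgroup.index_mul_card (A.subgroupOf N)]
    exact ⟨k, by rw [Subgroup.index, hk]; ring⟩
  · rw [← Subgroup.index_ker, ← Nat.card_congr (Subgroup.subgroupOfEquivOfLe
      (Subgroup.le_normalizer : A.subgroupOf M ≤ N₀)).toEquiv, ← hker, Subgroup.index_mul_card]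

end CfsgLib.Suzuki
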