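/-
Suzuki group: odd Sylow subgroups, nilpotent centralisers, uniqueness in the partition.
-/
import Cfsg.Agent.Suzuki.Centralizers

set_option autoImplicit false

namespace CfsgLib.Suzuki

variable {F : Type*} [Field F] {m : ℕ}

local notation "G" => SzG F m

variable (h : IsSzField F m)
include h

theorem orderOf_dvd_of_mem_unip {g : G} (hg : g ∈ unip h) : orderOf g ∣ 2 ^ ((2 * m + 1) * 2) := by
  have := Subgroup.orderOf_dvd_natCard _ hg
  rwa [card_unip, h.card, ← pow_mul] at this

theorem isCyclic_sylow_odd {p : ℕ} [Fact p.Prime] (hp : p ≠ 2) (P : Sylow p G) : IsCyclic P := by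
  have := finite_G h
  rcases subsingleton_or_nontrivial (P : Subgroup G) with hs | hs
  · exact isCyclic_of_subsingleton
  obtain ⟨⟨z, hz⟩, hz1⟩ := @exists_ne _ (P.isPGroup'.center_nontrivial) 1
  have hz1' : (z : G) ≠ 1 := fun e => hz1 (Subtype.ext (Subtype.ext e))
  have hle : (P : Subgroup G) ≤ Subgroup.centralizer ({(z : G)} : Set G) := fun x hx => by
    rw [Subgroup.mem_centralizer_singleton_iff]
    exact congrArg Subtype.val (Subgroup.mem_center_iff.1 hz ⟨x, hx⟩)
  rcases centralizer_cases h hz1' with ⟨c, hc, -⟩ | ⟨hcy, -⟩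
  · exfalso
    have h2 := orderOf_dvd_of_mem_unip h hc
    rw [orderOf_conj_eq] at h2
    obtain ⟨k, hk⟩ := IsPGroup.iff_orderOf.1 P.isPGroup' z
    rw [Subgroup.orderOf_coe] at h2
    rw [hk] at h2
    rcases Nat.eq_zero_or_pos k with rfl | hk0
    · rw [pow_zero, orderOf_eq_one_iff] at hk
      exact hz1' (congrArg Subtype.val hk)
    · exact hp ((Nat.prime_dvd_prime_iff_eq Fact.out Nat.prime_two).1
        ((Fact.out : p.Prime).dvd_of_dvd_pow ((dvd_pow_self p hk0.ne').trans h2)))
  · exact isCyclic_of_injective (Subgroup.inclusion hle) (Subgroup.inclusion_injective hle)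

theorem isCNGroup : Cfsg.IsCNGroup G := by
  intro g hg
  rcases centralizer_cases h hg with ⟨c, -, hc⟩ | ⟨hcy, -⟩
  · have := finite_G h
    have : Fact (Nat.Prime 2) := ⟨Nat.prime_two⟩
    have hP : IsPGroup 2 (Subgroup.centralizer ({g} : Set G)) := by
      refine (isPGroup_unip h).of_injective
        (((MulAut.conj c).toMonoidHom.comp (Subgroup.centralizer ({g} : Set G)).subtype).codRestrict
          (unip h) fun x => hc x.1 x.2) ?_
      intro x y e
      exact Subtype.ext ((MulAut.conj c).injective (congrArg Subtype.val e))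
    exact hP.isNilpotent
  · let : CommGroup (Subgroup.centralizer ({g} : Set G)) := IsCyclic.commGroup
    infer_instance

theorem sylow_unique {P Q : Sylow 2 G} {g : G} (hg : g ≠ 1) (hP : g ∈ (P : Subgroup G))
    (hQ : g ∈ (Q : Subgroup G)) : (P : Subgroup G) = Q := by
  obtain ⟨c, hc⟩ := sylow_eq_conj h P
  obtain ⟨d, hd⟩ := sylow_eq_conj h Q
  rw [hc] at hP ⊢
  rw [hd] at hQ ⊢
  rw [Subgroup.mem_map_equiv, MulAut.conj_symm_apply] at hP hQ
  have hne : c⁻¹ * g * c ≠ 1 := fun e => hg (by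
    have := congrArg (fun x => c * x * c⁻¹) e
    simpa [mul_assoc] using this)
  have hmem : d⁻¹ * c ∈ Subgroup.normalizer (unip h : Set G) := by
    rw [normalizer_unip]
    refine mem_borel_of_conj_mem_unip h hP hne ?_
    convert hQ using 1
    group
  ext x
  rw [Subgroup.mem_map_equiv, Subgroup.mem_map_equiv, MulAut.conj_symm_apply,
    MulAut.conj_symm_apply, (Subgroup.mem_normalizer_iff.1 hmem (c⁻¹ * x * c))]
  constructor <;> intro hx <;> convert hx using 1 <;> group

theorem partition {g : G} (hg : g ≠ 1) :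
    ∃! U : Subgroup G, ((∃ P : Sylow 2 G, U = (P : Subgroup G)) ∨
      (IsCyclic U ∧ Nat.card U ∈ torusOrders m)) ∧ g ∈ U := by
  have := finite_G h
  have : Fact (Nat.Prime 2) := ⟨Nat.prime_two⟩
  -- an element of a cyclic torus is not a 2-element
  have hodd : ∀ U : Subgroup G, Nat.card U ∈ torusOrders m → g ∈ U → ¬ 2 ∣ orderOf g :=
    fun U hU hgU hd => torusOrders_odd h hU (hd.trans (Subgroup.orderOf_dvd_natCard _ hgU))
  have heven : ∀ P : Sylow 2 G, g ∈ (P : Subgroup G) → 2 ∣ orderOf g := by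
    intro P hP
    obtain ⟨k, hk⟩ := IsPGroup.iff_orderOf.1 P.isPGroup' ⟨g, hP⟩
    rw [← Subgroup.orderOf_coe] at hk
    change orderOf g = 2 ^ k at hk
    rcases Nat.eq_zero_or_pos k with rfl | hk0
    · exact absurd (orderOf_eq_one_iff.1 (by simpa using hk)) hg
    · rw [hk]; exact dvd_pow_self 2 hk0.ne'
  have hC : ∀ U : Subgroup G, IsCyclic U → g ∈ U →
      U ≤ Subgroup.centralizer ({g} : Set G) := by
    intro U hU hgU x hx
    let : CommGroup U := IsCyclic.commGroup
    rw [Subgroup.mem_centralizer_singleton_iff]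
    exact congrArg Subtype.val (mul_comm (⟨x, hx⟩ : U) ⟨g, hgU⟩)
  rcases centralizer_cases h hg with ⟨c, hc, hcall⟩ | ⟨hcy, hcard⟩
  · have hgP : g ∈ ((c⁻¹ • unipSylow h : Sylow 2 G) : Subgroup G) := by
      show g ∈ (unip h).map (MulAut.conj c⁻¹).toMonoidHom
      rw [Subgroup.mem_map_equiv, MulAut.conj_symm_apply, inv_inv]
      exact hc
    refine ⟨_, ⟨Or.inl ⟨_, rfl⟩, hgP⟩, ?_⟩
    rintro U ⟨⟨P, rfl⟩ | ⟨-, hU⟩, hgU⟩
    · exact sylow_unique h hg hgU hgP
    · exact absurd (heven _ hgP) (hodd U hU hgU)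
  · have hgC : g ∈ Subgroup.centralizer ({g} : Set G) :=
      Subgroup.mem_centralizer_singleton_iff.2 rfl
    refine ⟨_, ⟨Or.inr ⟨hcy, hcard⟩, hgC⟩, ?_⟩
    rintro U ⟨⟨P, rfl⟩ | ⟨hUc, hU⟩, hgU⟩
    · exact absurd (heven P hgU) (hodd _ hcard hgC)
    · refine Subgroup.eq_of_le_of_card_ge (hC U hUc hgU) (le_of_eq ?_)
      by_contra hne
      have hcop := torusOrders_coprime h hU hcard (fun e => hne e.symm)
      have hd := Subgroup.card_dvd_of_le (hC U hUc hgU)
      have h1 : Nat.card U = 1 := Nat.eq_one_of_dvd_coprimes hcop dvd_rfl hd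
      rw [Subgroup.card_eq_one] at h1
      rw [h1, Subgroup.mem_bot] at hgU
      exact hg hgU

end CfsgLib.Suzuki
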