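/-
Suzuki group: solvable subgroups and their position.
-/
import Cfsg.Agent.Suzuki.SylowOdd
import Cfsg.Agent.Suzuki.GroupLemmas

set_option autoImplicit false

namespace CfsgLib.Suzuki

variable {F : Type*} [Field F] {m : ℕ}

local notation "G" => SzG F m

/-- The centraliser of an element of torus type. -/
def IsTorusElt (z : SzG F m) : Prop :=
  z ≠ 1 ∧ IsCyclic (Subgroup.centralizer ({z} : Set (SzG F m))) ∧
    Nat.card (Subgroup.centralizer ({z} : Set (SzG F m))) ∈ torusOrders m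

variable (h : IsSzField F m)
include h

theorem IsTorusElt.not_conj_unip {z : G} (hz : IsTorusElt z) (c : G) : c * z * c⁻¹ ∉ unip h := by
  intro hc
  have h1 := orderOf_dvd_of_mem_unip h hc
  rw [orderOf_conj_eq] at h1
  have h2 : orderOf z ∣ Nat.card (Subgroup.centralizer ({z} : Set G)) :=
    Subgroup.orderOf_dvd_natCard _ (Subgroup.mem_centralizer_singleton_iff.2 rfl)
  have hcop : Nat.Coprime (2 ^ ((2 * m + 1) * 2))
      (Nat.card (Subgroup.centralizer ({z} : Set G))) :=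
    Nat.Coprime.pow_left _ ((Nat.prime_two.coprime_iff_not_dvd).2 (torusOrders_odd h hz.2.2))
  exact hz.1 (orderOf_eq_one_iff.1 (Nat.eq_one_of_dvd_coprimes hcop h1 h2))

theorem IsTorusElt.centralizer_eq {z x : G} (hz : IsTorusElt z)
    (hx : x ∈ Subgroup.centralizer ({z} : Set G)) (hx1 : x ≠ 1) :
    IsTorusElt x ∧
      Subgroup.centralizer ({x} : Set G) = Subgroup.centralizer ({z} : Set G) := by
  have hxz := Subgroup.mem_centralizer_singleton_iff.1 hx
  have hzx : z ∈ Subgroup.centralizer ({x} : Set G) :=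
    Subgroup.mem_centralizer_singleton_iff.2 hxz.symm
  rcases centralizer_cases h hx1 with ⟨c, -, hall⟩ | ⟨hcy, hk⟩
  · exact absurd (hall z hzx) (hz.not_conj_unip h c)
  · refine ⟨⟨hx1, hcy, hk⟩, le_antisymm (fun y hy => ?_) (fun y hy => ?_)⟩
    · let : CommGroup (Subgroup.centralizer ({x} : Set G)) := hcy.commGroup
      rw [Subgroup.mem_centralizer_singleton_iff]
      exact congrArg Subtype.val
        (mul_comm (⟨y, hy⟩ : Subgroup.centralizer ({x} : Set G)) ⟨z, hzx⟩)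
    · let : CommGroup (Subgroup.centralizer ({z} : Set G)) := hz.2.1.commGroup
      rw [Subgroup.mem_centralizer_singleton_iff]
      exact congrArg Subtype.val
        (mul_comm (⟨y, hy⟩ : Subgroup.centralizer ({z} : Set G)) ⟨x, hx⟩)

theorem IsTorusElt.isTI {z : G} (hz : IsTorusElt z) :
    IsTI (Subgroup.centralizer ({z} : Set G)) :=
  isTI_of_centralizer_eq fun _ hx hx1 => (hz.centralizer_eq h hx hx1).2

/-- Either conjugate into `U`, or of torus type. -/
theorem unip_or_torusElt {g : G} (hg : g ≠ 1) :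
    (∃ c : G, c * g * c⁻¹ ∈ unip h) ∨ IsTorusElt g := by
  rcases centralizer_cases h hg with ⟨c, hc, -⟩ | ⟨hcy, hk⟩
  · exact Or.inl ⟨c, hc⟩
  · exact Or.inr ⟨hg, hcy, hk⟩

theorem abelian_normal_case {M K : Subgroup G} (hKM : K ≤ M)
    (hnorm : ∀ n ∈ M, ∀ x ∈ K, n * x * n⁻¹ ∈ K) (hK : K ≠ ⊥)
    (hcomm : ∀ a ∈ K, ∀ b ∈ K, a * b = b * a) :
    (∃ p ∈ Cfsg.suzukiOvoid F m, ∀ n ∈ M, n • p = p) ∨
      ∃ A : Subgroup G, IsCyclic A ∧ Nat.card A ∈ torusOrders m ∧
        M ≤ Subgroup.normalizer (A : Set G) := by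
  obtain ⟨z, hzK, hz1⟩ : ∃ z ∈ K, z ≠ 1 := by
    by_contra hc
    simp only [not_exists, not_and, not_not] at hc
    exact hK ((Subgroup.eq_bot_iff_forall _).2 hc)
  have hKC : ∀ x ∈ K, x ∈ Subgroup.centralizer ({z} : Set G) := fun x hx =>
    Subgroup.mem_centralizer_singleton_iff.2 (hcomm x hx z hzK)
  rcases centralizer_cases h hz1 with ⟨c, hc, hall⟩ | ⟨hcy, hk⟩
  · left
    refine ⟨c⁻¹ • inf F, smul_mem_ovoid' c⁻¹ inf_mem, fun n hn => ?_⟩
    have hw := hall _ (hKC _ (hnorm n hn z hzK))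
    have hw1 : c * (n * z * n⁻¹) * c⁻¹ ≠ 1 := fun e =>
      hz1 (conj_eq_one_iff.1 (conj_eq_one_iff.1 e))
    have hzfix : z • (c⁻¹ • inf F) = c⁻¹ • inf F := by
      have e : (c * z * c⁻¹) • inf F = inf F := unip_le_stab h hc
      rw [mul_smul, mul_smul] at e
      rwa [eq_inv_smul_iff]
    have hfix : (c * (n * z * n⁻¹) * c⁻¹) • (c • (n • (c⁻¹ • inf F))) = c • (n • (c⁻¹ • inf F)) := by
      simp only [mul_smul, inv_smul_smul, hzfix]
    have e := eq_inf_of_unip_fix h hw hw1 (smul_mem_ovoid' c (smul_mem_ovoid' n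
      (smul_mem_ovoid' c⁻¹ inf_mem))) hfix
    exact eq_inv_smul_iff.2 e
  · right
    refine ⟨Subgroup.centralizer ({z} : Set G), hcy, hk, fun n hn => ?_⟩
    have hT : IsTorusElt z := ⟨hz1, hcy, hk⟩
    have hzC : z ∈ Subgroup.centralizer ({z} : Set G) :=
      Subgroup.mem_centralizer_singleton_iff.2 rfl
    have hnC : n * z * n⁻¹ ∈ Subgroup.centralizer ({z} : Set G) := hKC _ (hnorm n hn z hzK)
    exact hT.isTI h n z hzC hz1 hnC

theorem solvable_subgroup_cases {M : Subgroup G} (hM : Group.IsSolvable M) :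
    (∃ p ∈ Cfsg.suzukiOvoid F m, ∀ n ∈ M, n • p = p) ∨
      ∃ A : Subgroup G, IsCyclic A ∧ Nat.card A ∈ torusOrders m ∧
        M ≤ Subgroup.normalizer (A : Set G) := by
  rcases subsingleton_or_nontrivial M with hs | hs
  · refine Or.inl ⟨inf F, inf_mem, fun n hn => ?_⟩
    have : n = 1 := congrArg Subtype.val (Subsingleton.elim (⟨n, hn⟩ : M) 1)
    rw [this, one_smul]
  obtain ⟨K, hKn, hK, hcomm⟩ := exists_abelian_normal (Γ := M)
  refine abelian_normal_case h (K := K.map M.subtype) (Subgroup.map_subtype_le K) ?_ ?_ ?_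
  · rintro n hn _ ⟨x, hx, rfl⟩
    refine Subgroup.mem_map.2 ⟨(⟨n, hn⟩ : M) * x * (⟨n, hn⟩ : M)⁻¹, hKn.conj_mem x hx _, ?_⟩
    simp
  · rwa [Ne, Subgroup.map_eq_bot_iff_of_injective _ M.subtype_injective]
  · rintro _ ⟨a, ha, rfl⟩ _ ⟨b, hb, rfl⟩
    rw [← map_mul, ← map_mul, hcomm a ha b hb]

/-- Every subgroup whose Sylow 2-subgroups are cyclic is solvable. -/
theorem isSolvable_of_cyclic_sylow_two {M : Subgroup G}
    (h2 : ∀ P : Sylow 2 M, IsCyclic P) : Group.IsSolvable M := by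
  have := finite_G h
  have : IsZGroup M := ⟨fun p hp P => by
    have : Fact p.Prime := ⟨hp⟩
    by_cases hp2 : p = 2
    · subst hp2; exact h2 P
    · obtain ⟨Q, hQ⟩ := (P.isPGroup'.map M.subtype).exists_le_sylow
      have := isCyclic_sylow_odd h hp2 Q
      exact isCyclic_of_injective
        ((Subgroup.inclusion hQ).comp
          ((P : Subgroup M).equivMapOfInjective M.subtype M.subtype_injective).toMonoidHom)
        ((Subgroup.inclusion_injective hQ).comp (MulEquiv.injective _))⟩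
  infer_instance

end CfsgLib.Suzuki
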