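/-
Suzuki group: field embeddings and the subfield subgroups they induce.
-/
import Cfsg.Agent.Suzuki.Centralizers

set_option autoImplicit false

namespace CfsgLib.Suzuki

open Matrix

variable {F : Type*} [Field F] {m : ℕ} {K : Type*} [Field K] {k : ℕ}

section Hom

variable (φ : K →+* F)

/-- Apply a field embedding to a special linear matrix. -/
noncomputable def slMap : SpecialLinearGroup (Fin 4) K →* SpecialLinearGroup (Fin 4) F :=
  SpecialLinearGroup.map φ

theorem slMap_val (g : SpecialLinearGroup (Fin 4) K) : (slMap φ g).val = g.val.map φ := rfl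

theorem slMap_injective : Function.Injective (slMap φ) := by
  intro g g' e
  apply Subtype.ext
  exact Matrix.map_injective φ.injective (congrArg Subtype.val e)

theorem exponent_congr (hdiv : 2 * k + 1 ∣ 2 * m + 1) : ∃ j, m = k + (2 * k + 1) * j := by
  obtain ⟨c, hc⟩ := hdiv
  obtain ⟨j, rfl⟩ : Odd c := by
    have : Odd ((2 * k + 1) * c) := by rw [← hc]; exact odd_two_mul_add_one m
    exact (Nat.odd_mul.1 this).2
  refine ⟨j, ?_⟩
  have : (2 * k + 1) * (2 * j + 1) = 2 * ((2 * k + 1) * j) + (2 * k + 1) := by ring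
  omega

theorem pow_pow_card_pow {R : Type*} [Monoid R] (x : R) (Q : ℕ) (hx : x ^ Q = x) (j : ℕ) :
    x ^ (Q ^ j) = x := by
  induction j with
  | zero => simp
  | succ j ih => rw [pow_succ, pow_mul, ih, hx]

theorem map_sg (hK : IsSzField K k) (hdiv : 2 * k + 1 ∣ 2 * m + 1) (x : K) :
    φ (sg k x) = sg m (φ x) := by
  obtain ⟨j, hj⟩ := exponent_congr hdiv
  have := hK.finite
  let : Fintype K := Fintype.ofFinite K
  have hx : x ^ (2 ^ (2 * k + 1)) = x := by
    rw [← hK.card, Nat.card_eq_fintype_card, FiniteField.pow_card]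
  rw [sg, sg, ← map_pow]
  congr 1
  conv_rhs => rw [show m + 1 = (2 * k + 1) * j + (k + 1) by omega, pow_add, pow_mul, pow_mul,
    pow_pow_card_pow x _ hx]

variable (hK : IsSzField K k) (hdiv : 2 * k + 1 ∣ 2 * m + 1)
include hK hdiv

theorem map_zf (a b : K) : φ (zf k a b) = zf m (φ a) (φ b) := by
  simp only [zf, map_add, map_mul, map_pow, map_sg φ hK hdiv]

theorem slMap_U (a b : K) : slMap φ (U k a b) = U m (φ a) (φ b) := by
  apply Subtype.ext
  rw [slMap_val, U_val, U_val]
  ext i j
  fin_cases i <;> fin_cases j <;> simp [Umat, map_sg φ hK hdiv, map_zf φ hK hdiv]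

theorem slMap_D (t : Kˣ) : slMap φ (D k t) = D m (Units.map φ.toMonoidHom t) := by
  apply Subtype.ext
  rw [slMap_val, D_val, D_val]
  ext i j
  fin_cases i <;> fin_cases j <;> simp [Dmat, map_sg φ hK hdiv]

omit hK hdiv in
theorem slMap_W : slMap φ (W K) = W F := by
  apply Subtype.ext
  rw [slMap_val, W_val, W_val]
  ext i j
  fin_cases i <;> fin_cases j <;> simp [Wmat]

theorem slMap_mem (h : IsSzField F m) (g : SzG K k) : slMap φ g.1 ∈ Cfsg.Sz F m := by
  rcases decomp hK g with ⟨a, b, t, rfl⟩ | ⟨a, b, c, d, t, rfl⟩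
  · rw [Subgroup.coe_mul, uE_val, dE_val, map_mul, slMap_U φ hK hdiv, slMap_D φ hK hdiv]
    exact mul_mem (U_mem h _ _) (D_mem h _)
  · simp only [Subgroup.coe_mul, uE_val, dE_val, wE_val, map_mul, slMap_U φ hK hdiv,
      slMap_D φ hK hdiv, slMap_W]
    exact mul_mem (mul_mem (mul_mem (U_mem h _ _) (W_mem h)) (U_mem h _ _)) (D_mem h _)

variable (h : IsSzField F m)

/-- The embedding of Suzuki groups induced by a field embedding. -/
noncomputable def szMap : SzG K k →* SzG F m :=
  ((slMap φ).comp (Cfsg.Sz K k).subtype).codRestrict (Cfsg.Sz F m) (slMap_mem φ hK hdiv h)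

theorem szMap_val (g : SzG K k) : (szMap φ hK hdiv h g).1 = slMap φ g.1 := rfl

theorem szMap_injective : Function.Injective (szMap φ hK hdiv h) := by
  intro g g' e
  exact Subtype.ext (slMap_injective φ (congrArg Subtype.val e))

theorem szMap_uE (a b : K) : szMap φ hK hdiv h (uE hK a b) = uE h (φ a) (φ b) :=
  Subtype.ext (slMap_U φ hK hdiv a b)

theorem szMap_dE (t : Kˣ) : szMap φ hK hdiv h (dE hK t) = dE h (Units.map φ.toMonoidHom t) :=
  Subtype.ext (slMap_D φ hK hdiv t)

theorem szMap_wE : szMap φ hK hdiv h (wE hK) = wE h :=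
  Subtype.ext (slMap_W φ)

end Hom

/-- The field with `2 ^ (2k+1)` elements embeds whenever the degrees divide. -/
theorem exists_subfield_hom (h : IsSzField F m) (hdiv : 2 * k + 1 ∣ 2 * m + 1) :
    Nonempty (GaloisField 2 (2 * k + 1) →+* F) := by
  have := h.charP
  have := h.finite
  let : Algebra (ZMod 2) F := ZMod.algebra F 2
  have hF : Module.finrank (ZMod 2) F = 2 * m + 1 := by
    have e := Module.natCard_eq_pow_finrank (K := ZMod 2) (V := F)
    rw [h.card, Nat.card_zmod] at e
    exact (Nat.pow_right_injective (le_refl 2) e).symm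
  obtain ⟨f⟩ := FiniteField.nonempty_algHom_of_finrank_dvd
    (F := ZMod 2) (K := GaloisField 2 (2 * k + 1)) (L := F)
    (by rw [hF, GaloisField.finrank 2 (by omega)]; exact hdiv)
  exact ⟨f.toRingHom⟩

theorem galoisField_isSzField (hk : 1 ≤ k) : IsSzField (GaloisField 2 (2 * k + 1)) k :=
  ⟨hk, GaloisField.card 2 _ (by omega)⟩

/-- The image of a field embedding consists of the roots of `x ^ |K| = x`. -/
theorem mem_range_iff (φ : K →+* F) [Finite K] (x : F) :
    x ∈ Set.range φ ↔ x ^ Nat.card K = x := by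
  classical
  let : Fintype K := Fintype.ofFinite K
  constructor
  · rintro ⟨a, rfl⟩
    rw [← map_pow, Nat.card_eq_fintype_card, FiniteField.pow_card]
  · intro hx
    by_contra hne
    set P : Polynomial F := Polynomial.X ^ Nat.card K - Polynomial.X
    have h1 : 1 < Nat.card K := Finite.one_lt_card
    have hP : P ≠ 0 := FiniteField.X_pow_card_sub_X_ne_zero F h1
    have hdeg : P.natDegree = Nat.card K := FiniteField.X_pow_card_sub_X_natDegree_eq F h1
    let S : Finset F := insert x (Finset.univ.image φ)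
    have hroot : ∀ y ∈ S, y ∈ P.roots := by
      intro y hy
      rw [Polynomial.mem_roots hP, Polynomial.IsRoot, Polynomial.eval_sub, Polynomial.eval_pow,
        Polynomial.eval_X, sub_eq_zero]
      rcases Finset.mem_insert.1 hy with rfl | hy
      · exact hx
      · obtain ⟨a, -, rfl⟩ := Finset.mem_image.1 hy
        rw [← map_pow, Nat.card_eq_fintype_card, FiniteField.pow_card]
    have hcard : S.card = Nat.card K + 1 := by
      rw [Finset.card_insert_of_notMem, Finset.card_image_of_injective _ φ.injective,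
        Finset.card_univ, Nat.card_eq_fintype_card]
      intro hmem
      obtain ⟨a, -, e⟩ := Finset.mem_image.1 hmem
      exact hne ⟨a, e⟩
    have hle : S.card ≤ P.natDegree := by
      refine le_trans ?_ P.card_roots'
      exact le_trans (Finset.card_le_card fun y hy => Multiset.mem_toFinset.2 (hroot y hy))
        (Multiset.toFinset_card_le _)
    omega

end CfsgLib.Suzuki
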