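/-
Suzuki group: normal form of a non-solvable subgroup at infinity.
-/
import Cfsg.Agent.Suzuki.Solvable
import Cfsg.Agent.Suzuki.Subfield

set_option autoImplicit false

namespace CfsgLib.Suzuki

variable {F : Type*} [Field F] {m : ℕ}

local notation "G" => SzG F m

/-- The conjugate subgroup. -/
abbrev conjBy (c : SzG F m) (M : Subgroup (SzG F m)) : Subgroup (SzG F m) :=
  M.map (MulAut.conj c).toMonoidHom

theorem mem_conjBy {c x : G} {M : Subgroup G} : x ∈ conjBy c M ↔ c⁻¹ * x * c ∈ M := by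
  rw [conjBy, Subgroup.mem_map_equiv, MulAut.conj_symm_apply]

theorem conjBy_conjBy (c d : G) (M : Subgroup G) : conjBy c (conjBy d M) = conjBy (c * d) M := by
  ext x
  rw [mem_conjBy, mem_conjBy, mem_conjBy, mul_inv_rev]
  simp only [mul_assoc]

theorem conjBy_one (M : Subgroup G) : conjBy 1 M = M := by
  ext x
  rw [mem_conjBy, inv_one, one_mul, mul_one]

/-- The scaling factor of the torus on the centre of `U`. -/
def lam (m : ℕ) (t : Fˣ) : F := sg m (t : F) * (t : F) ^ 2

theorem lam_mul (s t : Fˣ) : lam m (s * t) = lam m s * lam m t := by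
  simp only [lam, Units.val_mul, sg_mul]
  ring

theorem lam_ne_zero (t : Fˣ) : lam m t ≠ 0 :=
  mul_ne_zero (sg_ne_zero t.ne_zero) (pow_ne_zero _ t.ne_zero)

variable (h : IsSzField F m)

theorem lam_injective (hz : IsSzField F m) : Function.Injective (lam (F := F) m) := by
  intro s t e
  have h1 : lam m (s * t⁻¹) = 1 := by
    have h2 : lam m (s * t⁻¹) * lam m t = lam m t := by
      rw [← lam_mul, inv_mul_cancel_right, e]
    exact (mul_eq_right₀ (lam_ne_zero t)).1 h2
  exact mul_inv_eq_one.1 (scale_eq_one_right hz one_ne_zero (by rw [mul_one]; exact h1))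

theorem uE_dE_inj {a b c d : F} {s t : Fˣ} (e : uE h a b * dE h s = uE h c d * dE h t) :
    a = c ∧ b = d ∧ s = t := by
  have e' := congrArg (fun g : G => g • pt m (0 : F) 0) e
  have hd : ∀ r : Fˣ, dE h r • pt m (0 : F) 0 = pt m 0 0 := fun r =>
    ((mem_torus_iff h).1 ⟨r, rfl⟩).2
  simp only [mul_smul, hd, uE_smul_pt] at e'
  simp only [mul_zero, zero_add, pt_eq_iff] at e'
  obtain ⟨rfl, rfl⟩ := e'
  exact ⟨rfl, rfl, dE_injective h (mul_left_cancel e)⟩

theorem dE_conj_center (t : Fˣ) (a c b : F) :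
    uE h a c * dE h t * uE h 0 b * (uE h a c * dE h t)⁻¹ = uE h 0 (lam m t * b) := by
  rw [show uE h a c * dE h t * uE h 0 b * (uE h a c * dE h t)⁻¹ =
    uE h a c * (dE h t * uE h 0 b * (dE h t)⁻¹) * (uE h a c)⁻¹ by group, dE_conj, uE_conj]
  simp [lam]

/-- A subgroup with non-cyclic intersection with `U`, not fixing infinity. -/
structure Frame (M : Subgroup (SzG F m)) : Prop where
  nc : ¬ IsCyclic (M ⊓ unip h : Subgroup (SzG F m))
  not_le : ¬ M ≤ borel F m

theorem mem_borel_iff {g : G} : g ∈ borel F m ↔ g • inf F = inf F := MulAction.mem_stabilizer_iff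

/-- Conjugation by an element fixing infinity keeps a frame. -/
theorem Frame.conj {M : Subgroup G} (hM : Frame h M) {b : G} (hb : b ∈ borel F m) :
    Frame h (conjBy b M) := by
  have hN : b ∈ Subgroup.normalizer (unip h : Set G) := borel_le_normalizer h hb
  have hU : ∀ x, b⁻¹ * x * b ∈ unip h ↔ x ∈ unip h := by
    intro x
    have := Subgroup.mem_normalizer_iff.1 hN (b⁻¹ * x * b)
    rwa [show b * (b⁻¹ * x * b) * b⁻¹ = x by group] at this
  have he : conjBy b (M ⊓ unip h) = conjBy b M ⊓ unip h := by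
    ext x
    rw [mem_conjBy, Subgroup.mem_inf, Subgroup.mem_inf, mem_conjBy, hU]
  refine ⟨fun hc => hM.nc ?_, fun hle => hM.not_le fun x hx => ?_⟩
  · rw [← he] at hc
    exact ((M ⊓ unip h).equivMapOfInjective _ (MulAut.conj b).injective).isCyclic.2 hc
  · have h1 : b * x * b⁻¹ ∈ conjBy b M := by
      rw [mem_conjBy, show b⁻¹ * (b * x * b⁻¹) * b = x by group]
      exact hx
    have h2 := mul_mem (mul_mem (inv_mem hb) (hle h1)) hb
    rwa [show b⁻¹ * (b * x * b⁻¹) * b = x by group] at h2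

theorem exists_frame {M : Subgroup G} (hz : IsSzField F m) (hM : ¬ Group.IsSolvable M) :
    ∃ c : G, Frame hz (conjBy c M) := by
  have := finite_G hz
  obtain ⟨P, hP⟩ : ∃ P : Sylow 2 M, ¬ IsCyclic P := by
    by_contra hc
    simp only [not_exists, not_not] at hc
    exact hM (isSolvable_of_cyclic_sylow_two hz hc)
  obtain ⟨c, hc⟩ := exists_conj_le_unip hz (P.isPGroup'.map M.subtype)
  refine ⟨c, fun hcy => hP ?_, fun hle => hM ?_⟩
  · let f : P →* (conjBy c M ⊓ unip hz : Subgroup G) :=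
      (((MulAut.conj c).toMonoidHom.comp M.subtype).comp (P : Subgroup M).subtype).codRestrict _
        fun x => Subgroup.mem_inf.2 ⟨Subgroup.mem_map_of_mem _ x.1.2,
          hc _ (Subgroup.mem_map_of_mem M.subtype x.2)⟩
    have hf : Function.Injective f := by
      intro x y e
      have e' : (MulAut.conj c) (x.1 : G) = (MulAut.conj c) (y.1 : G) := congrArg Subtype.val e
      exact Subtype.ext (Subtype.ext ((MulAut.conj c).injective e'))
    exact isCyclic_of_injective f hf
  · have := solvable_stab hz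
    have h1 : Group.IsSolvable (conjBy c M) :=
      Group.isSolvable_of_isSolvable_injective (Subgroup.inclusion_injective hle)
    exact Group.isSolvable_of_isSolvable_injective
      (f := (M.equivMapOfInjective (MulAut.conj c).toMonoidHom (MulAut.conj c).injective).toMonoidHom)
      (MulEquiv.injective _)

/-! ### Invariants of a frame -/

/-- The central coordinates present in `M`. -/
def centerCoords (M : Subgroup (SzG F m)) : AddSubgroup F where
  carrier := {b | uE h 0 b ∈ M}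
  zero_mem' := by
    show uE h 0 0 ∈ M
    rw [uE_zero]
    exact M.one_mem
  add_mem' := fun {a b} ha hb => by
    show uE h 0 (a + b) ∈ M
    have := M.mul_mem ha hb
    simpa [uE_mul] using this
  neg_mem' := fun {a} ha => by
    show uE h 0 (-a) ∈ M
    have := h.charP
    rw [CharTwo.neg_eq]
    exact ha

theorem mem_centerCoords {M : Subgroup G} {b : F} : b ∈ centerCoords h M ↔ uE h 0 b ∈ M := Iff.rfl

/-- The torus coordinates present in the stabiliser of infinity in `M`. -/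
def torusCoords (M : Subgroup (SzG F m)) : Subgroup Fˣ where
  carrier := {t | ∃ a b, uE h a b * dE h t ∈ M}
  one_mem' := ⟨0, 0, by rw [uE_zero, map_one, one_mul]; exact M.one_mem⟩
  mul_mem' := fun {s t} ⟨a, b, hs⟩ ⟨c, d, ht⟩ => by
    refine ⟨a + sg m (s : F) * c,
      b + sg m (s : F) * (s : F) ^ 2 * d + sg m a * (sg m (s : F) * c), ?_⟩
    have e : uE h a b * dE h s * (uE h c d * dE h t) =
        uE h (a + sg m (s : F) * c)
          (b + sg m (s : F) * (s : F) ^ 2 * d + sg m a * (sg m (s : F) * c)) * dE h (s * t) := by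
      rw [mul_assoc, ← mul_assoc (dE h s), dE_mul_uE, ← mul_assoc, ← mul_assoc, uE_mul,
        mul_assoc, ← map_mul]
    exact e ▸ M.mul_mem hs ht
  inv_mem' := fun {t} ⟨a, b, ht⟩ => by
    refine ⟨sg m ((t⁻¹ : Fˣ) : F) * a,
      sg m ((t⁻¹ : Fˣ) : F) * ((t⁻¹ : Fˣ) : F) ^ 2 * (b + sg m a * a), ?_⟩
    have e : (uE h a b * dE h t)⁻¹ = uE h (sg m ((t⁻¹ : Fˣ) : F) * a)
        (sg m ((t⁻¹ : Fˣ) : F) * ((t⁻¹ : Fˣ) : F) ^ 2 * (b + sg m a * a)) * dE h t⁻¹ := by
      rw [mul_inv_rev, ← map_inv, uE_inv, dE_mul_uE]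
    exact e ▸ M.inv_mem ht

theorem mem_torusCoords {M : Subgroup G} {t : Fˣ} :
    t ∈ torusCoords h M ↔ ∃ a b, uE h a b * dE h t ∈ M := Iff.rfl

theorem sq_eq_one_cases {a b : F} (e : uE h a b * uE h a b = 1) : a = 0 := by
  rw [uE_sq, uE_eq_one] at e
  rcases mul_eq_zero.1 e.2 with e' | e'
  · exact sg_eq_zero.1 e'
  · exact e'

/-- Some involution of `U` lies in a frame. -/
theorem Frame.exists_ne_zero {M : Subgroup G} (hM : Frame h M) :
    ∃ b, b ≠ 0 ∧ b ∈ centerCoords h M := by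
  by_contra hc
  simp only [not_exists, not_and] at hc
  have : Subsingleton (M ⊓ unip h : Subgroup G) := by
    refine ⟨fun x y => ?_⟩
    have key : ∀ z : (M ⊓ unip h : Subgroup G), (z : G) = 1 := by
      rintro ⟨z, hzM, hzU⟩
      obtain ⟨a, b, rfl⟩ := exists_uE h hzU
      have h1 : sg m a * a ∈ centerCoords h M := by
        rw [mem_centerCoords, ← uE_sq h a b]
        exact M.mul_mem hzM hzM
      have h2 : sg m a * a = 0 := by_contra fun hne => hc _ hne h1
      have ha : a = 0 := by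
        rcases mul_eq_zero.1 h2 with e' | e'
        · exact sg_eq_zero.1 e'
        · exact e'
      subst ha
      have hb : b = 0 := by_contra fun hne => hc b hne hzM
      exact (uE_eq_one h).2 ⟨rfl, hb⟩
    exact Subtype.ext ((key x).trans (key y).symm)
  exact hM.nc isCyclic_of_subsingleton

/-- There are at least two involutions. -/
theorem Frame.exists_two {M : Subgroup G} (hM : Frame h M) {b : F} (hb : b ≠ 0)
    (hbM : b ∈ centerCoords h M) : ∃ b', b' ≠ 0 ∧ b' ≠ b ∧ b' ∈ centerCoords h M := by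
  by_contra hc
  simp only [not_exists, not_and] at hc
  have honly : ∀ x, x ∈ centerCoords h M → x = 0 ∨ x = b := fun x hx =>
    or_iff_not_imp_left.2 fun h0 => by_contra fun h1 => hc x h0 h1 hx
  apply hM.nc
  by_cases hall : ∀ a c, uE h a c ∈ M → a = 0
  · rw [isCyclic_iff_exists_zpowers_eq_top]
    refine ⟨⟨uE h 0 b, Subgroup.mem_inf.2 ⟨hbM, uE_mem h _ _⟩⟩, eq_top_iff.2 fun x _ => ?_⟩
    obtain ⟨a, c, e⟩ := exists_uE h (Subgroup.mem_inf.1 x.2).2
    have hxM : uE h a c ∈ M := e ▸ (Subgroup.mem_inf.1 x.2).1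
    have ha := hall a c hxM
    subst ha
    rcases honly c hxM with rfl | rfl
    · rw [show x = 1 from Subtype.ext (e.trans (uE_zero h))]
      exact Subgroup.one_mem _
    · rw [show x = ⟨uE h 0 c, Subgroup.mem_inf.2 ⟨hbM, uE_mem h _ _⟩⟩ from Subtype.ext e]
      exact Subgroup.mem_zpowers _
  · simp only [not_forall] at hall
    obtain ⟨a, c, hac, ha⟩ := hall
    have hnorm : ∀ a' c', uE h a' c' ∈ M → a' ≠ 0 → sg m a' * a' = b := fun a' c' hmem hne => by
      have hx : sg m a' * a' ∈ centerCoords h M := by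
        rw [mem_centerCoords, ← uE_sq h a' c']
        exact M.mul_mem hmem hmem
      exact (honly _ hx).resolve_left (mul_ne_zero (sg_ne_zero hne) hne)
    set g : (M ⊓ unip h : Subgroup G) := ⟨uE h a c, Subgroup.mem_inf.2 ⟨hac, uE_mem h _ _⟩⟩
    have hgg : uE h a c * uE h a c = uE h 0 b := by rw [uE_sq, hnorm a c hac ha]
    have hcent : ∀ c', uE h 0 c' ∈ M → ∀ y : (M ⊓ unip h : Subgroup G), y.1 = uE h 0 c' →
        y ∈ Subgroup.zpowers g := by
      intro c' hmem y hy
      rcases honly c' hmem with rfl | rfl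
      · rw [show y = 1 from Subtype.ext (hy.trans (uE_zero h))]
        exact Subgroup.one_mem _
      · rw [show y = g * g from Subtype.ext (hy.trans hgg.symm)]
        exact Subgroup.mul_mem _ (Subgroup.mem_zpowers g) (Subgroup.mem_zpowers g)
    rw [isCyclic_iff_exists_zpowers_eq_top]
    refine ⟨g, eq_top_iff.2 fun x _ => ?_⟩
    obtain ⟨a', c', e⟩ := exists_uE h (Subgroup.mem_inf.1 x.2).2
    have hxM : uE h a' c' ∈ M := e ▸ (Subgroup.mem_inf.1 x.2).1
    by_cases ha' : a' = 0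
    · subst ha'
      exact hcent c' hxM x e
    · obtain rfl : a' = a := (bijective_norm_map h).1
        ((hnorm a' c' hxM ha').trans (hnorm a c hac ha).symm)
      have e2 : uE h a' c' * uE h a' c = uE h 0 (c' + c + sg m a' * a') := by
        rw [uE_mul]
        congr 1
        linear_combination a' * h.two_eq_zero
      have hxg : (x * g).1 = uE h 0 (c' + c + sg m a' * a') := by
        rw [Subgroup.coe_mul, e]
        exact e2
      have h3 := hcent _ (e2 ▸ M.mul_mem hxM hac) _ hxg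
      have h4 := Subgroup.mul_mem _ h3 (Subgroup.inv_mem _ (Subgroup.mem_zpowers g))
      rwa [mul_inv_cancel_right] at h4

/-- The stabiliser of infinity in `M` is transitive on the involutions of `M ⊓ U`. -/
theorem Frame.lam_transitive {M : Subgroup G} (hM : Frame h M) {b c : F} (hb : b ≠ 0) (hc : c ≠ 0)
    (hbM : b ∈ centerCoords h M) (hcM : c ∈ centerCoords h M) :
    ∃ t ∈ torusCoords h M, lam m t * b = c := by
  have := finite_G h
  obtain ⟨g, hgM, hg⟩ := SetLike.not_le_iff_exists.1 hM.not_le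
  have hinv : ∀ x : F, uE h 0 x * uE h 0 x = 1 := fun x => by rw [uE_sq]; simp [uE_zero]
  have hne : ∀ x : F, x ≠ 0 → uE h 0 x ≠ 1 := fun x hx e => hx ((uE_eq_one h).1 e).2
  -- an involution fixing another point
  set k := g * uE h 0 b * g⁻¹ with hk
  have hkM : k ∈ M := M.mul_mem (M.mul_mem hgM hbM) (M.inv_mem hgM)
  have hkk : k * k = 1 := by
    rw [hk, show g * uE h 0 b * g⁻¹ * (g * uE h 0 b * g⁻¹) = g * (uE h 0 b * uE h 0 b) * g⁻¹ by group,
      hinv, mul_one, mul_inv_cancel]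
  have hkfix : k • (g • inf F) = g • inf F := by
    rw [hk, mul_smul, mul_smul, inv_smul_smul, uE_smul_inf]
  have hk1 : k ≠ 1 := fun e => hne b hb (conj_eq_one_iff.1 e)
  clear_value k
  have key : ∀ x : F, x ≠ 0 → x ∈ centerCoords h M → Odd (orderOf (uE h 0 x * k)) := by
    intro x hx hxM
    by_contra hev
    rw [Nat.not_odd_iff_even] at hev
    obtain ⟨l, hl⟩ := hev
    set z := (uE h 0 x * k) ^ l with hzdef
    have hpos := orderOf_pos (uE h 0 x * k)
    have hz1 : z ≠ 1 := fun e => by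
      have := orderOf_le_of_pow_eq_one (n := l) (by omega) e
      omega
    have hzz : z * z = 1 := by
      have e : (uE h 0 x * k) ^ (l + l) = 1 := orderOf_dvd_iff_pow_eq_one.1 (dvd_of_eq hl)
      rw [hzdef, ← pow_add]
      exact e
    have hzinv : z⁻¹ = z := inv_eq_of_mul_eq_one_right hzz
    have hflip : ∀ i : G, i⁻¹ = i → i * (uE h 0 x * k) * i⁻¹ = (uE h 0 x * k)⁻¹ →
        i * z = z * i := by
      intro i hi e
      have e2 : i * z * i⁻¹ = z := by rw [hzdef, ← conj_pow, e, inv_pow, ← hzdef, hzinv]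
      rwa [mul_inv_eq_iff_eq_mul] at e2
    have hxinv : (uE h 0 x)⁻¹ = uE h 0 x := inv_eq_of_mul_eq_one_right (hinv x)
    have hkinv : k⁻¹ = k := inv_eq_of_mul_eq_one_right hkk
    have c1 : uE h 0 x * z = z * uE h 0 x := hflip _ hxinv (by
      rw [mul_inv_rev, hkinv, hxinv, ← mul_assoc, hinv, one_mul])
    have c2 : k * z = z * k := hflip _ hkinv (by
      rw [mul_inv_rev, hkinv, hxinv, mul_assoc, mul_assoc, hkk, mul_one])
    have hzU : z ∈ unip h := centralizer_le_unip h (uE_mem h 0 x) (hne x hx)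
      (Subgroup.mem_centralizer_singleton_iff.2 c1.symm)
    have hkC : k ∈ unip h := centralizer_le_unip h hzU hz1
      (Subgroup.mem_centralizer_singleton_iff.2 c2)
    exact hg (eq_inf_of_unip_fix h hkC hk1 (smul_mem_ovoid' g inf_mem) hkfix)
  have hcl : ∀ x : F, x ∈ centerCoords h M → Subgroup.closure ({uE h 0 x, k} : Set G) ≤ M := by
    intro x hxM
    rw [Subgroup.closure_le]
    rintro y (rfl | rfl)
    · exact hxM
    · exact hkM
  obtain ⟨d1, hd1, e1⟩ := involutions_conj (hinv b) hkk (key b hb hbM)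
  obtain ⟨d2, hd2, e2⟩ := involutions_conj (hinv c) hkk (key c hc hcM)
  have h1 := hcl b hbM hd1
  have h2 := hcl c hcM hd2
  set n := d2⁻¹ * d1 with hn
  have hnM : n ∈ M := M.mul_mem (M.inv_mem h2) h1
  have hnc : n * uE h 0 b * n⁻¹ = uE h 0 c := by
    rw [hn, show d2⁻¹ * d1 * uE h 0 b * (d2⁻¹ * d1)⁻¹ = d2⁻¹ * (d1 * uE h 0 b * d1⁻¹) * d2 by group,
      e1, ← e2]
    group
  have hnB : n ∈ borel F m :=
    mem_borel_of_conj_mem_unip h (uE_mem h 0 b) (hne b hb) (hnc ▸ uE_mem h 0 c)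
  obtain ⟨a, a', t, e⟩ := (mem_stab_inf h).1 hnB
  rw [e, dE_conj_center] at hnc
  exact ⟨t, ⟨a, a', e ▸ hnM⟩, (uE_inj h hnc).2⟩

theorem lam_smul_mem {M : Subgroup G} {t : Fˣ} (ht : t ∈ torusCoords h M) {b : F}
    (hb : b ∈ centerCoords h M) : lam m t * b ∈ centerCoords h M := by
  obtain ⟨a, c, hmem⟩ := ht
  rw [mem_centerCoords, ← dE_conj_center h t a c b]
  exact M.mul_mem (M.mul_mem hmem hb) (M.inv_mem hmem)

theorem Frame.card_coords {M : Subgroup G} (hM : Frame h M) :
    Nat.card (centerCoords h M) = Nat.card (torusCoords h M) + 1 := by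
  classical
  have := h.finite
  obtain ⟨b, hb, hbM⟩ := hM.exists_ne_zero h
  have hbij : Function.Bijective (fun t : torusCoords h M =>
      (⟨⟨lam m t.1 * b, lam_smul_mem h t.2 hbM⟩,
        fun e => mul_ne_zero (lam_ne_zero t.1) hb (congrArg Subtype.val e)⟩ :
        {x : centerCoords h M // x ≠ 0})) := by
    constructor
    · intro s t e
      have e' := congrArg (fun x : {x : centerCoords h M // x ≠ 0} => (x.1 : F)) e
      exact Subtype.ext (lam_injective h (mul_right_cancel₀ hb e'))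
    · rintro ⟨⟨c, hcM⟩, hc⟩
      obtain ⟨t, ht, e⟩ := hM.lam_transitive h hb (fun e => hc (Subtype.ext e)) hbM hcM
      exact ⟨⟨t, ht⟩, Subtype.ext (Subtype.ext e)⟩
  let : Fintype (centerCoords h M) := Fintype.ofFinite _
  rw [Nat.card_eq_of_bijective _ hbij, Nat.card_eq_fintype_card, Nat.card_eq_fintype_card,
    Fintype.card_subtype_compl, Fintype.card_subtype_eq]
  have := Fintype.card_pos (α := centerCoords h M)
  omega

theorem Frame.card_centerCoords {M : Subgroup G} (hM : Frame h M) :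
    ∃ k, 1 ≤ k ∧ 2 * k + 1 ∣ 2 * m + 1 ∧ Nat.card (centerCoords h M) = 2 ^ (2 * k + 1) ∧
      Nat.card (torusCoords h M) = 2 ^ (2 * k + 1) - 1 := by
  have := h.finite
  have hdvd : Nat.card (centerCoords h M) ∣ 2 ^ (2 * m + 1) :=
    h.card ▸ AddSubgroup.card_addSubgroup_dvd_card _
  obtain ⟨e, -, he⟩ := (Nat.dvd_prime_pow Nat.prime_two).1 hdvd
  obtain ⟨b, hb, hbM⟩ := hM.exists_ne_zero h
  obtain ⟨b', hb', hbb', hb'M⟩ := hM.exists_two h hb hbM
  have h3 : 2 < Nat.card (centerCoords h M) := by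
    classical
    let : Fintype (centerCoords h M) := Fintype.ofFinite _
    rw [Nat.card_eq_fintype_card, Fintype.two_lt_card_iff]
    exact ⟨0, ⟨b, hbM⟩, ⟨b', hb'M⟩, fun e => hb (congrArg Subtype.val e).symm,
      fun e => hb' (congrArg Subtype.val e).symm, fun e => hbb' (congrArg Subtype.val e).symm⟩
  have hH : Nat.card (torusCoords h M) = 2 ^ e - 1 := by
    have := hM.card_coords h
    omega
  have hH2 : 2 ^ e - 1 ∣ 2 ^ (2 * m + 1) - 1 := by
    rw [← hH, ← h.card, ← Nat.card_units]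
    exact Subgroup.card_subgroup_dvd_card _
  have he2 : 2 ≤ e := by
    by_contra hlt
    have := Nat.pow_le_pow_right (by norm_num : 0 < 2) (show e ≤ 1 by omega)
    omega
  have hg := Nat.pow_sub_one_gcd_pow_sub_one 2 e (2 * m + 1)
  rw [Nat.gcd_eq_left hH2] at hg
  have hge : Nat.gcd e (2 * m + 1) = e := by
    have h1 : 2 ^ e = 2 ^ Nat.gcd e (2 * m + 1) := by
      have := Nat.one_le_pow e 2 (by norm_num)
      have := Nat.one_le_pow (Nat.gcd e (2 * m + 1)) 2 (by norm_num)
      omega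
    exact (Nat.pow_right_injective (le_refl 2) h1).symm
  have hde : e ∣ 2 * m + 1 := hge ▸ Nat.gcd_dvd_right _ _
  obtain ⟨k, rfl⟩ : Odd e := Odd.of_dvd_nat (odd_two_mul_add_one m) hde
  exact ⟨k, by omega, hde, he, hH⟩

/-! ### Normalisation -/

theorem conj_borel_coord (c d a b : F) (r t : Fˣ) :
    ∃ a' b', uE h c d * dE h r * (uE h a b * dE h t) * (uE h c d * dE h r)⁻¹ =
      uE h a' b' * dE h t := by
  refine ⟨c + sg m (r : F) * a + sg m (t : F) * c,
    d + sg m (r : F) * (r : F) ^ 2 * b + sg m c * (sg m (r : F) * a) +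
      sg m (t : F) * (t : F) ^ 2 * (d + sg m c * c) +
      sg m (c + sg m (r : F) * a) * (sg m (t : F) * c), ?_⟩
  rw [mul_inv_rev, uE_inv]
  calc uE h c d * dE h r * (uE h a b * dE h t) * ((dE h r)⁻¹ * uE h c (d + sg m c * c))
      = uE h c d * (dE h r * uE h a b) * (dE h t * (dE h r)⁻¹) * uE h c (d + sg m c * c) := by
        simp only [mul_assoc]
    _ = _ := by
      rw [dE_mul_uE, ← map_inv, ← map_mul, ← mul_assoc (uE h c d), uE_mul, mul_assoc _ (dE h r),
        ← map_mul, mul_comm t r⁻¹, ← mul_assoc r, mul_inv_cancel, one_mul, mul_assoc, dE_mul_uE,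
        ← mul_assoc, uE_mul]

theorem torusCoords_conj {M : Subgroup G} {c : G} (hc : c ∈ borel F m) :
    torusCoords h (conjBy c M) = torusCoords h M := by
  obtain ⟨c₁, c₂, r, rfl⟩ := (mem_stab_inf h).1 hc
  have hinv : (uE h c₁ c₂ * dE h r)⁻¹ ∈ borel F m := inv_mem hc
  obtain ⟨d₁, d₂, r', e'⟩ := (mem_stab_inf h).1 hinv
  ext t
  constructor
  · rintro ⟨a, b, hab⟩
    rw [mem_conjBy] at hab
    obtain ⟨a', b', e⟩ := conj_borel_coord h d₁ d₂ a b r' t
    rw [← e', inv_inv] at e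
    exact ⟨a', b', e ▸ hab⟩
  · rintro ⟨a, b, hab⟩
    obtain ⟨a', b', e⟩ := conj_borel_coord h c₁ c₂ a b r t
    refine ⟨a', b', ?_⟩
    rw [← e, mem_conjBy]
    convert hab using 1
    group

variable {K : Type*} [Field K] {k : ℕ}

/-- The position of a frame after conjugating inside the stabiliser of infinity. -/
structure Normalised (φ : K →+* F) (M : Subgroup (SzG F m)) : Prop where
  torus_mem : ∀ t : Kˣ, dE h (Units.map φ.toMonoidHom t) ∈ M
  center_iff : ∀ b : F, uE h 0 b ∈ M ↔ b ∈ Set.range φ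
  stab_mem : ∀ a b t, uE h a b * dE h t ∈ M →
    a ∈ Set.range φ ∧ b ∈ Set.range φ ∧ t ∈ (Units.map φ.toMonoidHom).range
  dich : (∀ a b, uE h a b ∈ M → a = 0) ∨ ∀ a b : K, uE h (φ a) (φ b) ∈ M

theorem map_units_val (φ : K →+* F) (t : Kˣ) :
    ((Units.map φ.toMonoidHom t : Fˣ) : F) = φ (t : K) := rfl

theorem map_lam (φ : K →+* F) (hK : IsSzField K k) (hdiv : 2 * k + 1 ∣ 2 * m + 1) (t : Kˣ) :
    φ (lam k t) = lam m (Units.map φ.toMonoidHom t) := by
  simp only [lam, map_mul, map_pow, map_sg φ hK hdiv, map_units_val]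

theorem units_eq_range (φ : K →+* F) (hK : IsSzField K k) {H : Subgroup Fˣ}
    (hH : Nat.card H = 2 ^ (2 * k + 1) - 1) (hz : IsSzField F m) :
    H = (Units.map φ.toMonoidHom).range := by
  have := hz.finite
  have := hK.finite
  have hle : H ≤ (Units.map φ.toMonoidHom).range := by
    intro t ht
    have h1 : t ^ (2 ^ (2 * k + 1) - 1) = 1 := by
      have := Subgroup.orderOf_dvd_natCard H ht
      rw [hH] at this
      exact orderOf_dvd_iff_pow_eq_one.1 this
    have h2 : (t : F) ^ Nat.card K = t := by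
      rw [hK.card, show 2 ^ (2 * k + 1) = (2 ^ (2 * k + 1) - 1) + 1 from
        (Nat.sub_add_cancel (Nat.one_le_pow _ _ (by norm_num))).symm, pow_succ,
        ← Units.val_pow_eq_pow_val, h1, Units.val_one, one_mul]
    obtain ⟨x, hx⟩ := (mem_range_iff φ _).2 h2
    have hx0 : x ≠ 0 := fun e => t.ne_zero (by rw [← hx, e, map_zero])
    exact ⟨Units.mk0 x hx0, Units.ext hx⟩
  refine Subgroup.eq_of_le_of_card_ge hle (le_of_eq ?_)
  rw [hH, ← Nat.card_congr (MonoidHom.ofInjective (Units.map_injective φ.injective)).toEquiv,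
    Nat.card_units, hK.card]

/-- The second coordinate of an element of a frame lies in the subfield. -/
theorem coord_mem_range {M : Subgroup G} (φ : K →+* F) (hK : IsSzField K k)
    (hdiv : 2 * k + 1 ∣ 2 * m + 1) (hT : ∀ t : Kˣ, dE h (Units.map φ.toMonoidHom t) ∈ M)
    (hC : ∀ b : F, uE h 0 b ∈ M ↔ b ∈ Set.range φ) {a b : F} (hab : uE h a b ∈ M) :
    a ∈ Set.range φ ∧ b ∈ Set.range φ := by
  have := hK.finite
  have := h.charP
  have : Fact (Nat.Prime 2) := ⟨Nat.prime_two⟩
  obtain ⟨α, rfl⟩ : a ∈ Set.range φ := by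
    rw [mem_range_iff]
    have h1 : sg m a * a ∈ Set.range φ := (hC _).1 (by rw [← uE_sq h a b]; exact M.mul_mem hab hab)
    rw [mem_range_iff, mul_pow] at h1
    refine (bijective_norm_map h).1 ?_
    show sg m (a ^ Nat.card K) * a ^ Nat.card K = sg m a * a
    rw [sg_pow]
    exact h1
  refine ⟨⟨α, rfl⟩, ?_⟩
  by_cases hα : α = 0
  · subst hα
    rw [map_zero] at hab
    exact (hC b).1 hab
  let δ : F → F := fun x => x ^ Nat.card K + x
  have hδadd : ∀ x y, δ (x + y) = δ x + δ y := by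
    intro x y
    simp only [δ, hK.card, add_pow_char_pow]
    ring
  have hδR : ∀ x, δ (φ x) = 0 := by
    intro x
    simp only [δ, (mem_range_iff φ (φ x)).1 ⟨x, rfl⟩, CharTwo.add_self_eq_zero]
  have hδmul : ∀ x y, δ (φ x * y) = φ x * δ y := by
    intro x y
    simp only [δ, mul_pow, (mem_range_iff φ (φ x)).1 ⟨x, rfl⟩]
    ring
  -- the value of `δ` on the second coordinate over a given first one
  have hval : ∀ (β : K) (d : F), β ≠ 0 → uE h (φ β) d ∈ M →
      φ (sg k α * α) * δ d = φ (sg k β * β) * δ b := by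
    intro β d hβ hd
    obtain ⟨s, hs⟩ := hK.sg_bijective.2 (β / α)
    have hs0 : s ≠ 0 := fun e => div_ne_zero hβ hα (by rw [← hs, e, sg_zero])
    set t : Kˣ := Units.mk0 s hs0
    have hmem : uE h (φ β) (φ (lam k t) * b) ∈ M := by
      have e1 := M.mul_mem (M.mul_mem (hT t) hab) (M.inv_mem (hT t))
      rw [dE_conj] at e1
      have e2 : sg m ((Units.map φ.toMonoidHom t : Fˣ) : F) * φ α = φ β := by
        rw [map_units_val, Units.val_mk0, ← map_sg φ hK hdiv, hs, ← map_mul, div_mul_cancel₀ _ hα]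
      rw [e2] at e1
      rw [map_lam φ hK hdiv]
      exact e1
    have hdiff : d + φ (lam k t) * b + sg m (φ β) * φ β ∈ Set.range φ := by
      refine (hC _).1 ?_
      have e1 := M.mul_mem hd hmem
      rw [uE_mul, CharTwo.add_self_eq_zero] at e1
      exact e1
    obtain ⟨r, hr⟩ := hdiff
    have e := congrArg δ hr
    rw [hδadd, hδadd, hδR, hδmul, ← map_sg φ hK hdiv, ← map_mul, hδR, add_zero] at e
    have hd' : δ d = φ (lam k t) * δ b := (CharTwo.add_eq_zero.1 e.symm)
    rw [hd', ← mul_assoc, ← map_mul]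
    congr 2
    have : lam k t = sg k (sg k s) * sg k s := by rw [hK.sg_sg]; simp [lam, t, mul_comm]
    rw [this, hs, div_eq_mul_inv, sg_mul, sg_inv]
    have hsa := sg_ne_zero (m := k) hα
    field_simp
  obtain ⟨c, hc⟩ := exists_ne_two hK
  have hc0 : c ≠ 0 := fun e => hc (by simp [e])
  have hc1 : 1 + c ≠ 0 := fun e => hc (by
    have hce : c = 1 := by linear_combination e - hK.two_eq_zero
    rw [hce, sg_one]; linear_combination hK.two_eq_zero)
  -- an element over `α * c`
  obtain ⟨s, hs⟩ := hK.sg_bijective.2 c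
  have hs0 : s ≠ 0 := fun e => hc0 (by rw [← hs, e, sg_zero])
  have hd := M.mul_mem (M.mul_mem (hT (Units.mk0 s hs0)) hab) (M.inv_mem (hT (Units.mk0 s hs0)))
  rw [dE_conj, map_units_val, Units.val_mk0, ← map_sg φ hK hdiv, hs, ← map_mul] at hd
  set d := φ c * φ s ^ 2 * b
  have hsum := M.mul_mem hab hd
  rw [uE_mul, ← map_add] at hsum
  have h1 := hval (c * α) d (mul_ne_zero hc0 hα) hd
  have h2 := hval (α + c * α) _ (by
    rw [show α + c * α = (1 + c) * α by ring]
    exact mul_ne_zero hc1 hα) hsum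
  rw [hδadd, hδadd, ← map_sg φ hK hdiv, ← map_mul, hδR, add_zero, mul_add, h1, sg_mul, hK.sg_add,
    sg_mul] at h2
  have h3 : φ (sg k α * α * (c + sg k c)) * δ b = 0 := by
    simp only [map_mul, map_add] at h2 ⊢
    linear_combination h2 + (φ (sg k α) * φ α * φ c + φ (sg k α) * φ α * φ (sg k c)) * δ b *
      h.two_eq_zero
  have h4 : δ b = 0 := (mul_eq_zero.1 h3).resolve_left (by
    rw [map_eq_zero]
    exact mul_ne_zero (mul_ne_zero (sg_ne_zero hα) hα) hc)
  exact (mem_range_iff φ b).2 (CharTwo.add_eq_zero.1 h4)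

theorem Frame.normalise {M : Subgroup G} (hM : Frame h M) :
    ∃ k, 1 ≤ k ∧ 2 * k + 1 ∣ 2 * m + 1 ∧ ∃ (φ : GaloisField 2 (2 * k + 1) →+* F) (c : G),
      Frame h (conjBy c M) ∧ Normalised h φ (conjBy c M) := by
  have := h.finite
  obtain ⟨k, hk, hdiv, -, hH⟩ := hM.card_centerCoords h
  refine ⟨k, hk, hdiv, ?_⟩
  obtain ⟨φ⟩ := exists_subfield_hom h hdiv
  have hK := galoisField_isSzField hk
  refine ⟨φ, ?_⟩
  have := hK.finite
  have hrange := units_eq_range φ hK hH h
  -- move the torus into position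
  obtain ⟨τ, hτ⟩ := IsCyclic.exists_generator (α := torusCoords h M)
  obtain ⟨a, b, hab⟩ := τ.2
  have hτ1 : (τ : Fˣ) ≠ 1 := by
    intro e
    have hsub : Subsingleton (torusCoords h M) := ⟨fun x y => by
      have hall : ∀ z : torusCoords h M, z = 1 := fun z => by
        obtain ⟨n, hn⟩ := Subgroup.mem_zpowers_iff.1 (hτ z)
        rw [← hn, show τ = 1 from Subtype.ext e, one_zpow]
      rw [hall x, hall y]⟩
    have h1 : Nat.card (torusCoords h M) = 1 := Nat.card_of_subsingleton (1 : torusCoords h M)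
    have := Nat.pow_le_pow_right (by norm_num : 0 < 2) (show 3 ≤ 2 * k + 1 by omega)
    omega
  have hg : uE h a b * dE h τ ∉ unip h := by
    intro hu
    obtain ⟨c, d, e⟩ := exists_uE h hu
    rw [show uE h c d = uE h c d * dE h 1 by rw [map_one, mul_one]] at e
    exact hτ1 (uE_dE_inj h e).2.2
  have hgB : uE h a b * dE h τ ∈ borel F m := (mem_stab_inf h).2 ⟨a, b, τ, rfl⟩
  obtain ⟨x, y, hxy⟩ := exists_second_fixed h hgB hg
  set u := uE h x (y + sg m x * x) with hu
  have hu' : u⁻¹ = uE h x y := by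
    rw [hu, uE_inv]
    congr 1
    linear_combination sg m x * x * h.two_eq_zero
  have huB : u ∈ borel F m := unip_le_stab h (uE_mem h _ _)
  obtain ⟨a', b', e⟩ := conj_borel_coord h x (y + sg m x * x) a b 1 τ
  rw [map_one, mul_one, ← hu] at e
  have hfix : (uE h a' b' * dE h (τ : Fˣ)) • pt m (0 : F) 0 = pt m 0 0 := by
    have hu0 : u⁻¹ • pt m (0 : F) 0 = pt m x y := by rw [hu', uE_smul_pt]; simp
    rw [← e, mul_smul, mul_smul, hu0, hxy, ← hu0, smul_inv_smul]
  rw [mul_smul, ((mem_torus_iff h).1 ⟨(τ : Fˣ), rfl⟩).2, uE_smul_pt] at hfix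
  simp only [mul_zero, zero_add, add_zero, pt_eq_iff] at hfix
  obtain ⟨rfl, rfl⟩ := hfix
  rw [uE_zero, one_mul] at e
  set M₁ := conjBy u M with hM₁
  have hτM₁ : dE h (τ : Fˣ) ∈ M₁ := by
    rw [← e, hM₁, mem_conjBy]
    convert hab using 1
    group
  have hT₁ : ∀ t : (GaloisField 2 (2 * k + 1))ˣ, dE h (Units.map φ.toMonoidHom t) ∈ M₁ := by
    intro t
    have ht : Units.map φ.toMonoidHom t ∈ torusCoords h M := hrange ▸ ⟨t, rfl⟩
    obtain ⟨n, hn⟩ := Subgroup.mem_zpowers_iff.1 (hτ ⟨_, ht⟩)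
    have hn' : (τ : Fˣ) ^ n = Units.map φ.toMonoidHom t := congrArg Subtype.val hn
    rw [← hn', map_zpow]
    exact M₁.zpow_mem hτM₁ n
  -- scale the centre
  have hF₁ := hM.conj h huB
  obtain ⟨b₀, hb₀, hb₀M⟩ := hF₁.exists_ne_zero h
  have hsurj : Function.Surjective (fun t : Fˣ => Units.mk0 (lam m t) (lam_ne_zero t)) :=
    Finite.injective_iff_surjective.mp fun s t e => lam_injective h (congrArg Units.val e)
  obtain ⟨r, hr⟩ := hsurj (Units.mk0 b₀ hb₀)⁻¹
  have hr' : lam m r * b₀ = 1 := by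
    have := congrArg Units.val hr
    simp only [Units.val_mk0, Units.val_inv_eq_inv_val] at this
    rw [this, inv_mul_cancel₀ hb₀]
  have hrB : dE h r ∈ borel F m := (mem_stab_inf h).2 ⟨0, 0, r, by rw [uE_zero, one_mul]⟩
  refine ⟨dE h r * u, ?_⟩
  rw [← conjBy_conjBy, ← hM₁]
  set M₂ := conjBy (dE h r) M₁ with hM₂
  have hF₂ := hF₁.conj h hrB
  refine ⟨hF₂, ?_⟩
  have hH₂ : torusCoords h M₂ = (Units.map φ.toMonoidHom).range := by
    rw [hM₂, torusCoords_conj h hrB, hM₁, torusCoords_conj h huB, hrange]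
  have hT : ∀ t, dE h (Units.map φ.toMonoidHom t) ∈ M₂ := by
    intro t
    rw [hM₂, mem_conjBy, ← map_inv, ← map_mul, ← map_mul, mul_right_comm, inv_mul_cancel, one_mul]
    exact hT₁ t
  have h1M : (1 : F) ∈ centerCoords h M₂ := by
    rw [mem_centerCoords, hM₂, mem_conjBy]
    have e1 : dE h r * uE h 0 b₀ * (dE h r)⁻¹ = uE h 0 1 := by
      rw [dE_conj, mul_zero]
      congr 1
    rw [← e1, show (dE h r)⁻¹ * (dE h r * uE h 0 b₀ * (dE h r)⁻¹) * dE h r = uE h 0 b₀ by group]
    exact hb₀M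
  have hC : ∀ c : F, uE h 0 c ∈ M₂ ↔ c ∈ Set.range φ := by
    intro c
    constructor
    · intro hc
      by_cases hc0 : c = 0
      · exact ⟨0, by rw [hc0, map_zero]⟩
      obtain ⟨t, ht, e⟩ := hF₂.lam_transitive h one_ne_zero hc0 h1M hc
      rw [hH₂] at ht
      obtain ⟨t', rfl⟩ := ht
      exact ⟨lam k t', by rw [← e, mul_one, map_lam φ hK hdiv]⟩
    · rintro ⟨c', rfl⟩
      by_cases hc0 : c' = 0
      · rw [hc0, map_zero, uE_zero]
        exact M₂.one_mem
      have hs : Function.Surjective (fun t : (GaloisField 2 (2 * k + 1))ˣ =>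
          Units.mk0 (lam k t) (lam_ne_zero t)) :=
        Finite.injective_iff_surjective.mp fun s t e => lam_injective hK (congrArg Units.val e)
      obtain ⟨t, ht⟩ := hs (Units.mk0 c' hc0)
      have e : lam k t = c' := congrArg Units.val ht
      have := lam_smul_mem h (show Units.map φ.toMonoidHom t ∈ torusCoords h M₂ by
        rw [hH₂]; exact ⟨t, rfl⟩) h1M
      rw [mul_one, ← map_lam φ hK hdiv, e] at this
      exact this
  have hcoord : ∀ a b, uE h a b ∈ M₂ → a ∈ Set.range φ ∧ b ∈ Set.range φ :=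
    fun a b hab => coord_mem_range h φ hK hdiv hT hC hab
  refine ⟨hT, hC, fun a b t hm => ?_, ?_⟩
  · have ht : t ∈ (Units.map φ.toMonoidHom).range := hH₂ ▸ ⟨a, b, hm⟩
    obtain ⟨t', rfl⟩ := ht
    have h3 := M₂.mul_mem hm (M₂.inv_mem (hT t'))
    rw [mul_inv_cancel_right] at h3
    exact ⟨(hcoord a b h3).1, (hcoord a b h3).2, t', rfl⟩
  · by_cases hall : ∀ a b, uE h a b ∈ M₂ → a = 0
    · exact Or.inl hall
    right
    simp only [not_forall] at hall
    obtain ⟨a₀, c₀, hm, ha₀⟩ := hall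
    obtain ⟨⟨α, rfl⟩, -⟩ := hcoord _ _ hm
    have hα : α ≠ 0 := fun e => ha₀ (by rw [e, map_zero])
    intro β γ
    by_cases hβ : β = 0
    · rw [hβ, map_zero]
      exact (hC _).2 ⟨γ, rfl⟩
    obtain ⟨s, hs⟩ := hK.sg_bijective.2 (β / α)
    have hs0 : s ≠ 0 := fun e => div_ne_zero hβ hα (by rw [← hs, e, sg_zero])
    have h5 := M₂.mul_mem (M₂.mul_mem (hT (Units.mk0 s hs0)) hm) (M₂.inv_mem (hT (Units.mk0 s hs0)))
    rw [dE_conj, map_units_val, Units.val_mk0, ← map_sg φ hK hdiv, hs, ← map_mul,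
      div_mul_cancel₀ _ hα] at h5
    obtain ⟨-, δ, hδ⟩ := hcoord _ _ h5
    rw [← hδ] at h5
    have h6 := M₂.mul_mem h5 ((hC (φ (γ - δ))).2 ⟨γ - δ, rfl⟩)
    rw [uE_mul, add_zero, mul_zero, add_zero, ← map_add, add_sub_cancel] at h6
    exact h6

end CfsgLib.Suzuki
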