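/-
Suzuki group: the tori meeting a subgroup, and their normalisers inside it.
-/
import Cfsg.Agent.Suzuki.Solvable

set_option autoImplicit false

namespace CfsgLib.Suzuki

section General

variable {Γ : Type*} [Group Γ]

theorem conj_mem_of_centralizer {A : Subgroup Γ}
    (hA : ∀ x ∈ A, x ≠ 1 → Subgroup.centralizer ({x} : Set Γ) = A) {c y z : Γ} (hy : y ≠ 1)
    (hc : c * y * c⁻¹ ∈ A) (hz : z * y = y * z) : c * z * c⁻¹ ∈ A := by
  rw [← hA _ hc (fun e => hy (conj_eq_one_iff.1 e)), Subgroup.mem_centralizer_singleton_iff]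
  calc c * z * c⁻¹ * (c * y * c⁻¹) = c * (z * y) * c⁻¹ := by group
    _ = c * (y * z) * c⁻¹ := by rw [hz]
    _ = _ := by group

/-- The conjugacy set of a self-centralising subgroup avoids the one of an element outside it. -/
theorem conjSet_disjoint_of_not_mem {A : Subgroup Γ}
    (hA : ∀ x ∈ A, x ≠ 1 → Subgroup.centralizer ({x} : Set Γ) = A) {z : Γ} (hz : z ≠ 1)
    (hzA : z ∉ conjSet A)
    (hB : ∀ x ∈ Subgroup.centralizer ({z} : Set Γ), x ≠ 1 →
      Subgroup.centralizer ({x} : Set Γ) = Subgroup.centralizer ({z} : Set Γ)) :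
    Disjoint (conjSet A) (conjSet (Subgroup.centralizer ({z} : Set Γ))) := by
  rw [Set.disjoint_left]
  rintro y ⟨hy, c, hc⟩ ⟨-, d, hd⟩
  apply hzA
  refine ⟨hz, c * d⁻¹, ?_⟩
  have hne : d * y * d⁻¹ ≠ 1 := fun e => hy (conj_eq_one_iff.1 e)
  have h1 : z ∈ Subgroup.centralizer ({d * y * d⁻¹} : Set Γ) := by
    rw [hB _ hd hne, Subgroup.mem_centralizer_singleton_iff]
  rw [Subgroup.mem_centralizer_singleton_iff] at h1
  have h2 : d⁻¹ * z * d * y = y * (d⁻¹ * z * d) := by
    calc d⁻¹ * z * d * y = d⁻¹ * (z * (d * y * d⁻¹)) * d := by group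
      _ = d⁻¹ * (d * y * d⁻¹ * z) * d := by rw [h1]
      _ = _ := by group
  have h3 := conj_mem_of_centralizer hA hy hc h2
  rwa [show c * (d⁻¹ * z * d) * c⁻¹ = c * d⁻¹ * z * (c * d⁻¹)⁻¹ by group] at h3

/-- If all 2-elements square to one, an odd self-centralising subgroup has index at most two in
its normaliser. -/
theorem normalizer_index_ne_four [Finite Γ]
    (h2 : ∀ (x : Γ) (k : ℕ), orderOf x = 2 ^ k → x * x = 1) {A : Subgroup Γ}
    (hA : ∀ x ∈ A, x ≠ 1 → Subgroup.centralizer ({x} : Set Γ) = A) (hodd : ¬ 2 ∣ Nat.card A)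
    (hne : A ≠ ⊥) :
    Nat.card (Subgroup.normalizer (A : Set Γ)) ≠ 4 * Nat.card A := by
  intro hcard
  set N := Subgroup.normalizer (A : Set Γ)
  have : Fact (Nat.Prime 2) := ⟨Nat.prime_two⟩
  obtain ⟨P, hP⟩ := Sylow.exists_subgroup_card_pow_prime (G := N) 2 (n := 2)
    (by rw [hcard]; exact dvd_mul_right _ _)
  obtain ⟨z, hzA, hz1⟩ : ∃ z ∈ A, z ≠ 1 := by
    by_contra hc
    simp only [not_exists, not_and, not_not] at hc
    exact hne ((Subgroup.eq_bot_iff_forall _).2 hc)
  have hcomm : ∀ a ∈ A, ∀ b ∈ A, a * b = b * a := by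
    intro a ha b hb
    by_cases hb1 : b = 1
    · rw [hb1, mul_one, one_mul]
    · rw [← hA b hb hb1] at ha
      exact Subgroup.mem_centralizer_singleton_iff.1 ha
  have hsq : ∀ x : P, (x.1 : Γ) * x.1 = 1 := by
    intro x
    obtain ⟨k, -, hk⟩ := (Nat.dvd_prime_pow Nat.prime_two).1
      ((orderOf_dvd_natCard x).trans (dvd_of_eq hP))
    refine h2 _ k ?_
    rw [Subgroup.orderOf_coe, Subgroup.orderOf_coe, hk]
  have hnot : ∀ x : P, x ≠ 1 → (x.1 : Γ) ∉ A := by
    intro x hx hxA
    apply hodd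
    have e : orderOf (x.1 : Γ) = 2 := orderOf_eq_prime (by rw [pow_two]; exact hsq x)
      (fun e => hx (Subtype.ext (Subtype.ext e)))
    exact e ▸ Subgroup.orderOf_dvd_natCard A hxA
  -- each element inverts `A`
  have hinv : ∀ x : P, x ≠ 1 → (x.1 : Γ) * z * (x.1 : Γ)⁻¹ = z⁻¹ := by
    intro x hx
    set g := (x.1 : Γ) with hg
    have hgN : g ∈ N := x.1.2
    have hzg : g * z * g⁻¹ ∈ A := (Subgroup.mem_normalizer_iff.1 hgN z).1 hzA
    have hgg : g⁻¹ = g := inv_eq_of_mul_eq_one_right (hsq x)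
    by_contra hne'
    set c := z * (g * z * g⁻¹) with hc
    have hcA : c ∈ A := A.mul_mem hzA hzg
    have hc1 : c ≠ 1 := fun e => hne' (eq_inv_of_mul_eq_one_right e)
    have hfix : g * c * g⁻¹ = c := by
      calc g * c * g⁻¹ = g * z * g⁻¹ * (g * g * z * (g⁻¹ * g⁻¹)) := by rw [hc]; group
        _ = g * z * g⁻¹ * z := by rw [hsq x, hgg, hsq x, one_mul, mul_one]
        _ = c := by rw [hc]; exact hcomm _ hzg _ hzA
    have : g ∈ Subgroup.centralizer ({c} : Set Γ) :=
      Subgroup.mem_centralizer_singleton_iff.2 (mul_inv_eq_iff_eq_mul.1 hfix)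
    rw [hA c hcA hc1] at this
    exact hnot x hx this
  classical
  let : Fintype P := Fintype.ofFinite P
  obtain ⟨x, y, w, hxy, hxw, hyw⟩ := Fintype.two_lt_card_iff.1
    (show 2 < Fintype.card P by rw [← Nat.card_eq_fintype_card, hP]; norm_num)
  have key : ∀ x y : P, x ≠ 1 → y ≠ 1 → x ≠ y → False := by
    intro x y hx hy hxy
    have hne1 : x * y ≠ 1 := fun e => hxy (by
      have e1 : (x.1 : Γ) * y.1 = 1 := congrArg (fun p : P => (p.1 : Γ)) e
      refine Subtype.ext (Subtype.ext ?_)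
      rw [eq_inv_of_mul_eq_one_left e1]
      exact inv_eq_of_mul_eq_one_right (hsq y))
    have h3 := hinv _ hne1
    simp only [Subgroup.coe_mul] at h3
    have hxi := hinv x hx
    have hyi := hinv y hy
    set a := (x.1 : Γ)
    set b := (y.1 : Γ)
    have h4 : a * b * z * (a * b)⁻¹ = z := by
      calc a * b * z * (a * b)⁻¹ = a * (b * z * b⁻¹) * a⁻¹ := by group
        _ = (a * z * a⁻¹)⁻¹ := by rw [hyi]; group
        _ = z := by rw [hxi, inv_inv]
    have h5 : a * b ∈ A := by
      rw [← hA z hzA hz1, Subgroup.mem_centralizer_singleton_iff]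
      exact mul_inv_eq_iff_eq_mul.1 h4
    exact hnot (x * y) hne1 h5
  by_cases hx : x = 1
  · exact key y w (fun e => hxy (hx.trans e.symm)) (fun e => hxw (hx.trans e.symm)) hyw
  by_cases hy : y = 1
  · exact key x w hx (fun e => hyw (hy.trans e.symm)) hxw
  exact key x y hx hy hxy

end General

variable {F : Type*} [Field F] {m : ℕ}

local notation "G" => SzG F m

theorem card_normalizer_map (A : Subgroup G) (c : G) :
    Nat.card (Subgroup.normalizer (A.map (MulAut.conj c).toMonoidHom : Set G)) =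
      Nat.card (Subgroup.normalizer (A : Set G)) := by
  have e := Subgroup.map_equiv_normalizer_eq A (MulAut.conj c)
  rw [← e]
  exact Subgroup.card_map_of_injective (MulAut.conj c).injective

variable (h : IsSzField F m)

theorem mem_normalizer_torus {n : G} (hn : n ∈ Subgroup.normalizer (torus h : Set G))
    (hnT : n ∉ torus h) : ∃ s, n = wE h * dE h s := by
  have := h.finite
  have hq : 1 < Nat.card F := Finite.one_lt_card
  set N := Subgroup.normalizer (torus h : Set G)
  have hidx : ((torus h).subgroupOf N).index = 2 := by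
    have e := ((torus h).subgroupOf N).index_mul_card
    rw [Nat.card_congr (Subgroup.subgroupOfEquivOfLe
      (Subgroup.le_normalizer : torus h ≤ N)).toEquiv, card_torus, card_normalizer_torus] at e
    exact Nat.eq_of_mul_eq_mul_right (by omega) e
  have hw : wE h ∉ torus h := fun hw =>
    pt_ne_inf (m := m) (0 : F) 0 ((wE_smul_inf h).symm.trans ((mem_torus_iff h).1 hw).1)
  have h1 : (⟨wE h, wE_normalizes_torus h⟩ * ⟨n, hn⟩ : N) ∈ (torus h).subgroupOf N := by
    rw [Subgroup.mul_mem_iff_of_index_two hidx]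
    exact iff_of_false hw hnT
  obtain ⟨s, hs⟩ := h1
  exact ⟨s, by rw [hs]; simp [← mul_assoc, wE_mul_wE]⟩

/-- The two possibilities for the normaliser of a torus. -/
theorem IsTorusElt.normalizer_card {z : G} (hz : IsTorusElt z) (hF : IsSzField F m) :
    ∃ w, (w = 2 ∨ w = 4 ∧ Nat.card (Subgroup.centralizer ({z} : Set G)) ∣ Nat.card F ^ 2 + 1) ∧
      Nat.card (Subgroup.normalizer (Subgroup.centralizer ({z} : Set G) : Set G)) =
        w * Nat.card (Subgroup.centralizer ({z} : Set G)) := by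
  have := finite_G hF
  have hmap : ∀ c : G, Nat.card (Subgroup.centralizer ({c * z * c⁻¹} : Set G)) =
      Nat.card (Subgroup.centralizer ({z} : Set G)) ∧
      Nat.card (Subgroup.normalizer (Subgroup.centralizer ({c * z * c⁻¹} : Set G) : Set G)) =
        Nat.card (Subgroup.normalizer (Subgroup.centralizer ({z} : Set G) : Set G)) := by
    intro c
    rw [← map_centralizer_singleton]
    exact ⟨Subgroup.card_map_of_injective (MulAut.conj c).injective, card_normalizer_map _ c⟩
  rcases trichotomy hF z with ⟨c, hc⟩ | ⟨c, hc⟩ | hf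
  · exact absurd hc (hz.not_conj_unip hF c)
  · obtain ⟨e1, e2⟩ := hmap c
    have e := centralizer_torus hF hc (fun e => hz.1 (conj_eq_one_iff.1 e))
    refine ⟨2, Or.inl rfl, ?_⟩
    rw [← e1, ← e2, e, card_normalizer_torus, card_torus]
  · obtain ⟨A, B, hA, hB, -, -, nA, nB, hcov⟩ := exists_fpf_tori hF
    rcases hcov z hf with ⟨c, hc⟩ | ⟨c, hc⟩
    · obtain ⟨e1, e2⟩ := hmap c
      have e := hA.centralizer_eq hF hc (fun e => hz.1 (conj_eq_one_iff.1 e))
      exact ⟨4, Or.inr ⟨rfl, by rw [← e1, e]; exact hA.card_dvd_sq hF⟩, by rw [← e1, ← e2, e, nA]⟩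
    · obtain ⟨e1, e2⟩ := hmap c
      have e := hB.centralizer_eq hF hc (fun e => hz.1 (conj_eq_one_iff.1 e))
      exact ⟨4, Or.inr ⟨rfl, by rw [← e1, e]; exact hB.card_dvd_sq hF⟩, by rw [← e1, ← e2, e, nB]⟩

/-! ### Tori inside a subgroup -/

variable {M : Subgroup (SzG F m)}

/-- An element of a subgroup which is of torus type in the whole group. -/
def IsTorusIn (z : M) : Prop := IsTorusElt (z : G)

theorem centralizer_in_eq (z : M) : Subgroup.centralizer ({z} : Set M) =
    (Subgroup.centralizer ({(z : G)} : Set G)).subgroupOf M := by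
  ext x
  rw [Subgroup.mem_centralizer_singleton_iff, Subgroup.mem_subgroupOf,
    Subgroup.mem_centralizer_singleton_iff, ← Subgroup.coe_mul, ← Subgroup.coe_mul,
    Subtype.ext_iff]

include h in
theorem IsTorusIn.strong {z : M} (hz : IsTorusIn z) :
    ∀ x ∈ Subgroup.centralizer ({z} : Set M), x ≠ 1 →
      IsTorusIn x ∧ Subgroup.centralizer ({x} : Set M) = Subgroup.centralizer ({z} : Set M) := by
  intro x hx hx1
  rw [centralizer_in_eq, Subgroup.mem_subgroupOf] at hx
  obtain ⟨hxT, e⟩ := IsTorusElt.centralizer_eq h hz hx (fun e => hx1 (Subtype.ext e))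
  refine ⟨hxT, ?_⟩
  rw [centralizer_in_eq, centralizer_in_eq, e]

theorem IsTorusIn.card_dvd {z : M} :
    Nat.card (Subgroup.centralizer ({z} : Set M)) ∣
      Nat.card (Subgroup.centralizer ({(z : G)} : Set G)) := by
  rw [centralizer_in_eq]
  exact Subgroup.card_comap_dvd_of_injective _ M.subtype M.subtype_injective

include h in
theorem IsTorusIn.odd {z : M} (hz : IsTorusIn z) :
    ¬ 2 ∣ Nat.card (Subgroup.centralizer ({z} : Set M)) :=
  fun hd => torusOrders_odd h hz.2.2 (hd.trans IsTorusIn.card_dvd)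

theorem IsTorusIn.self_mem (z : M) : z ∈ Subgroup.centralizer ({z} : Set M) :=
  Subgroup.mem_centralizer_singleton_iff.2 rfl

theorem IsTorusIn.ne_one {z : M} (hz : IsTorusIn z) : z ≠ 1 :=
  fun e => hz.1 (congrArg Subtype.val e)

include h in
theorem IsTorusIn.three_le {z : M} (hz : IsTorusIn z) :
    3 ≤ Nat.card (Subgroup.centralizer ({z} : Set M)) := by
  have := finite_G h
  have h1 := hz.odd h
  have h2 : Nat.card (Subgroup.centralizer ({z} : Set M)) ≠ 1 := fun e => by
    have hm := IsTorusIn.self_mem z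
    rw [Subgroup.card_eq_one.1 e, Subgroup.mem_bot] at hm
    exact hz.ne_one hm
  have h3 : 0 < Nat.card (Subgroup.centralizer ({z} : Set M)) := Nat.card_pos
  omega

include h in
/-- The data of a torus meeting `M`. -/
theorem IsTorusIn.normalizer_card {z : M} (hz : IsTorusIn z) :
    ∃ w, (w = 1 ∨ w = 2 ∨ w = 4 ∧ 5 ≤ Nat.card (Subgroup.centralizer ({z} : Set M))) ∧
      Nat.card (Subgroup.normalizer (Subgroup.centralizer ({z} : Set M) : Set M)) =
        w * Nat.card (Subgroup.centralizer ({z} : Set M)) := by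
  have := finite_G h
  obtain ⟨w₀, hw₀, hcard₀⟩ := IsTorusElt.normalizer_card hz h
  obtain ⟨w, hdvd, hcard⟩ := normalizer_index_subgroupOf (IsTorusElt.isTI h hz)
    (Subgroup.mem_centralizer_singleton_iff.2 rfl) z.2 hz.1
  rw [hcard₀] at hdvd
  have hw : w ∣ w₀ := Nat.dvd_of_mul_dvd_mul_right Nat.card_pos hdvd
  refine ⟨w, ?_, ?_⟩
  · rcases hw₀ with rfl | ⟨rfl, hsq⟩
    · rcases (Nat.dvd_prime Nat.prime_two).1 hw with e | e
      · exact Or.inl e
      · exact Or.inr (Or.inl e)
    · have h4 : w ≤ 4 := Nat.le_of_dvd (by norm_num) hw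
      have h0 : 0 < w := Nat.pos_of_dvd_of_pos hw (by norm_num)
      have h5 : 5 ≤ Nat.card (Subgroup.centralizer ({z} : Set M)) := by
        refine five_le_of_dvd h (IsTorusIn.card_dvd.trans hsq) ?_
        have := hz.three_le h
        omega
      interval_cases w
      · exact Or.inl rfl
      · exact Or.inr (Or.inl rfl)
      · norm_num at hw
      · exact Or.inr (Or.inr ⟨rfl, h5⟩)
  · rw [centralizer_in_eq]
    exact hcard

end CfsgLib.Suzuki
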