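/-
Suzuki group: the class equation of a normalised non-solvable subgroup forces a subfield group.
-/
import Cfsg.Agent.Suzuki.NormalForm
import Cfsg.Agent.Suzuki.TorusClasses

set_option autoImplicit false

namespace CfsgLib.Suzuki

section General

variable {Γ α : Type*} [Group Γ] [MulAction Γ α]

/-- A freely permuted finite set has size divisible by the group order. -/
theorem card_dvd_ncard_of_free {X : Set α} (hX : ∀ g : Γ, ∀ x ∈ X, g • x ∈ X)
    (hfree : ∀ g : Γ, ∀ x ∈ X, g • x = x → g = 1) : Nat.card Γ ∣ X.ncard := by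
  let S : SubMulAction Γ α := ⟨X, fun g _ hx => hX g _ hx⟩
  have hb : ∀ x : S, MulAction.stabilizer Γ x = ⊥ := by
    intro x
    rw [Subgroup.eq_bot_iff_forall]
    intro g hg
    exact hfree g x.1 x.2 (congrArg Subtype.val hg)
  refine ⟨Nat.card (Quotient (MulAction.orbitRel Γ S)), ?_⟩
  rw [← Nat.card_coe_set_eq]
  show Nat.card S = _
  rw [Nat.card_congr (MulAction.selfEquivSigmaOrbitsQuotientStabilizer Γ S),
    Nat.card_congr (Equiv.sigmaCongrRight fun ω => (Subgroup.quotientEquivOfEq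
      (hb _)).trans QuotientGroup.quotientBot.toEquiv), Nat.card_congr (Equiv.sigmaEquivProd _ _),
    Nat.card_prod, mul_comm]

/-- The proportion of the group covered by conjugates of `A`. -/
noncomputable def dens (A : Subgroup Γ) : ℚ := (conjSet A).ncard / (Nat.card Γ : ℚ)

theorem dens_eq [Finite Γ] {A : Subgroup Γ} (hA : IsTI A) {N : ℕ}
    (hN : Nat.card (Subgroup.normalizer (A : Set Γ)) = N) :
    dens A = ((Nat.card A : ℚ) - 1) / N := by
  have e := card_conjSet_mul hA
  rw [Nat.card_coe_set_eq, hN] at e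
  have h1 : 1 ≤ Nat.card A := Nat.card_pos
  have hN0 : (N : ℚ) ≠ 0 := by
    rw [← hN]
    exact Nat.cast_ne_zero.2 Nat.card_pos.ne'
  have hG0 : (Nat.card Γ : ℚ) ≠ 0 := Nat.cast_ne_zero.2 Nat.card_pos.ne'
  have e' := congrArg (fun x : ℕ => (x : ℚ)) e
  push_cast [Nat.cast_sub h1] at e'
  rw [dens, div_eq_div_iff hG0 hN0]
  linear_combination e'

end General

/-! ### Arithmetic -/

/-- One further torus of index two. -/
theorem arith_two {n u d a Q : ℕ} (hQ : 8 ≤ Q) (hd : d + 1 = Q) (hu : u = Q ∨ u = Q * Q) (ha : 3 ≤ a)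
    (hdvd : a ∣ n) (hodd : Odd n) (hn : n = u + 1 ∨ 1 + u + u * d ≤ n)
    (heq : 1 / (a : ℚ) = 1 / d - 2 / (u * d) + 2 / ((n : ℚ) * (u * d))) :
    u = Q ∧ n = u + 1 := by
  obtain ⟨n', rfl⟩ := hdvd
  have hn' : Odd n' := (Nat.odd_mul.1 hodd).2
  have hu8 : 8 ≤ u := by
    rcases hu with rfl | rfl
    · exact hQ
    · exact le_trans hQ (Nat.le_mul_self Q)
  have hn'0 : 0 < n' := hn'.pos
  obtain ⟨c, rfl⟩ : ∃ c, u = c + 2 := ⟨u - 2, by omega⟩
  have hd0 : (d : ℚ) ≠ 0 := Nat.cast_ne_zero.2 (by omega)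
  have ha0 : (a : ℚ) ≠ 0 := Nat.cast_ne_zero.2 (by omega)
  have hn0 : (n' : ℚ) ≠ 0 := Nat.cast_ne_zero.2 hn'0.ne'
  push_cast at heq
  have hu0 : (c : ℚ) + 2 ≠ 0 := by positivity
  field_simp at heq
  have hnat : n' * ((c + 2) * d) = a * n' * c + 2 := by
    have : (n' : ℚ) * ((c + 2) * d) = a * n' * c + 2 := by linear_combination heq
    exact_mod_cast this
  have hdiv : n' ∣ 2 := by
    have h1 : n' ∣ a * n' * c + 2 := hnat ▸ dvd_mul_right _ _
    exact (Nat.dvd_add_right ⟨a * c, by ring⟩).1 h1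
  obtain rfl : n' = 1 := by
    rcases (Nat.dvd_prime Nat.prime_two).1 hdiv with e | e
    · exact e
    · rw [e] at hn'
      exact absurd hn' (by decide)
  rw [mul_one] at hn hnat
  have hge : c + 2 + 1 ≤ a := by
    rcases hn with h | h
    · omega
    · have : 0 ≤ (c + 2) * d := Nat.zero_le _
      omega
  have hud : c + 2 = Q := by
    rcases hu with h | h
    · exact h
    · exfalso
      have h1 : (c + 2 + 1) * c + 2 ≤ (c + 2) * d := by
        rw [← one_mul ((c + 2) * d), hnat]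
        exact Nat.add_le_add_right (Nat.mul_le_mul_right _ hge) _
      have h2 : (c + 2 + 1) * c + 2 = (c + 2) * (c + 1) := by ring
      rw [h2] at h1
      have h3 := Nat.le_of_mul_le_mul_left h1 (by omega)
      have h4 : 8 * Q ≤ Q * Q := Nat.mul_le_mul_right _ hQ
      omega
  refine ⟨hud, ?_⟩
  rcases hn with h | h
  · rw [mul_one]; exact h
  · exfalso
    have h1 : (1 + (c + 2) + (c + 2) * d) * c + 2 ≤ (c + 2) * d :=
      calc (1 + (c + 2) + (c + 2) * d) * c + 2 ≤ a * c + 2 :=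
            Nat.add_le_add_right (Nat.mul_le_mul_right _ h) _
        _ = (c + 2) * d := by rw [← hnat, one_mul]
    have h2 : (c + 2) * d * 1 ≤ (c + 2) * d * c := Nat.mul_le_mul_left _ (by omega)
    have h3 : (1 + (c + 2) + (c + 2) * d) * c = c * (c + 3) + (c + 2) * d * c := by ring
    rw [mul_one] at h2
    have h4 : 0 < c * (c + 3) := Nat.mul_pos (by omega) (by omega)
    omega

/-- Two further tori of index four. -/
theorem arith_four {n u d a b Q : ℕ} (hQ : 8 ≤ Q) (hd : d + 1 = Q) (hQ2 : Even (Q / 2))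
    (hQe : Even Q) (hu : u = Q * Q) (ha : 3 ≤ a) (hao : Odd a) (hab : a ≤ b)
    (hdvd : a * b ∣ n) (hodd : Odd n) (hn : n = u + 1 ∨ 1 + u + u * d ≤ n)
    (heq : 1 / (a : ℚ) + 1 / b = 2 / d - 4 / (u * d) + 4 / ((n : ℚ) * (u * d))) :
    n = u + 1 := by
  refine hn.resolve_right fun hk => ?_
  obtain ⟨n', rfl⟩ := hdvd
  have hn' : Odd n' := (Nat.odd_mul.1 hodd).2
  obtain ⟨c, hc⟩ : ∃ c, u = c + 2 := ⟨u - 2, by
    have : 8 * 8 ≤ Q * Q := Nat.mul_le_mul hQ hQ
    omega⟩
  have hd0 : (d : ℚ) ≠ 0 := Nat.cast_ne_zero.2 (by omega)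
  have ha0 : (a : ℚ) ≠ 0 := Nat.cast_ne_zero.2 (by omega)
  have hb0 : (b : ℚ) ≠ 0 := Nat.cast_ne_zero.2 (by omega)
  have hn0 : (n' : ℚ) ≠ 0 := Nat.cast_ne_zero.2 hn'.pos.ne'
  rw [hc] at heq
  push_cast at heq
  have hu0 : (c : ℚ) + 2 ≠ 0 := by positivity
  field_simp at heq
  have hnat : n' * (a + b) * (u * d) = 2 * (a * b * n') * c + 4 := by
    have : (n' : ℚ) * (a + b) * ((u : ℚ) * d) = 2 * (a * b * n') * c + 4 := by
      rw [hc]; push_cast; linear_combination heq
    exact_mod_cast this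
  have hdiv : n' ∣ 4 := by
    have h1 : n' ∣ 2 * (a * b * n') * c + 4 := hnat ▸ dvd_mul_of_dvd_left (dvd_mul_right _ _) _
    exact (Nat.dvd_add_right ⟨2 * (a * b) * c, by ring⟩).1 h1
  obtain rfl : n' = 1 := by
    have h4 : n' ≤ 4 := Nat.le_of_dvd (by norm_num) hdiv
    have := Nat.odd_iff.1 hn'
    interval_cases n' <;> omega
  rw [mul_one] at hk
  simp only [one_mul, mul_one] at hnat
  -- `a` is about half of `d`
  have haub : a * c < d * u := by
    have h1 : b * (2 * a * c) + 4 = (a + b) * (u * d) := by rw [hnat]; ring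
    have h2 : (a + b) * (u * d) ≤ b * (2 * (u * d)) := by
      have : a * (u * d) ≤ b * (u * d) := Nat.mul_le_mul_right _ hab
      linarith
    have h3 : b * (2 * a * c) < b * (2 * (u * d)) := by omega
    have h4 := Nat.lt_of_mul_lt_mul_left h3
    have h5 : d * u = u * d := mul_comm _ _
    rw [mul_assoc 2 a c] at h4
    omega
  have hQQ : 8 * Q ≤ Q * Q := Nat.mul_le_mul_right _ hQ
  have hale : a ≤ d + 1 := by
    by_contra hgt
    have h1 : (d + 2) * c ≤ a * c := Nat.mul_le_mul_right _ (by omega)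
    have h2 : (d + 2) * c = d * c + 2 * c := by ring
    have h3 : d * u = d * c + 2 * d := by rw [hc]; ring
    omega
  have hbu : u < b := by
    by_contra hle
    have h1 : a * b ≤ (d + 1) * u := Nat.mul_le_mul hale (by omega)
    have h2 : (d + 1) * u = u * d + u := by ring
    omega
  -- the remaining equation
  have hlo : u * d < 2 * a * c + a * d := by
    by_contra hle
    push Not at hle
    have h1 : b * (2 * a * c + a * d) ≤ b * (u * d) := Nat.mul_le_mul_left _ hle
    have h2 : a * d * u ≤ a * d * b := Nat.mul_le_mul_left _ hbu.le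
    have h3 : b * (2 * a * c + a * d) = 2 * (a * b) * c + a * d * b := by ring
    have h4 : (a + b) * (u * d) = a * d * u + b * (u * d) := by ring
    have h6 : 3 * 7 * 1 ≤ a * d * u := Nat.mul_le_mul (Nat.mul_le_mul ha (by omega)) (by omega)
    omega
  have hhi : 2 * a * c < u * d + a * d := by
    by_contra hle
    push Not at hle
    have h1 : b * (u * d + a * d) ≤ b * (2 * a * c) := Nat.mul_le_mul_left _ hle
    have h2 : a * d * u ≤ a * d * b := Nat.mul_le_mul_left _ hbu.le
    have h3 : b * (u * d + a * d) = b * (u * d) + a * d * b := by ring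
    have h4 : (a + b) * (u * d) = a * d * u + b * (u * d) := by ring
    have h5 : b * (2 * a * c) = 2 * (a * b) * c := by ring
    omega
  have hsmall : a * (d + 4) < 2 * u := by
    have h1 : a * (d + 4) ≤ Q * (Q + 3) := Nat.mul_le_mul (by omega) (by omega)
    have h2 : Q * (Q + 3) = Q * Q + 3 * Q := by ring
    omega
  have h2a : 2 * a ≤ d + 1 := by
    by_contra hgt
    have h1 : (d + 2) * u ≤ 2 * a * u := Nat.mul_le_mul_right _ (by omega)
    have h2 : (d + 2) * u = u * d + 2 * u := by ring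
    have h3 : 2 * a * u = 2 * a * c + 4 * a := by rw [hc]; ring
    have h4 : a * (d + 4) = a * d + 4 * a := by ring
    omega
  have h2a' : d ≤ 2 * a := by
    by_contra hlt
    have h1 : (2 * a + 1) * u ≤ d * u := Nat.mul_le_mul_right _ (by omega)
    have h2 : (2 * a + 1) * u = 2 * a * c + 4 * a + u := by rw [hc]; ring
    have h3 : d * u = u * d := mul_comm _ _
    have h4 : a * (d + 4) = a * d + 4 * a := by ring
    have h5 : a * d ≤ d * d := Nat.mul_le_mul_right _ (by omega)
    have h6 : d * d ≤ Q * Q := Nat.mul_le_mul (by omega) (by omega)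
    omega
  obtain ⟨a', ha'⟩ := hao
  obtain ⟨r, hr⟩ := hQ2
  obtain ⟨r', hr'⟩ := hQe
  omega

end CfsgLib.Suzuki
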