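/-
Suzuki group: a normalised non-solvable subgroup is a subfield group.
-/
import Cfsg.Agent.Suzuki.Count

set_option autoImplicit false

namespace CfsgLib.Suzuki

variable {F : Type*} [Field F] {m : ℕ}

local notation "G" => SzG F m

variable {K : Type*} [Field K] {k : ℕ}

/-- The standing data: a normalised frame over the subfield `φ`. -/
structure Cfg (F : Type*) [Field F] (m : ℕ) (K : Type*) [Field K] (k : ℕ) where
  /-- The field hypothesis. -/
  h : IsSzField F m
  /-- The subfield hypothesis. -/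
  hK : IsSzField K k
  hdiv : 2 * k + 1 ∣ 2 * m + 1
  /-- The embedding. -/
  φ : K →+* F
  /-- The subgroup. -/
  M : Subgroup (SzG F m)
  frame : Frame h M
  norm : Normalised h φ M

variable (C : Cfg F m K k)

namespace Cfg

include C in
theorem finite_M : Finite C.M := by
  have := finite_G C.h
  infer_instance

include C in
theorem q_ge : 8 ≤ Nat.card K := by
  rw [C.hK.card]
  exact le_trans (by norm_num : 8 ≤ 2 ^ 3)
    (Nat.pow_le_pow_right (by norm_num) (by have := C.hK.pos; omega))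

/-- `M ⊓ U` inside `M`. -/
def U0 : Subgroup C.M := (unip C.h).subgroupOf C.M

/-- The stabiliser of infinity inside `M`. -/
def B0 : Subgroup C.M := (borel F m).subgroupOf C.M

theorem mem_U0 {x : C.M} : x ∈ C.U0 ↔ (x : G) ∈ unip C.h := Iff.rfl

theorem mem_B0 {x : C.M} : x ∈ C.B0 ↔ (x : G) • inf F = inf F := Iff.rfl

theorem B0_mem {x : C.M} (hx : x ∈ C.B0) :
    ∃ a b : K, ∃ t : Kˣ,
      (x : G) = uE C.h (C.φ a) (C.φ b) * dE C.h (Units.map C.φ.toMonoidHom t) ∧
        uE C.h (C.φ a) (C.φ b) ∈ C.M := by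
  obtain ⟨a, b, t, e⟩ := (mem_stab_inf C.h).1 (C.mem_B0.1 hx)
  obtain ⟨⟨a', rfl⟩, ⟨b', rfl⟩, ⟨t', rfl⟩⟩ := C.norm.stab_mem a b t (e ▸ x.2)
  refine ⟨a', b', t', e, ?_⟩
  have h1 := C.M.mul_mem x.2 (C.M.inv_mem (C.norm.torus_mem t'))
  rwa [e, mul_inv_cancel_right] at h1

theorem U0_mem {x : C.M} (hx : x ∈ C.U0) :
    ∃ a b : K, (x : G) = uE C.h (C.φ a) (C.φ b) ∧ uE C.h (C.φ a) (C.φ b) ∈ C.M := by
  obtain ⟨a, b, t, e, hm⟩ := C.B0_mem (C.mem_B0.2 (unip_le_stab C.h hx))
  obtain ⟨c, d, e'⟩ := exists_uE C.h (C.mem_U0.1 hx)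
  have e2 : uE C.h c d * dE C.h 1 = uE C.h (C.φ a) (C.φ b) * dE C.h (Units.map C.φ.toMonoidHom t) := by
    rw [map_one, mul_one, ← e', e]
  obtain ⟨h1, h2, -⟩ := uE_dE_inj C.h e2
  exact ⟨a, b, by rw [e', h1, h2], hm⟩

/-- The unipotent elements of `M` in coordinates. -/
def coordSet : Set (K × K) := {p | uE C.h (C.φ p.1) (C.φ p.2) ∈ C.M}

include C in
theorem card_U0 : Nat.card C.U0 = Nat.card C.coordSet := by
  refine (Nat.card_eq_of_bijective
    (fun p : C.coordSet => (⟨⟨_, p.2⟩, uE_mem C.h _ _⟩ : C.U0)) ⟨?_, ?_⟩).symm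
  · rintro ⟨⟨a, b⟩, hp⟩ ⟨⟨c, d⟩, hq⟩ e
    have e' : uE C.h (C.φ a) (C.φ b) = uE C.h (C.φ c) (C.φ d) :=
      congrArg (fun z : C.U0 => (z.1 : G)) e
    obtain ⟨h1, h2⟩ := uE_inj C.h e'
    rw [Subtype.mk.injEq, C.φ.injective h1, C.φ.injective h2]
  · rintro ⟨x, hx⟩
    obtain ⟨a, b, e, hm⟩ := C.U0_mem hx
    exact ⟨⟨(a, b), hm⟩, Subtype.ext (Subtype.ext e.symm)⟩

theorem card_B0 : Nat.card C.B0 = Nat.card C.coordSet * (Nat.card K - 1) := by
  rw [← Nat.card_units, ← Nat.card_prod]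
  refine (Nat.card_eq_of_bijective
    (fun p : C.coordSet × Kˣ => (⟨⟨_, C.M.mul_mem p.1.2 (C.norm.torus_mem p.2)⟩,
      (mem_stab_inf C.h).2 ⟨_, _, _, rfl⟩⟩ : C.B0)) ⟨?_, ?_⟩).symm
  · rintro ⟨⟨⟨a, b⟩, hp⟩, s⟩ ⟨⟨⟨c, d⟩, hq⟩, t⟩ e
    have e' : uE C.h (C.φ a) (C.φ b) * dE C.h (Units.map C.φ.toMonoidHom s) =
        uE C.h (C.φ c) (C.φ d) * dE C.h (Units.map C.φ.toMonoidHom t) :=
      congrArg (fun z : C.B0 => (z.1 : G)) e
    obtain ⟨h1, h2, h3⟩ := uE_dE_inj C.h e'
    refine Prod.ext (Subtype.ext (Prod.ext (C.φ.injective h1) (C.φ.injective h2))) ?_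
    exact Units.map_injective C.φ.injective h3
  · rintro ⟨x, hx⟩
    obtain ⟨a, b, t, e, hm⟩ := C.B0_mem hx
    exact ⟨(⟨(a, b), hm⟩, t), Subtype.ext (Subtype.ext e.symm)⟩

/-- The elementary abelian case. -/
def IsElem : Prop := ∀ a b, uE C.h a b ∈ C.M → a = 0

theorem coord_cases :
    (C.IsElem ∧ Nat.card C.coordSet = Nat.card K) ∨
      (¬ C.IsElem ∧ (∀ a b : K, uE C.h (C.φ a) (C.φ b) ∈ C.M) ∧
        Nat.card C.coordSet = Nat.card K * Nat.card K) := by
  by_cases he : C.IsElem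
  · refine Or.inl ⟨he, ?_⟩
    refine (Nat.card_eq_of_bijective (fun b : K => (⟨((0 : K), b), ?_⟩ : C.coordSet)) ⟨?_, ?_⟩).symm
    · show uE C.h (C.φ 0) (C.φ b) ∈ C.M
      rw [map_zero]
      exact (C.norm.center_iff _).2 ⟨b, rfl⟩
    · intro a b e
      exact congrArg (fun p : C.coordSet => p.1.2) e
    · rintro ⟨⟨a, b⟩, hp⟩
      have ha : a = 0 := C.φ.injective (by rw [map_zero]; exact he _ _ hp)
      subst ha
      exact ⟨b, rfl⟩
  · have hall := C.norm.dich.resolve_left he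
    refine Or.inr ⟨he, hall, ?_⟩
    rw [← Nat.card_prod]
    exact Nat.card_congr (Equiv.subtypeUnivEquiv fun p => hall p.1 p.2)

theorem exists_center_ne_one : ∃ x : C.M, x ∈ C.U0 ∧ x ≠ 1 :=
  ⟨⟨uE C.h 0 1, (C.norm.center_iff 1).2 ⟨1, map_one _⟩⟩, uE_mem C.h _ _,
    fun e => one_ne_zero ((uE_eq_one C.h).1 (congrArg Subtype.val e)).2⟩

theorem isTI_U0 : IsTI C.U0 ∧ Subgroup.normalizer (C.U0 : Set C.M) = C.B0 := by
  have hle : C.B0 ≤ Subgroup.normalizer (C.U0 : Set C.M) := by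
    intro g hg
    have hg' := borel_le_normalizer C.h (show (g : G) ∈ borel F m from hg)
    refine Subgroup.mem_normalizer_iff.2 fun x => ?_
    rw [C.mem_U0, C.mem_U0]
    exact Subgroup.mem_normalizer_iff.1 hg' x
  refine ⟨fun c x hx hx1 hc => hle ?_, le_antisymm (fun g hg => ?_) hle⟩
  · exact mem_borel_of_conj_mem_unip C.h hx (fun e => hx1 (Subtype.ext e)) hc
  · obtain ⟨x, hx, hx1⟩ := C.exists_center_ne_one
    exact mem_borel_of_conj_mem_unip C.h hx (fun e => hx1 (Subtype.ext e))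
      ((Subgroup.mem_normalizer_iff.1 hg x).1 hx)

theorem dvd_index : ¬ 2 ∣ C.U0.index := by
  have := C.finite_M
  intro hd
  have : Fact (Nat.Prime 2) := ⟨Nat.prime_two⟩
  have hP : IsPGroup 2 C.U0 := (isPGroup_unip C.h).of_injective
    ((C.M.subtype.comp C.U0.subtype).codRestrict (unip C.h) fun x => x.2)
    fun x y e => Subtype.ext (Subtype.ext (congrArg (fun z : unip C.h => (z : G)) e))
  obtain ⟨P, hPle⟩ := hP.exists_le_sylow
  have heq : (P : Subgroup C.M) = C.U0 := by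
    refine le_antisymm (fun x hx => ?_) hPle
    obtain ⟨c, hc⟩ := exists_conj_le_unip C.h (P.isPGroup'.map C.M.subtype)
    obtain ⟨u, hu, hu1⟩ := C.exists_center_ne_one
    have h1 := hc _ (Subgroup.mem_map_of_mem C.M.subtype (hPle hu))
    have hcB : c ∈ borel F m :=
      mem_borel_of_conj_mem_unip C.h hu (fun e => hu1 (Subtype.ext e)) h1
    rw [C.mem_U0]
    exact (Subgroup.mem_normalizer_iff.1 (borel_le_normalizer C.h hcB) (x : G)).2
      (hc _ (Subgroup.mem_map_of_mem C.M.subtype hx))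
  exact (heq ▸ P.not_dvd_index) hd

/-- Every element is trivial, conjugate into `U0`, or of torus type. -/
theorem cover (x : C.M) : x = 1 ∨ x ∈ conjSet C.U0 ∨ IsTorusIn x := by
  have := C.finite_M
  have : Fact (Nat.Prime 2) := ⟨Nat.prime_two⟩
  by_cases hx : x = 1
  · exact Or.inl hx
  rcases unip_or_torusElt C.h (fun e => hx (Subtype.ext e) : (x : G) ≠ 1) with ⟨c, hc⟩ | ht
  · refine Or.inr (Or.inl ⟨hx, ?_⟩)
    have h1 := orderOf_dvd_of_mem_unip C.h hc
    rw [orderOf_conj_eq, Subgroup.orderOf_coe] at h1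
    obtain ⟨j, -, hj⟩ := (Nat.dvd_prime_pow Nat.prime_two).1 h1
    obtain ⟨P, hP⟩ := (IsPGroup.of_card (n := j) (by rw [Nat.card_zpowers, hj]) :
      IsPGroup 2 (Subgroup.zpowers x)).exists_le_sylow
    have hP0 : IsPGroup 2 C.U0 := (isPGroup_unip C.h).of_injective
      ((C.M.subtype.comp C.U0.subtype).codRestrict (unip C.h) fun y => y.2)
      fun y z e => Subtype.ext (Subtype.ext (congrArg (fun w : unip C.h => (w : G)) e))
    obtain ⟨d, hd⟩ := MulAction.exists_smul_eq C.M P (hP0.toSylow C.dvd_index)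
    refine ⟨d, ?_⟩
    have h2 : d * x * d⁻¹ ∈ ((hP0.toSylow C.dvd_index : Sylow 2 C.M) : Subgroup C.M) := by
      rw [← hd]
      exact Subgroup.smul_mem_pointwise_smul x (MulAut.conj d) _ (hP (Subgroup.mem_zpowers x))
    exact h2
  · exact Or.inr (Or.inr ht)

theorem disjoint_U0 {z : C.M} (hz : IsTorusIn z) :
    Disjoint (conjSet C.U0) (conjSet (Subgroup.centralizer ({z} : Set C.M))) := by
  rw [Set.disjoint_left]
  rintro y ⟨hy, c, hc⟩ ⟨-, d, hd⟩
  obtain ⟨hT, -⟩ := hz.strong C.h _ hd (fun e => hy (conj_eq_one_iff.1 e))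
  refine IsTorusElt.not_conj_unip C.h hT ((c : G) * (d : G)⁻¹) ?_
  have hc' : (c : G) * (y : G) * (c : G)⁻¹ ∈ unip C.h := hc
  simp only [Subgroup.coe_mul, InvMemClass.coe_inv]
  convert hc' using 1
  group

theorem elem_sq (he : C.IsElem) (x : C.M) (j : ℕ) (hj : orderOf x = 2 ^ j) : x * x = 1 := by
  rcases C.cover x with rfl | ⟨-, c, hc⟩ | ht
  · rw [mul_one]
  · obtain ⟨a, b, e, hm⟩ := C.U0_mem hc
    have ha := he _ _ hm
    have e2 : (c : G) * (x : G) * (c : G)⁻¹ = uE C.h (C.φ a) (C.φ b) := e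
    have h2 : (c : G) * ((x : G) * (x : G)) * (c : G)⁻¹ = 1 := by
      rw [show (c : G) * ((x : G) * (x : G)) * (c : G)⁻¹ =
        ((c : G) * (x : G) * (c : G)⁻¹) * ((c : G) * (x : G) * (c : G)⁻¹) by group, e2, uE_sq, ha]
      simp [uE_zero]
    exact Subtype.ext (conj_eq_one_iff.1 h2)
  · exfalso
    rcases Nat.eq_zero_or_pos j with rfl | hpos
    · exact ht.ne_one (orderOf_eq_one_iff.1 (by simpa using hj))
    · exact ht.odd C.h ((dvd_pow_self 2 hpos.ne').trans
        (hj ▸ Subgroup.orderOf_dvd_natCard _ (IsTorusIn.self_mem x)))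

/-- The torus of `M` through infinity and zero. -/
theorem exists_split : ∃ z : C.M, IsTorusIn z ∧
    Nat.card (Subgroup.centralizer ({z} : Set C.M)) = Nat.card K - 1 ∧
    Subgroup.centralizer ({(z : G)} : Set G) = torus C.h := by
  have := C.hK.finite
  obtain ⟨t, ht, -⟩ := exists_unit_sg_ne_one C.hK
  have hne : dE C.h (Units.map C.φ.toMonoidHom t) ≠ 1 := by
    intro e
    rw [← map_one (dE C.h)] at e
    have e' := dE_injective C.h e
    rw [← map_one (Units.map C.φ.toMonoidHom)] at e'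
    rw [Units.map_injective C.φ.injective e', Units.val_one, sg_one] at ht
    exact ht (by linear_combination C.hK.two_eq_zero)
  have hmem : dE C.h (Units.map C.φ.toMonoidHom t) ∈ torus C.h := ⟨_, rfl⟩
  have hcen := centralizer_torus C.h hmem hne
  refine ⟨⟨_, C.norm.torus_mem t⟩, ⟨hne, ?_, ?_⟩, ?_, hcen⟩
  · rw [hcen]; exact isCyclic_torus C.h
  · rw [hcen, card_torus, C.h.card]; exact Set.mem_insert _ _
  · rw [centralizer_in_eq, hcen, ← Nat.card_units]
    refine (Nat.card_eq_of_bijective (fun s : Kˣ =>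
      (⟨⟨_, C.norm.torus_mem s⟩, ⟨_, rfl⟩⟩ : (torus C.h).subgroupOf C.M)) ⟨?_, ?_⟩).symm
    · intro r s e
      have e' : dE C.h (Units.map C.φ.toMonoidHom r) = dE C.h (Units.map C.φ.toMonoidHom s) :=
        congrArg (fun z : (torus C.h).subgroupOf C.M => (z.1 : G)) e
      exact Units.map_injective C.φ.injective (dE_injective C.h e')
    · rintro ⟨x, hx⟩
      obtain ⟨s, hs⟩ := hx
      have hs' : dE C.h s = (x : G) := hs
      have hm : uE C.h 0 0 * dE C.h s ∈ C.M := by rw [uE_zero, one_mul, hs']; exact x.2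
      obtain ⟨-, -, s', rfl⟩ := C.norm.stab_mem 0 0 s hm
      exact ⟨s', Subtype.ext (Subtype.ext hs')⟩

/-! ### The orbit of infinity -/

/-- The orbit of infinity under `M`. -/
def orb : Set (Projectivization F (Fin 4 → F)) := MulAction.orbit C.M (inf F)

theorem orb_card : C.orb.ncard = C.B0.index := by
  rw [orb, ← MulAction.index_stabilizer]
  rfl

theorem orb_sub {p : Projectivization F (Fin 4 → F)} (hp : p ∈ C.orb) :
    p ∈ Cfsg.suzukiOvoid F m := by
  obtain ⟨g, rfl⟩ := hp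
  exact smul_mem_ovoid' (g : G) inf_mem

/-- The points of the orbit in sight: infinity and the `U0`-orbit of zero. -/
def near : Set (Projectivization F (Fin 4 → F)) :=
  insert (inf F) ((fun p : K × K => pt m (C.φ p.1) (C.φ p.2)) '' C.coordSet)

theorem near_card : C.near.ncard = Nat.card C.coordSet + 1 := by
  have := C.hK.finite
  have hinj : Function.Injective (fun p : K × K => pt m (C.φ p.1) (C.φ p.2)) := fun p q e =>
    Prod.ext (C.φ.injective (pt_eq_iff.1 e).1) (C.φ.injective (pt_eq_iff.1 e).2)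
  rw [near, Set.ncard_insert_of_notMem ?_ (Set.toFinite _), Set.ncard_image_of_injective _ hinj,
    Nat.card_coe_set_eq]
  rintro ⟨p, -, e⟩
  exact pt_ne_inf _ _ e

theorem near_sub (h0 : pt m (0 : F) 0 ∈ C.orb) : C.near ⊆ C.orb := by
  rintro p (rfl | ⟨⟨a, b⟩, hab, rfl⟩)
  · exact MulAction.mem_orbit_self _
  · obtain ⟨g, hg⟩ := h0
    refine ⟨⟨_, hab⟩ * g, ?_⟩
    show ((⟨_, hab⟩ * g : C.M) : G) • inf F = _
    have hg' : (g : G) • inf F = pt m 0 0 := hg
    rw [Subgroup.coe_mul, mul_smul, hg', uE_smul_pt]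
    simp

/-- The fixed point of a non-identity element of `B0` other than infinity is in sight. -/
theorem fixed_near {g : C.M} (hg : g ∈ C.B0) (hg1 : g ≠ 1) {x y : F}
    (hfix : (g : G) • pt m x y = pt m x y) : pt m x y ∈ C.near := by
  have := C.hK.finite
  have := C.h.charP
  have : Fact (Nat.Prime 2) := ⟨Nat.prime_two⟩
  obtain ⟨a, b, t, e, hm⟩ := C.B0_mem hg
  have hR : ∀ r : K, (C.φ r) ^ Nat.card K = C.φ r := fun r => (mem_range_iff C.φ _).1 ⟨r, rfl⟩
  have hpow : ∀ r s : F, (r + s) ^ Nat.card K = r ^ Nat.card K + s ^ Nat.card K := fun r s => by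
    rw [C.hK.card, add_pow_char_pow]
  set T := Units.map C.φ.toMonoidHom t with hT
  have hfix' : sg m (T : F) * x + C.φ a = x ∧
      sg m (T : F) * (T : F) ^ 2 * y + sg m (C.φ a) * (sg m (T : F) * x) + C.φ b = y := by
    rw [e] at hfix
    have e2 : (uE C.h (C.φ a) (C.φ b) * dE C.h T) • pt m x y =
        pt m (sg m (T : F) * x + C.φ a)
          (sg m (T : F) * (T : F) ^ 2 * y + sg m (C.φ a) * (sg m (T : F) * x) + C.φ b) := by
      rw [mul_smul]
      show uE C.h _ _ • (D m T • pt m x y) = _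
      rw [D_smul_pt C.h, uE_smul_pt]
    rw [e2, pt_eq_iff] at hfix
    exact hfix
  -- the conjugate point is fixed as well
  have hsT : sg m (T : F) ^ Nat.card K = sg m (T : F) := by
    rw [← sg_pow, hT, map_units_val, hR]
  have hTT : (T : F) ^ Nat.card K = T := by rw [hT, map_units_val, hR]
  have hsa : sg m (C.φ a) ^ Nat.card K = sg m (C.φ a) := by rw [← sg_pow, hR]
  have h1 := congrArg (fun z : F => z ^ Nat.card K) hfix'.1
  have h2 := congrArg (fun z : F => z ^ Nat.card K) hfix'.2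
  simp only [hpow, mul_pow, hR, hsT, hsa] at h1 h2
  rw [← pow_mul, mul_comm 2 (Nat.card K), pow_mul, hTT] at h2
  have hfixQ : (g : G) • pt m (x ^ Nat.card K) (y ^ Nat.card K) =
      pt m (x ^ Nat.card K) (y ^ Nat.card K) := by
    rw [e, mul_smul]
    show uE C.h _ _ • (D m T • pt m _ _) = _
    rw [D_smul_pt C.h, uE_smul_pt, pt_eq_iff]
    exact ⟨h1, h2⟩
  have heq : pt m (x ^ Nat.card K) (y ^ Nat.card K) = pt m x y := by
    by_contra hne
    exact hg1 (Subtype.ext (eq_one_of_fix_three C.h inf_mem (pt_mem _ _) (pt_mem x y)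
      (pt_ne_inf _ _).symm (pt_ne_inf _ _).symm hne (C.mem_B0.1 hg) hfixQ hfix))
  obtain ⟨hx, hy⟩ := pt_eq_iff.1 heq
  obtain ⟨x', rfl⟩ := (mem_range_iff C.φ x).2 hx
  obtain ⟨y', rfl⟩ := (mem_range_iff C.φ y).2 hy
  refine Or.inr ⟨(x', y'), ?_, rfl⟩
  show uE C.h (C.φ x') (C.φ y') ∈ C.M
  rcases C.norm.dich with he | hall
  · have ha : C.φ a = 0 := he _ _ hm
    have hx0 : C.φ x' = 0 := by
      by_contra hne
      have hT1 : T = 1 := by
        have := hfix'.1
        rw [ha, add_zero] at this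
        exact scale_eq_one_left C.h hne this
      have hb : C.φ b = 0 := by
        have := hfix'.2
        rw [ha, hT1, Units.val_one, sg_one, sg_zero] at this
        linear_combination this
      apply hg1
      apply Subtype.ext
      rw [e, ha, hb, hT1, map_one, uE_zero, mul_one]
      rfl
    rw [hx0]
    exact (C.norm.center_iff _).2 ⟨y', rfl⟩
  · exact hall x' y'

/-- The size of the orbit of infinity. -/
theorem orb_count (h0 : pt m (0 : F) 0 ∈ C.orb) :
    ∃ j, C.orb.ncard = Nat.card C.coordSet + 1 + j * Nat.card C.B0 := by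
  have := C.finite_M
  have hfin : C.orb.Finite := (ovoid_finite C.h).subset fun p hp => C.orb_sub hp
  have hsub := C.near_sub h0
  have hnear : ∀ g ∈ C.B0, ∀ p ∈ C.near, (g : G) • p ∈ C.near := by
    intro g hg p hp
    obtain ⟨a, b, t, e, hm⟩ := C.B0_mem hg
    rcases hp with rfl | ⟨⟨x, y⟩, hxy, rfl⟩
    · exact Or.inl (C.mem_B0.1 hg)
    · refine Or.inr ⟨(sg k (t : K) * x + a,
        sg k (t : K) * (t : K) ^ 2 * y + sg k a * (sg k (t : K) * x) + b), ?_, ?_⟩
      · show uE C.h _ _ ∈ C.M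
        have h1 := C.M.mul_mem (C.M.mul_mem hm
          (C.M.mul_mem (C.M.mul_mem (C.norm.torus_mem t) hxy) (C.M.inv_mem (C.norm.torus_mem t))))
          (C.M.one_mem)
        rw [dE_conj, uE_mul, mul_one] at h1
        convert h1 using 2
        · simp only [map_add, map_mul, map_sg C.φ C.hK C.hdiv, map_units_val]
          ring
        · simp only [map_add, map_mul, map_pow, map_sg C.φ C.hK C.hdiv, map_units_val]
          ring
      · show pt m (_ : F) _ = (g : G) • pt m (_ : F) _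
        rw [e, mul_smul]
        show _ = uE C.h (_ : F) _ • (D m (_ : Fˣ) • pt m (_ : F) _)
        rw [D_smul_pt C.h, uE_smul_pt]
        simp only [map_add, map_mul, map_pow, map_sg C.φ C.hK C.hdiv, map_units_val]
  have hdvd : Nat.card C.B0 ∣ (C.orb \ C.near).ncard := by
    refine card_dvd_ncard_of_free (Γ := C.B0) ?_ ?_
    · rintro g p ⟨⟨γ, rfl⟩, hp⟩
      refine ⟨⟨(g : C.M) * γ, ?_⟩, fun hmem => hp ?_⟩
      · exact mul_smul (g : C.M) γ (inf F)
      · have h1 := hnear _ (C.B0.inv_mem g.2) _ hmem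
        change ((g : C.M)⁻¹ : C.M) • ((g : C.M) • (γ • inf F)) ∈ C.near at h1
        rwa [inv_smul_smul] at h1
    · rintro g p ⟨hp, hnp⟩ hgp
      by_contra hne
      apply hnp
      rcases mem_ovoid.1 (C.orb_sub hp) with rfl | ⟨x, y, rfl⟩
      · exact Or.inl rfl
      · exact C.fixed_near g.2 (fun e => hne (Subtype.ext e)) hgp
  obtain ⟨j, hj⟩ := hdvd
  refine ⟨j, ?_⟩
  rw [← Set.ncard_sdiff_add_ncard_of_subset hsub hfin, hj, C.near_card, mul_comm j]
  ring

end Cfg

end CfsgLib.Suzuki
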