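/-
Suzuki group: the subgroup theorem.
-/
import Cfsg.Agent.Suzuki.SubfieldCase

set_option autoImplicit false

namespace CfsgLib.Suzuki

variable {F : Type*} [Field F] {m : ℕ}

local notation "G" => SzG F m

variable {K : Type*} [Field K] {k : ℕ}

namespace Cfg

variable (C : Cfg F m K k)

/-- The centraliser of `z` inside `M`. -/
abbrev cent (z : C.M) : Subgroup C.M := Subgroup.centralizer ({z} : Set C.M)

theorem index_ne_one : C.B0.index ≠ 1 := fun e => C.frame.not_le fun x hx => by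
  have : (⟨x, hx⟩ : C.M) ∈ C.B0 := (Subgroup.index_eq_one.1 e) ▸ Subgroup.mem_top _
  exact this

theorem cent_disjoint {z y : C.M} (hz : IsTorusIn z) (hy : IsTorusIn y) (hny : y ∉ conjSet (C.cent z)) :
    Disjoint (conjSet (C.cent z)) (conjSet (C.cent y)) :=
  conjSet_disjoint_of_not_mem (fun x hx hx1 => (hz.strong C.h x hx hx1).2) hy.ne_one hny
    fun x hx hx1 => (hy.strong C.h x hx hx1).2

theorem cent_isTI {z : C.M} (hz : IsTorusIn z) : IsTI (C.cent z) :=
  isTI_of_centralizer_eq fun x hx hx1 => (hz.strong C.h x hx hx1).2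

/-- The index of a torus in its normaliser inside `M`. -/
theorem cent_data {z : C.M} (hz : IsTorusIn z) :
    ∃ w, (w = 1 ∨ w = 2 ∨ w = 4 ∧ 5 ≤ Nat.card (C.cent z)) ∧ (C.IsElem → w ≠ 4) ∧
      Nat.card (Subgroup.normalizer (C.cent z : Set C.M)) = w * Nat.card (C.cent z) ∧
      dens (C.cent z) = (1 - 1 / (Nat.card (C.cent z) : ℚ)) / w := by
  have := C.finite_M
  obtain ⟨w, hw, hN⟩ := hz.normalizer_card C.h
  refine ⟨w, hw, fun he e => ?_, hN, ?_⟩
  · refine normalizer_index_ne_four (C.elem_sq he) (fun x hx hx1 => (hz.strong C.h x hx hx1).2)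
      (hz.odd C.h) (fun e' => hz.ne_one ?_) (e ▸ hN)
    have hm := IsTorusIn.self_mem z
    rw [show Subgroup.centralizer ({z} : Set C.M) = ⊥ from e', Subgroup.mem_bot] at hm
    exact hm
  · rw [dens_eq (C.cent_isTI hz) hN]
    have h3 := hz.three_le C.h
    have h3' : 3 ≤ Nat.card (C.cent z) := h3
    have h0 : (Nat.card (C.cent z) : ℚ) ≠ 0 := Nat.cast_ne_zero.2 (by omega)
    have hw0 : (w : ℚ) ≠ 0 := Nat.cast_ne_zero.2 (by rcases hw with rfl | rfl | ⟨rfl, -⟩ <;> norm_num)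
    push_cast
    field_simp

theorem one_fifth_le {z : C.M} (hz : IsTorusIn z) : 1 / 5 ≤ dens (C.cent z) := by
  obtain ⟨w, hw, -, -, e⟩ := C.cent_data hz
  have h3 : (3 : ℚ) ≤ (Nat.card (C.cent z) : ℚ) := by exact_mod_cast hz.three_le C.h
  have h1 := one_div_le_one_div_of_le (by norm_num) h3
  rw [e]
  rcases hw with rfl | rfl | ⟨rfl, h5⟩
  · norm_num at h1 ⊢; linarith
  · norm_num at h1 ⊢; linarith
  · have h5' : (5 : ℚ) ≤ (Nat.card (C.cent z) : ℚ) := by exact_mod_cast h5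
    have h2 := one_div_le_one_div_of_le (by norm_num) h5'
    norm_num at h2 ⊢; linarith

/-- Torus orders in different classes are coprime. -/
theorem cent_coprime {z y : C.M} (hz : IsTorusIn z) (hy : IsTorusIn y)
    (hny : y ∉ conjSet (C.cent z)) :
    Nat.Coprime (Nat.card (C.cent z)) (Nat.card (C.cent y)) := by
  have := C.finite_M
  refine Nat.coprime_of_dvd fun r hr hrz hry => ?_
  have : Fact r.Prime := ⟨hr⟩
  have hr2 : r ≠ 2 := fun e => hz.odd C.h (e ▸ hrz)
  obtain ⟨x, hx⟩ := exists_prime_orderOf_dvd_card' r hrz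
  obtain ⟨v, hv⟩ := exists_prime_orderOf_dvd_card' r hry
  have hcy : ∀ P : Sylow r C.M, IsCyclic P := fun P => by
    have := finite_G C.h
    obtain ⟨Q, hQ⟩ := (P.isPGroup'.map C.M.subtype).exists_le_sylow
    have := isCyclic_sylow_odd C.h hr2 Q
    exact isCyclic_of_injective
      ((Subgroup.inclusion hQ).comp
        ((P : Subgroup C.M).equivMapOfInjective C.M.subtype C.M.subtype_injective).toMonoidHom)
      ((Subgroup.inclusion_injective hQ).comp (MulEquiv.injective _))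
  rw [← Subgroup.orderOf_coe] at hx hv
  obtain ⟨c, hc⟩ := conj_mem_zpowers hcy hv hx
  have hx1 : (x : C.M) ≠ 1 := fun e => hr.one_lt.ne' (by rw [← hx, e, orderOf_one])
  have hv1 : (v : C.M) ≠ 1 := fun e => hr.one_lt.ne' (by rw [← hv, e, orderOf_one])
  have h1 : (v : C.M) ∈ conjSet (C.cent z) :=
    ⟨hv1, c, Subgroup.zpowers_le.2 x.2 hc⟩
  exact Set.disjoint_left.1 (C.cent_disjoint hz hy hny) h1
    ⟨hv1, 1, by rw [one_mul, inv_one, mul_one]; exact v.2⟩

theorem cent_dvd_index {z : C.M} (hz : IsTorusIn z) {z₀ : C.M} (hz₀ : IsTorusIn z₀)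
    (hd : Nat.card (C.cent z₀) = Nat.card K - 1) (hn : z ∉ conjSet (C.cent z₀)) :
    Nat.card (C.cent z) ∣ C.B0.index := by
  have := C.finite_M
  have h1 : Nat.Coprime (Nat.card (C.cent z)) (Nat.card C.B0) := by
    rw [C.card_B0]
    refine Nat.Coprime.mul_right ?_ (hd ▸ (C.cent_coprime hz₀ hz hn).symm)
    have hK : ∀ j, Nat.Coprime (Nat.card (C.cent z)) ((2 : ℕ) ^ j) := fun j =>
      Nat.Coprime.pow_right _ (((Nat.prime_two.coprime_iff_not_dvd).2 (hz.odd C.h)).symm)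
    rcases C.coord_cases with ⟨-, e⟩ | ⟨-, -, e⟩
    · rw [e, C.hK.card]; exact hK _
    · rw [e, C.hK.card, ← pow_add]; exact hK _
  refine h1.dvd_of_dvd_mul_right ?_
  rw [Subgroup.index_mul_card]
  exact Subgroup.card_subgroup_dvd_card _

/-- The class equation: the size of the orbit and the shape of `M ⊓ U`. -/
theorem count :
    ∃ s, wE C.h * dE C.h s ∈ C.M ∧ C.orb = C.near ∧
      (C.IsElem ∨ ∀ a b : K, uE C.h (C.φ a) (C.φ b) ∈ C.M) := by
  have := C.finite_M
  have := C.hK.finite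
  set Q := Nat.card K with hQdef
  have hQ8 : 8 ≤ Q := C.q_ge
  set d := Q - 1 with hd
  set u := Nat.card C.coordSet with hu
  set n := C.B0.index with hn
  have hB : Nat.card C.B0 = u * d := C.card_B0
  have hΓ : Nat.card C.M = n * (u * d) := by rw [← hB, hn, Subgroup.index_mul_card]
  have hucases : u = Q ∨ u = Q * Q := C.coord_cases.imp And.right fun h => h.2.2
  have hu8 : 8 ≤ u := by
    rcases hucases with e | e
    · omega
    · exact e ▸ le_trans hQ8 (Nat.le_mul_self Q)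
  have hn0 : 0 < n := Nat.pos_of_ne_zero Subgroup.index_ne_zero_of_finite
  have hdQ : (7 : ℚ) ≤ d := by exact_mod_cast (by omega : 7 ≤ d)
  have huQ : (8 : ℚ) ≤ u := by exact_mod_cast hu8
  have hnQ : (1 : ℚ) ≤ n := by exact_mod_cast hn0
  -- the three kinds of elements
  obtain ⟨hTI, hNU⟩ := C.isTI_U0
  have hdU : dens C.U0 = ((u : ℚ) - 1) / (u * d) := by
    rw [dens_eq hTI (N := u * d) (by rw [hNU, hB]), C.card_U0, ← hu]
    push_cast
    ring
  obtain ⟨z₀, hz₀, hc₀, hT₀⟩ := C.exists_split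
  have hfull : ∀ S : Set C.M, (∀ x, x ≠ 1 → x ∈ S) → (1 : C.M) ∉ S →
      (S.ncard : ℚ) / (Nat.card C.M : ℚ) = 1 - 1 / ((n : ℚ) * (u * d)) := by
    intro S h1 h2
    have e : S = ({1} : Set C.M)ᶜ := by
      ext x
      exact ⟨fun hx hx' => h2 ((Set.mem_singleton_iff.1 hx') ▸ hx), fun hx => h1 x hx⟩
    have e' := Set.ncard_add_ncard_compl ({1} : Set C.M)
    rw [← e, Set.ncard_singleton] at e'
    have e2 : (1 : ℚ) + S.ncard = (Nat.card C.M : ℚ) := by exact_mod_cast e'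
    have e3 : (Nat.card C.M : ℚ) = (n : ℚ) * (u * d) := by rw [hΓ]; push_cast; ring
    have h0 : (n : ℚ) * (u * d) ≠ 0 := by positivity
    rw [e3] at e2 ⊢
    field_simp
    linear_combination e2
  have hle : ∀ S : Set C.M, (1 : C.M) ∉ S →
      (S.ncard : ℚ) / (Nat.card C.M : ℚ) ≤ 1 - 1 / ((n : ℚ) * (u * d)) := by
    intro S h2
    rw [← hfull {x | x ≠ 1} (fun x hx => hx) (fun hx => hx rfl)]
    gcongr
    exact Set.toFinite _
    exact fun x hx hx1 => h2 (hx1 ▸ hx)
  have hne1 : ∀ A : Subgroup C.M, (1 : C.M) ∉ conjSet A := fun A hA => hA.1 rfl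
  -- the split torus
  obtain ⟨w₀, hw₀, -, hN₀, hde₀⟩ := C.cent_data hz₀
  rw [show Nat.card (C.cent z₀) = d from hc₀] at hde₀
  set S₀ := conjSet C.U0 ∪ conjSet (C.cent z₀) with hS₀
  have hS₀1 : (1 : C.M) ∉ S₀ := by
    rintro (hx | hx) <;> exact hne1 _ hx
  have hS₀d : (S₀.ncard : ℚ) / (Nat.card C.M : ℚ) = dens C.U0 + dens (C.cent z₀) := by
    rw [Set.ncard_union_eq (C.disjoint_U0 hz₀), Nat.cast_add, add_div]
    rfl
  have hmore : ∀ S : Set C.M, conjSet C.U0 ⊆ S → ¬ (∀ x, x ≠ 1 → x ∈ S) →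
      ∃ z, IsTorusIn z ∧ z ∉ S := by
    intro S hU hS
    simp only [not_forall] at hS
    obtain ⟨x, hx, hxS⟩ := hS
    rcases C.cover x with e | e | e
    · exact absurd e hx
    · exact absurd (hU e) hxS
    · exact ⟨x, e, hxS⟩
  have hd0 : (d : ℚ) ≠ 0 := by positivity
  have hu0 : (u : ℚ) ≠ 0 := by positivity
  have hud : 0 < 1 / ((u : ℚ) * d) := by positivity
  have hnud : 0 < 1 / ((n : ℚ) * (u * d)) := by positivity
  have hnud' : 1 / ((n : ℚ) * (u * d)) ≤ 1 / ((u : ℚ) * d) :=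
    one_div_le_one_div_of_le (by positivity) (le_mul_of_one_le_left (by positivity) hnQ)
  have hud56 : 1 / ((u : ℚ) * d) ≤ 1 / 56 :=
    one_div_le_one_div_of_le (by norm_num) (by nlinarith)
  have hd7 : 1 / (d : ℚ) ≤ 1 / 7 := one_div_le_one_div_of_le (by norm_num) hdQ
  have hd0' : 0 < 1 / (d : ℚ) := by positivity
  have hUexp : dens C.U0 = 1 / (d : ℚ) - 1 / ((u : ℚ) * d) := by rw [hdU]; field_simp
  -- the split torus has index two in its normaliser
  obtain rfl : w₀ = 2 := by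
    rcases hw₀ with rfl | rfl | ⟨rfl, -⟩
    · exfalso
      rw [Nat.cast_one, div_one] at hde₀
      by_cases hall : ∀ x, x ≠ 1 → x ∈ S₀
      · have e := hfull S₀ hall hS₀1
        rw [hS₀d, hUexp, hde₀] at e
        have e2 : 1 / ((n : ℚ) * (u * d)) = 1 / ((u : ℚ) * d) := by linarith
        rw [one_div, one_div, inv_inj] at e2
        have e3 : (n : ℚ) = 1 :=
          (mul_eq_right₀ (b := (u : ℚ) * d) (mul_ne_zero hu0 hd0)).1 e2
        exact C.index_ne_one (by exact_mod_cast e3)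
      · obtain ⟨z, hz, hzS⟩ := hmore S₀ Set.subset_union_left hall
        simp only [hS₀, Set.mem_union, not_or] at hzS
        have hdis : Disjoint S₀ (conjSet (C.cent z)) :=
          Set.disjoint_union_left.2 ⟨C.disjoint_U0 hz, C.cent_disjoint hz₀ hz hzS.2⟩
        have e := hle (S₀ ∪ conjSet (C.cent z)) (by
          rintro (hx | hx)
          · exact hS₀1 hx
          · exact hne1 _ hx)
        rw [Set.ncard_union_eq hdis, Nat.cast_add, add_div, hS₀d, hUexp, hde₀] at e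
        have e2 := C.one_fifth_le hz
        rw [dens] at e2
        linarith
    · rfl
    · exfalso
      -- an index-four torus is not the split one
      obtain ⟨w, hw, hcard⟩ := IsTorusElt.normalizer_card hz₀ C.h
      have := finite_G C.h
      obtain ⟨w', hdvd, hN'⟩ := normalizer_index_subgroupOf (IsTorusElt.isTI C.h hz₀)
        (Subgroup.mem_centralizer_singleton_iff.2 rfl) z₀.2 hz₀.1
      have := finite_G C.h
      rw [← centralizer_in_eq] at hN'
      have hw' : w' = 4 := Nat.eq_of_mul_eq_mul_right Nat.card_pos (hN'.symm.trans hN₀)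
      rw [hcard, hw'] at hdvd
      have h4 : 4 ∣ w := Nat.dvd_of_mul_dvd_mul_right Nat.card_pos hdvd
      rw [hT₀] at hcard
      rw [card_normalizer_torus, card_torus] at hcard
      have hq : 1 < Nat.card F := by
        have := C.h.finite
        exact Finite.one_lt_card
      have : w = 2 := (Nat.eq_of_mul_eq_mul_right (by omega) hcard).symm
      omega
  -- an element exchanging infinity and zero
  obtain ⟨s, hs⟩ : ∃ s, wE C.h * dE C.h s ∈ C.M := by
    have hlt : C.cent z₀ < Subgroup.normalizer (C.cent z₀ : Set C.M) := by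
      refine lt_of_le_of_ne Subgroup.le_normalizer fun e => ?_
      rw [← e] at hN₀
      have : 0 < Nat.card (C.cent z₀) := Nat.card_pos
      omega
    obtain ⟨g, hg, hgn⟩ := SetLike.exists_of_lt hlt
    have hgN : (g : G) ∈ Subgroup.normalizer (torus C.h : Set G) := by
      have h1 := (Subgroup.mem_normalizer_iff.1 hg z₀).1 (IsTorusIn.self_mem z₀)
      rw [cent, centralizer_in_eq, Subgroup.mem_subgroupOf, hT₀] at h1
      refine isTI_torus C.h _ _ ?_ hz₀.1 h1
      rw [← hT₀]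
      exact Subgroup.mem_centralizer_singleton_iff.2 rfl
    have hgT : (g : G) ∉ torus C.h := by
      intro hT
      apply hgn
      rw [cent, centralizer_in_eq, Subgroup.mem_subgroupOf, hT₀]
      exact hT
    obtain ⟨s, hs⟩ := mem_normalizer_torus C.h hgN hgT
    exact ⟨s, hs ▸ g.2⟩
  refine ⟨s, hs, ?_⟩
  have h0 : pt m (0 : F) 0 ∈ C.orb := by
    refine ⟨⟨_, hs⟩, ?_⟩
    show (wE C.h * dE C.h s : G) • inf F = _
    rw [mul_smul, ((mem_torus_iff C.h).1 ⟨s, rfl⟩).1, wE_smul_inf]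
  obtain ⟨j, hj⟩ := C.orb_count h0
  rw [C.orb_card, ← hn, ← hu, hB] at hj
  have hnodd : Odd n := by
    by_contra hev
    rw [Nat.not_odd_iff_even] at hev
    refine C.dvd_index (dvd_trans (even_iff_two_dvd.1 hev) ?_)
    exact Subgroup.index_dvd_of_le fun x hx => unip_le_stab C.h hx
  have hnn : n = u + 1 ∨ 1 + u + u * d ≤ n := by
    rcases Nat.eq_zero_or_pos j with rfl | hj0
    · left; rw [hj]; ring
    · right
      have : u * d ≤ j * (u * d) := Nat.le_mul_of_pos_left _ hj0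
      omega
  -- the remaining density
  set R : ℚ := 1 - 1 / ((n : ℚ) * (u * d)) - (dens C.U0 + dens (C.cent z₀)) with hR
  have hRval : R = 1 / 2 - 1 / (2 * (d : ℚ)) + 1 / ((u : ℚ) * d) - 1 / ((n : ℚ) * (u * d)) := by
    rw [hR, hUexp, hde₀]
    field_simp
    ring
  have h2d : 1 / (2 * (d : ℚ)) = 1 / (d : ℚ) / 2 := by ring
  have hRlo : 3 / 7 ≤ R := by rw [hRval, h2d]; linarith
  have hRhi : R < 1 / 2 := by
    rw [hRval, h2d]
    have : 1 / ((u : ℚ) * d) ≤ 1 / (d : ℚ) / 2 := by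
      rw [one_div, one_div, mul_inv, div_eq_mul_inv, mul_comm ((d : ℚ))⁻¹]
      exact mul_le_mul_of_nonneg_right (by
        rw [inv_le_inv₀ (by positivity) (by norm_num)]; linarith) (by positivity)
    linarith
  -- a first further torus
  obtain ⟨z₁, hz₁, hz₁S⟩ := hmore S₀ Set.subset_union_left (fun hall => by
    have e := hfull S₀ hall hS₀1
    rw [hS₀d] at e
    linarith)
  simp only [hS₀, Set.mem_union, not_or] at hz₁S
  set a := Nat.card (C.cent z₁) with ha
  obtain ⟨w₁, hw₁, hel₁, -, hde₁⟩ := C.cent_data hz₁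
  rw [← ha] at hde₁
  set S₁ := S₀ ∪ conjSet (C.cent z₁) with hS₁
  have hdis₁ : Disjoint S₀ (conjSet (C.cent z₁)) :=
    Set.disjoint_union_left.2 ⟨C.disjoint_U0 hz₁, C.cent_disjoint hz₀ hz₁ hz₁S.2⟩
  have hS₁1 : (1 : C.M) ∉ S₁ := by
    rintro (hx | hx)
    · exact hS₀1 hx
    · exact hne1 _ hx
  have hS₁d : (S₁.ncard : ℚ) / (Nat.card C.M : ℚ) =
      dens C.U0 + dens (C.cent z₀) + dens (C.cent z₁) := by
    rw [Set.ncard_union_eq hdis₁, Nat.cast_add, add_div, hS₀d]
    rfl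
  have ha3 : 3 ≤ a := hz₁.three_le C.h
  have haQ : (3 : ℚ) ≤ a := by exact_mod_cast ha3
  have hainv : 1 / (a : ℚ) ≤ 1 / 3 := one_div_le_one_div_of_le (by norm_num) haQ
  have hainv0 : 0 < 1 / (a : ℚ) := by positivity
  have hadvd : a ∣ n := C.cent_dvd_index hz₁ hz₀ hc₀ hz₁S.2
  have hQd : d + 1 = Q := by omega
  have hnear : n = u + 1 → C.orb = C.near := fun hnu => by
    have hfin : C.orb.Finite := (ovoid_finite C.h).subset fun p hp => C.orb_sub hp
    refine (Set.eq_of_subset_of_ncard_le (C.near_sub h0) ?_ hfin).symm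
    rw [C.near_card, C.orb_card, ← hn, ← hu, hnu]
  have hle₁ := hle S₁ hS₁1
  rw [hS₁d] at hle₁
  rcases hw₁ with rfl | rfl | ⟨rfl, -⟩
  · exfalso
    rw [hde₁, Nat.cast_one, div_one] at hle₁
    linarith
  · -- a single torus of index two
    have hall : ∀ x, x ≠ 1 → x ∈ S₁ := by
      by_contra hall
      obtain ⟨z, hz, hzS⟩ := hmore S₁ (Set.subset_union_left.trans Set.subset_union_left) hall
      simp only [hS₁, hS₀, Set.mem_union, not_or] at hzS
      have hdis : Disjoint S₁ (conjSet (C.cent z)) :=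
        Set.disjoint_union_left.2 ⟨Set.disjoint_union_left.2
          ⟨C.disjoint_U0 hz, C.cent_disjoint hz₀ hz hzS.1.2⟩, C.cent_disjoint hz₁ hz hzS.2⟩
      have e := hle (S₁ ∪ conjSet (C.cent z)) (by
        rintro (hx | hx)
        · exact hS₁1 hx
        · exact hne1 _ hx)
      rw [Set.ncard_union_eq hdis, Nat.cast_add, add_div, hS₁d, hde₁] at e
      have e2 := C.one_fifth_le hz
      rw [dens] at e2
      push_cast at e
      linarith
    have e := hfull S₁ hall hS₁1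
    rw [hS₁d, hde₁] at e
    have heq : 1 / (a : ℚ) = 1 / d - 2 / (u * d) + 2 / ((n : ℚ) * (u * d)) := by
      have e' : (1 - 1 / (a : ℚ)) / 2 = R := by rw [hR]; push_cast at e ⊢; linarith
      rw [hRval, h2d] at e'
      rw [show (2 : ℚ) / ((u : ℚ) * d) = 2 * (1 / ((u : ℚ) * d)) by ring,
        show (2 : ℚ) / ((n : ℚ) * (u * d)) = 2 * (1 / ((n : ℚ) * (u * d))) by ring]
      linarith
    obtain ⟨huQ', hnu⟩ := arith_two hQ8 hQd hucases ha3 hadvd hnodd hnn heq
    refine ⟨hnear hnu, Or.inl ?_⟩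
    rcases C.coord_cases with ⟨he, -⟩ | ⟨-, -, e'⟩
    · exact he
    · exfalso
      rw [← hu, ← hQdef] at e'
      have : 8 * Q ≤ Q * Q := Nat.mul_le_mul_right _ hQ8
      omega
  · -- two tori of index four
    have hnE : ¬ C.IsElem := fun he => hel₁ he rfl
    obtain ⟨hfullc, huQQ⟩ := (C.coord_cases.resolve_left fun h => hnE h.1).2
    obtain ⟨z₂, hz₂, hz₂S⟩ := hmore S₁ (Set.subset_union_left.trans Set.subset_union_left)
      (fun hall => by
        have e := hfull S₁ hall hS₁1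
        rw [hS₁d, hde₁] at e
        push_cast at e
        linarith)
    simp only [hS₁, hS₀, Set.mem_union, not_or] at hz₂S
    obtain ⟨w₂, hw₂, -, -, hde₂⟩ := C.cent_data hz₂
    set b := Nat.card (C.cent z₂) with hb
    have hb3 : 3 ≤ b := hz₂.three_le C.h
    have hbinv : 1 / (b : ℚ) ≤ 1 / 3 :=
      one_div_le_one_div_of_le (by norm_num) (by exact_mod_cast hb3)
    set S₂ := S₁ ∪ conjSet (C.cent z₂) with hS₂
    have hdis₂ : Disjoint S₁ (conjSet (C.cent z₂)) :=
      Set.disjoint_union_left.2 ⟨Set.disjoint_union_left.2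
        ⟨C.disjoint_U0 hz₂, C.cent_disjoint hz₀ hz₂ hz₂S.1.2⟩, C.cent_disjoint hz₁ hz₂ hz₂S.2⟩
    have hS₂1 : (1 : C.M) ∉ S₂ := by
      rintro (hx | hx)
      · exact hS₁1 hx
      · exact hne1 _ hx
    have hS₂d : (S₂.ncard : ℚ) / (Nat.card C.M : ℚ) =
        dens C.U0 + dens (C.cent z₀) + dens (C.cent z₁) + dens (C.cent z₂) := by
      rw [Set.ncard_union_eq hdis₂, Nat.cast_add, add_div, hS₁d]
      rfl
    have h15 : 1 / 5 ≤ dens (C.cent z₁) := C.one_fifth_le hz₁
    obtain rfl : w₂ = 4 := by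
      have e := hle S₂ hS₂1
      rw [hS₂d] at e
      rcases hw₂ with rfl | rfl | ⟨rfl, -⟩
      · exfalso
        rw [hde₂, Nat.cast_one, div_one] at e
        linarith
      · exfalso
        rw [hde₂] at e
        push_cast at e
        linarith
      · rfl
    have hall : ∀ x, x ≠ 1 → x ∈ S₂ := by
      by_contra hall
      obtain ⟨z, hz, hzS⟩ := hmore S₂
        ((Set.subset_union_left.trans Set.subset_union_left).trans Set.subset_union_left) hall
      simp only [hS₂, hS₁, hS₀, Set.mem_union, not_or] at hzS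
      have hdis : Disjoint S₂ (conjSet (C.cent z)) :=
        Set.disjoint_union_left.2 ⟨Set.disjoint_union_left.2 ⟨Set.disjoint_union_left.2
          ⟨C.disjoint_U0 hz, C.cent_disjoint hz₀ hz hzS.1.1.2⟩, C.cent_disjoint hz₁ hz hzS.1.2⟩,
          C.cent_disjoint hz₂ hz hzS.2⟩
      have e := hle (S₂ ∪ conjSet (C.cent z)) (by
        rintro (hx | hx)
        · exact hS₂1 hx
        · exact hne1 _ hx)
      rw [Set.ncard_union_eq hdis, Nat.cast_add, add_div, hS₂d] at e
      have e2 := C.one_fifth_le hz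
      rw [dens] at e2
      have e3 := C.one_fifth_le hz₂
      linarith
    have e := hfull S₂ hall hS₂1
    rw [hS₂d, hde₁, hde₂] at e
    have heq : 1 / (a : ℚ) + 1 / b = 2 / d - 4 / (u * d) + 4 / ((n : ℚ) * (u * d)) := by
      have e' : (1 - 1 / (a : ℚ)) / 4 + (1 - 1 / (b : ℚ)) / 4 = R := by
        rw [hR]; push_cast at e ⊢; linarith
      rw [hRval, h2d] at e'
      rw [show (2 : ℚ) / (d : ℚ) = 2 * (1 / (d : ℚ)) by ring,
        show (4 : ℚ) / ((u : ℚ) * d) = 4 * (1 / ((u : ℚ) * d)) by ring,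
        show (4 : ℚ) / ((n : ℚ) * (u * d)) = 4 * (1 / ((n : ℚ) * (u * d))) by ring]
      linarith
    have hbdvd : b ∣ n := C.cent_dvd_index hz₂ hz₀ hc₀ hz₂S.1.2
    have habdvd : a * b ∣ n :=
      (C.cent_coprime hz₁ hz₂ hz₂S.2).mul_dvd_of_dvd_of_dvd hadvd hbdvd
    have hoddc : ∀ z : C.M, IsTorusIn z → Odd (Nat.card (C.cent z)) := fun z hz =>
      Nat.odd_iff.2 (Nat.two_dvd_ne_zero.1 (hz.odd C.h))
    have hpow : ∀ i, 1 ≤ i → Even ((2 : ℕ) ^ i) := fun i hi => Nat.even_pow.2 ⟨even_two, by omega⟩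
    have hQe : Even Q := by rw [hQdef, C.hK.card]; exact hpow _ (by omega)
    have hQ2 : Even (Q / 2) := by
      rw [hQdef, C.hK.card, pow_succ, Nat.mul_div_cancel _ (by norm_num : 0 < 2)]
      exact hpow _ (by have := C.hK.pos; omega)
    have hnu : n = u + 1 := by
      rcases le_total a b with hab | hab
      · exact arith_four hQ8 hQd hQ2 hQe huQQ ha3 (hoddc z₁ hz₁) hab habdvd hnodd hnn heq
      · exact arith_four hQ8 hQd hQ2 hQe huQQ hb3 (hoddc z₂ hz₂) hab (mul_comm a b ▸ habdvd)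
          hnodd hnn (by rw [add_comm]; exact heq)
    exact ⟨hnear hnu, Or.inr hfullc⟩

/-- A normalised frame is the subfield subgroup. -/
theorem eq_range : C.M = (szMap C.φ C.hK C.hdiv C.h).range := by
  have := C.hK.finite
  obtain ⟨s, hs, horb, hdich⟩ := C.count
  have := C.h.charP
  -- the point `W'·U(0,1)·W'·∞` is in sight
  have hone : uE C.h 0 1 ∈ C.M := (C.norm.center_iff 1).2 ⟨1, map_one _⟩
  have hp : pt m ((sg m (s : F))⁻¹) 0 ∈ C.near := by
    rw [← horb]
    refine ⟨⟨_, C.M.mul_mem (C.M.mul_mem hs hone) hs⟩, ?_⟩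
    have hlam : lam m s ≠ 0 := lam_ne_zero s
    show (wE C.h * dE C.h s * uE C.h 0 1 * (wE C.h * dE C.h s) : G) • inf F = _
    rw [mul_smul, mul_smul (wE C.h) (dE C.h s) (inf F), ((mem_torus_iff C.h).1 ⟨s, rfl⟩).1,
      wE_smul_inf, mul_smul, uE_smul_pt, mul_smul]
    show W F • (D m s • pt m (0 + 0 : F) (0 + sg m (0 : F) * 0 + 1)) = _
    rw [D_smul_pt C.h]
    have hx : sg m (s : F) * (0 + 0 : F) = 0 := by ring
    have hy : sg m (s : F) * (s : F) ^ 2 * (0 + sg m (0 : F) * 0 + 1) = lam m s := by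
      simp [lam]
    rw [hx, hy, W_smul_pt C.h (Or.inr hlam), pt_eq_iff]
    refine ⟨?_, zero_div _⟩
    simp only [zf, sg_zero, zero_mul, zero_add, lam, sg_mul, sg_pow, C.h.sg_sg]
    have := sg_ne_zero (m := m) s.ne_zero
    have := s.ne_zero
    field_simp
  have hx0 : (sg m (s : F))⁻¹ ≠ 0 := inv_ne_zero (sg_ne_zero s.ne_zero)
  rcases hp with e | ⟨⟨x, y⟩, hxy, e⟩
  · exact absurd e (pt_ne_inf _ _)
  obtain ⟨e1, -⟩ := pt_eq_iff.1 e
  have hfull : ∀ a b : K, uE C.h (C.φ a) (C.φ b) ∈ C.M := by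
    rcases hdich with he | hall
    · exact absurd (e1.symm.trans (he _ _ hxy)) hx0
    · exact hall
  have hsr : (s : F) ∈ Set.range C.φ := by
    rw [mem_range_iff]
    apply C.h.sg_injective
    rw [sg_pow, ← inv_inj, ← inv_pow, ← e1]
    exact (mem_range_iff C.φ _).1 ⟨x, rfl⟩
  obtain ⟨s', hs'⟩ := hsr
  have hs0 : s' ≠ 0 := fun e => s.ne_zero (by rw [← hs', e, map_zero])
  have hS : Units.map C.φ.toMonoidHom (Units.mk0 s' hs0) = s := Units.ext hs'
  have hW : wE C.h ∈ C.M := by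
    have h2 := C.M.mul_mem hs (C.M.inv_mem (C.norm.torus_mem (Units.mk0 s' hs0)))
    rwa [hS, mul_inv_cancel_right] at h2
  have hrB : ∀ g ∈ C.M, g • inf F = inf F → g ∈ (szMap C.φ C.hK C.hdiv C.h).range := by
    intro g hg hgi
    obtain ⟨a, b, t, e, -⟩ := C.B0_mem (x := ⟨g, hg⟩) (C.mem_B0.2 hgi)
    refine ⟨uE C.hK a b * dE C.hK t, ?_⟩
    rw [map_mul, szMap_uE, szMap_dE]
    exact e.symm
  refine le_antisymm (fun g hg => ?_) ?_
  · by_cases hgi : g • inf F = inf F
    · exact hrB g hg hgi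
    have hgo : g • inf F ∈ C.near := horb ▸ ⟨⟨g, hg⟩, rfl⟩
    obtain ⟨⟨a, b⟩, -, hab⟩ := (Set.mem_insert_iff.1 hgo).resolve_left hgi
    have hab' : pt m (C.φ a) (C.φ b) = g • inf F := hab
    set r := uE C.h (C.φ a) (C.φ b) * wE C.h with hr
    have hrM : r ∈ C.M := C.M.mul_mem (hfull a b) hW
    have hrR : r ∈ (szMap C.φ C.hK C.hdiv C.h).range :=
      ⟨uE C.hK a b * wE C.hK, by rw [map_mul, szMap_uE, szMap_wE]⟩
    have h1 : (r⁻¹ * g) • inf F = inf F := by
      rw [mul_smul, inv_smul_eq_iff, hr, mul_smul, wE_smul_inf, uE_smul_pt, ← hab']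
      simp
    have h2 := mul_mem hrR (hrB _ (C.M.mul_mem (C.M.inv_mem hrM) hg) h1)
    rwa [mul_inv_cancel_left] at h2
  · rintro _ ⟨g, rfl⟩
    rcases decomp C.hK g with ⟨a, b, t, rfl⟩ | ⟨a, b, c, d, t, rfl⟩
    · rw [map_mul, szMap_uE, szMap_dE]
      exact C.M.mul_mem (hfull a b) (C.norm.torus_mem t)
    · rw [map_mul, map_mul, map_mul, szMap_uE, szMap_wE, szMap_uE, szMap_dE]
      exact C.M.mul_mem (C.M.mul_mem (C.M.mul_mem (hfull a b) hW) (hfull c d)) (C.norm.torus_mem t)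

end Cfg

/-- A non-solvable subgroup is conjugate to a subfield group. -/
theorem nonsolvable_cases (h : IsSzField F m) {M : Subgroup (SzG F m)}
    (hM : ¬ Group.IsSolvable M) :
    ∃ (j : ℕ) (hj : 1 ≤ j) (hdiv : 2 * j + 1 ∣ 2 * m + 1)
      (φ : GaloisField 2 (2 * j + 1) →+* F) (c : SzG F m),
      conjBy c M = (szMap φ (galoisField_isSzField hj) hdiv h).range := by
  obtain ⟨c₀, hc₀⟩ := exists_frame h hM
  obtain ⟨j, hj, hdiv, φ, c, hF, hN⟩ := hc₀.normalise h
  refine ⟨j, hj, hdiv, φ, c * c₀, ?_⟩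
  rw [← conjBy_conjBy]
  exact Cfg.eq_range ⟨h, galoisField_isSzField hj, hdiv, φ, _, hF, hN⟩

/-- The subgroups of a Suzuki group. -/
theorem subgroup_cases (h : IsSzField F m) (M : Subgroup (SzG F m)) :
    (∃ p ∈ Cfsg.suzukiOvoid F m, ∀ n ∈ M, n • p = p) ∨
    (∃ A : Subgroup (SzG F m), IsCyclic A ∧ Nat.card A ∈ torusOrders m ∧
      M ≤ Subgroup.normalizer (A : Set (SzG F m))) ∨
    (∃ (j : ℕ) (hj : 1 ≤ j) (hdiv : 2 * j + 1 ∣ 2 * m + 1)
      (φ : GaloisField 2 (2 * j + 1) →+* F) (c : SzG F m),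
      conjBy c M = (szMap φ (galoisField_isSzField hj) hdiv h).range) := by
  by_cases hs : Group.IsSolvable M
  · exact (solvable_subgroup_cases h hs).imp id Or.inl
  · exact Or.inr (Or.inr (nonsolvable_cases h hs))

end CfsgLib.Suzuki
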