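/-
Suzuki group: packaging of the subgroup theorem.
-/
import Cfsg.Agent.Suzuki.Subgroups

set_option autoImplicit false

namespace CfsgLib.Suzuki

variable {F : Type*} [Field F] {m : ℕ}

local notation "G" => SzG F m

variable (h : IsSzField F m)
include h

theorem card_range_szMap {K : Type*} [Field K] {k : ℕ} (φ : K →+* F) (hK : IsSzField K k)
    (hdiv : 2 * k + 1 ∣ 2 * m + 1) :
    Nat.card (szMap φ hK hdiv h).range =
      Nat.card K ^ 2 * (Nat.card K ^ 2 + 1) * (Nat.card K - 1) := by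
  rw [← Nat.card_congr (MonoidHom.ofInjective (szMap_injective φ hK hdiv h)).toEquiv, card_Sz hK]

theorem range_szMap_eq_top {K : Type*} [Field K] (φ : K →+* F) (hK : IsSzField K m)
    (hdiv : 2 * m + 1 ∣ 2 * m + 1) : (szMap φ hK hdiv h).range = ⊤ := by
  have := finite_G h
  refine Subgroup.eq_top_of_card_eq _ ?_
  rw [card_range_szMap h φ hK hdiv, card_Sz h, hK.card, h.card]

theorem conjBy_eq_top {c : G} {M : Subgroup G} (e : conjBy c M = ⊤) : M = ⊤ := by
  rw [eq_top_iff]
  intro x _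
  have hx : c * x * c⁻¹ ∈ conjBy c M := e ▸ Subgroup.mem_top _
  rw [mem_conjBy] at hx
  rwa [show c⁻¹ * (c * x * c⁻¹) * c = x by group] at hx

/-- A point stabiliser is the normaliser of a Sylow 2-subgroup. -/
theorem exists_sylow_normalizer {p : Projectivization F (Fin 4 → F)}
    (hp : p ∈ Cfsg.suzukiOvoid F m) :
    ∃ P : Sylow 2 G, Subgroup.normalizer ((P : Subgroup G) : Set G) =
      MulAction.stabilizer G p := by
  have := finite_G h
  have : Fact (Nat.Prime 2) := ⟨Nat.prime_two⟩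
  obtain ⟨c, hc, hcp⟩ := exists_move h hp
  set c' : G := ⟨c, hc⟩
  refine ⟨c' • unipSylow h, ?_⟩
  have e : ((c' • unipSylow h : Sylow 2 G) : Subgroup G) = conjBy c' (unip h) := rfl
  rw [e, conjBy, ← Subgroup.map_equiv_normalizer_eq (unip h) (MulAut.conj c'), normalizer_unip]
  have hp' : c' • inf F = p := hcp
  ext x
  rw [Subgroup.mem_map_equiv, MulAut.conj_symm_apply, mem_borel_iff, MulAction.mem_stabilizer_iff,
    mul_smul, mul_smul, hp', inv_smul_eq_iff, hp']

/-- A proper subgroup lies in one of the standard subgroups. -/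
theorem proper_subgroup_cases {M : Subgroup G} (hM : M ≠ ⊤) :
    (∃ P : Sylow 2 G, M ≤ Subgroup.normalizer ((P : Subgroup G) : Set G)) ∨
    (∃ A : Subgroup G, IsCyclic A ∧ Nat.card A ∈ torusOrders m ∧
      M ≤ Subgroup.normalizer (A : Set G)) ∨
    (∃ (j : ℕ) (hj : 1 ≤ j) (hdiv : 2 * j + 1 ∣ 2 * m + 1)
      (φ : GaloisField 2 (2 * j + 1) →+* F) (c : G), j < m ∧
      conjBy c M = (szMap φ (galoisField_isSzField hj) hdiv h).range) := by
  rcases subgroup_cases h M with ⟨p, hp, hfix⟩ | hA | ⟨j, hj, hdiv, φ, c, e⟩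
  · obtain ⟨P, hP⟩ := exists_sylow_normalizer h hp
    exact Or.inl ⟨P, fun x hx => hP ▸ hfix x hx⟩
  · exact Or.inr (Or.inl hA)
  · refine Or.inr (Or.inr ⟨j, hj, hdiv, φ, c, ?_, e⟩)
    rcases Nat.lt_or_ge j m with hlt | hge
    · exact hlt
    · exfalso
      obtain rfl : j = m := by
        have := Nat.le_of_dvd (by omega) hdiv
        omega
      exact hM (conjBy_eq_top h (e.trans (range_szMap_eq_top h φ _ hdiv)))

end CfsgLib.Suzuki
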