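/-
Suzuki group: cyclic tori as centralisers, two-generation.
-/
import Cfsg.Agent.Suzuki.Maximals

set_option autoImplicit false

namespace CfsgLib.Suzuki

variable {F : Type*} [Field F] {m : ℕ}

local notation "G" => SzG F m

variable (h : IsSzField F m)
include h

/-- A cyclic subgroup of torus order is the centraliser of each of its non-identity elements. -/
theorem cyclic_torus_eq {A : Subgroup G} (hA : IsCyclic A) (hk : Nat.card A ∈ torusOrders m)
    {z : G} (hz : z ∈ A) (hz1 : z ≠ 1) :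
    IsTorusElt z ∧ Subgroup.centralizer ({z} : Set G) = A := by
  have := finite_G h
  have hzA : orderOf z ∣ Nat.card A := Subgroup.orderOf_dvd_natCard A hz
  rcases unip_or_torusElt h hz1 with ⟨c, hc⟩ | hT
  · exfalso
    have h1 := orderOf_dvd_of_mem_unip h hc
    rw [orderOf_conj_eq] at h1
    have hcop : Nat.Coprime (2 ^ ((2 * m + 1) * 2)) (Nat.card A) :=
      Nat.Coprime.pow_left _ ((Nat.prime_two.coprime_iff_not_dvd).2 (torusOrders_odd h hk))
    exact hz1 (orderOf_eq_one_iff.1 (Nat.eq_one_of_dvd_coprimes hcop h1 hzA))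
  refine ⟨hT, ?_⟩
  let : CommGroup A := hA.commGroup
  have hle : A ≤ Subgroup.centralizer ({z} : Set G) := fun x hx => by
    rw [Subgroup.mem_centralizer_singleton_iff]
    exact congrArg Subtype.val (mul_comm (⟨x, hx⟩ : A) ⟨z, hz⟩)
  refine (Subgroup.eq_of_le_of_card_ge hle (le_of_eq ?_)).symm
  by_contra hne
  have hcop := torusOrders_coprime h hk hT.2.2 (fun e => hne e.symm)
  exact hz1 (orderOf_eq_one_iff.1 (Nat.eq_one_of_dvd_coprimes hcop hzA
    (Subgroup.orderOf_dvd_natCard _ (Subgroup.mem_centralizer_singleton_iff.2 rfl))))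

theorem one_lt_of_torusOrders {k : ℕ} (hk : k ∈ torusOrders m) : 5 ≤ k := by
  have h1 := h.four_le
  have h2 : 2 ^ (m + 1) * 2 ≤ 2 ^ (2 * m + 1) := by
    rw [← pow_succ]
    exact Nat.pow_le_pow_right (by norm_num) (by have := h.pos; omega)
  simp only [torusOrders, Set.mem_insert_iff, Set.mem_singleton_iff] at hk
  rcases hk with rfl | rfl | rfl <;> omega

theorem torus_normalizer_card {A : Subgroup G} (hA : IsCyclic A)
    (hk : Nat.card A ∈ torusOrders m) :
    ∃ w, (w = 2 ∨ w = 4 ∧ Nat.card A ∣ Nat.card F ^ 2 + 1) ∧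
      Nat.card (Subgroup.normalizer (A : Set G)) = w * Nat.card A := by
  have h5 := one_lt_of_torusOrders h hk
  obtain ⟨z, hz, hz1⟩ : ∃ z ∈ A, z ≠ 1 := by
    by_contra hc
    simp only [not_exists, not_and, not_not] at hc
    rw [Subgroup.card_eq_one.2 ((Subgroup.eq_bot_iff_forall _).2 hc)] at h5
    omega
  obtain ⟨hT, hC⟩ := cyclic_torus_eq h hA hk hz hz1
  have := hT.normalizer_card h
  rwa [hC] at this

/-- Two-generation. -/
theorem exists_two_generators : ∃ a b : G, Subgroup.closure ({a, b} : Set G) = ⊤ := by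
  have := finite_G h
  have := h.finite
  have := isCyclic_torus h
  obtain ⟨⟨a, ha⟩, hao⟩ := IsCyclic.exists_ofOrder_eq_natCard (α := torus h)
  rw [Subgroup.orderOf_mk, card_torus, h.card] at hao
  obtain ⟨A, -, hA, -, hAc, -⟩ := exists_fpf_tori h
  obtain ⟨b, hb, hb1, hbo⟩ := hA.exists_generator h
  rw [hAc] at hbo
  refine ⟨a, b, ?_⟩
  set M := Subgroup.closure ({a, b} : Set G)
  have haM : a ∈ M := Subgroup.subset_closure (Set.mem_insert _ _)
  have hbM : b ∈ M := Subgroup.subset_closure (Set.mem_insert_of_mem _ rfl)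
  have hbf : IsFpf b := hA.isFpf h hb hb1
  have hq1 : 2 ^ (2 * m + 1) - 1 ∈ torusOrders m := Set.mem_insert _ _
  have hqs : 2 ^ (2 * m + 1) + 2 ^ (m + 1) + 1 ∈ torusOrders m :=
    Set.mem_insert_of_mem _ (Set.mem_insert _ _)
  by_contra hne
  rcases subgroup_cases h M with ⟨p, hp, hfix⟩ | ⟨B, hBc, hBk, hMB⟩ | ⟨j, hj, hdiv, φ, c, e⟩
  · exact hbf p hp (hfix b hbM)
  · obtain ⟨w, hw, hN⟩ := torus_normalizer_card h hBc hBk
    have key : ∀ g ∈ M, ∀ k ∈ torusOrders m, orderOf g = k → k = Nat.card B := by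
      intro g hg k hk hgo
      by_contra hne'
      have h1 := Subgroup.orderOf_dvd_natCard _ (hMB hg)
      rw [hN, hgo] at h1
      have h4 : k ∣ 4 := by
        have h3 := (torusOrders_coprime h hk hBk hne').dvd_of_dvd_mul_right h1
        rcases hw with rfl | ⟨rfl, -⟩
        · exact h3.trans (by norm_num)
        · exact h3
      have := Nat.le_of_dvd (by norm_num) h4
      have := one_lt_of_torusOrders h hk
      omega
    have h1 := key a haM _ hq1 hao
    have h2 := key b hbM _ hqs hbo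
    have e2 : 2 ^ (2 * m + 1) + 2 ^ (m + 1) + 1 = 2 ^ (2 * m + 1) - 1 := h2.trans h1.symm
    have h8 : 2 ^ (2 * m + 1) - 1 ≤ 2 ^ (2 * m + 1) := Nat.sub_le _ _
    rw [← e2] at h8
    have := Nat.one_le_two_pow (n := m + 1)
    omega
  · have hK := galoisField_isSzField hj
    rcases Nat.lt_or_ge j m with hlt | hge
    · have h1 : orderOf a ∣ Nat.card (conjBy c M) := by
        rw [conjBy, Subgroup.card_map_of_injective (MulAut.conj c).injective]
        exact Subgroup.orderOf_dvd_natCard _ haM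
      rw [e, card_range_szMap h φ hK hdiv, hao, hK.card] at h1
      set Q := 2 ^ (2 * j + 1) with hQ
      have hQ2 : 2 ≤ Q := by
        calc 2 = 2 ^ 1 := rfl
          _ ≤ Q := Nat.pow_le_pow_right (by norm_num) (by omega)
      have hcop : Nat.Coprime (2 ^ (2 * m + 1) - 1) (Q ^ 2) := by
        rw [hQ, ← pow_mul]
        exact Nat.Coprime.pow_right _
          ((Nat.prime_two.coprime_iff_not_dvd).2 (torusOrders_odd h hq1)).symm
      rw [mul_assoc] at h1
      have h2 := hcop.dvd_of_dvd_mul_left h1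
      have hpos : 0 < (Q ^ 2 + 1) * (Q - 1) := Nat.mul_pos (by omega) (by omega)
      have h3 := Nat.le_of_dvd hpos h2
      obtain ⟨i, hi⟩ := exponent_congr hdiv
      have hi0 : i ≠ 0 := by rintro rfl; omega
      have h4 : Q ^ 3 ≤ 2 ^ (2 * m + 1) := by
        rw [hQ, ← pow_mul]
        refine Nat.pow_le_pow_right (by norm_num) ?_
        have : (2 * j + 1) * 1 ≤ (2 * j + 1) * i := Nat.mul_le_mul_left _ (by omega)
        omega
      have h5 : (Q ^ 2 + 1) * (Q - 1) + Q ^ 2 + 1 = Q ^ 3 + Q := by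
        obtain ⟨r, hr⟩ : ∃ r, Q = r + 1 := ⟨Q - 1, by omega⟩
        rw [hr, Nat.add_sub_cancel]
        ring
      have h6 : 2 * Q ≤ Q ^ 2 := by rw [pow_two]; exact Nat.mul_le_mul_right _ hQ2
      omega
    · obtain rfl : j = m := by
        have := Nat.le_of_dvd (by omega) hdiv
        omega
      exact hne (conjBy_eq_top h (e.trans (range_szMap_eq_top h φ _ hdiv)))

end CfsgLib.Suzuki
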