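/-
Suzuki group: subgroups giving coset actions of fixity two.
-/
import Cfsg.Agent.Suzuki.Generation

set_option autoImplicit false

namespace CfsgLib.Suzuki

variable {F : Type*} [Field F] {m : ℕ}

local notation "G" => SzG F m

/-- The elements carrying `g` into `H`. -/
def carrySet (g : SzG F m) (H : Subgroup (SzG F m)) : Set (SzG F m) := {x | x⁻¹ * g * x ∈ H}

/-- The coset action on `H` has fixity at most two. -/
def FixityTwo (H : Subgroup (SzG F m)) : Prop :=
  ∀ g : SzG F m, g ≠ 1 → (carrySet g H).ncard ≤ 2 * Nat.card H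

variable (h : IsSzField F m)
include h

theorem exists_lam_eq {b : F} (hb : b ≠ 0) : ∃ t : Fˣ, lam m t = b := by
  have := h.finite
  have hsurj : Function.Surjective (fun t : Fˣ => Units.mk0 (lam m t) (lam_ne_zero t)) :=
    Finite.injective_iff_surjective.mp fun s t e => lam_injective h (congrArg Units.val e)
  obtain ⟨t, ht⟩ := hsurj (Units.mk0 b hb)
  exact ⟨t, congrArg Units.val ht⟩

/-- All involutions are conjugate. -/
theorem involution_to_std {g : G} (hg : g ≠ 1) (hgg : g * g = 1) :
    ∃ c : G, c * g * c⁻¹ = uE h 0 1 := by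
  obtain ⟨c, hc⟩ := involution_conj_unip hgg h
  obtain ⟨a, b, e⟩ := exists_uE h hc
  have ha : a = 0 := by
    refine sq_eq_one_cases h (b := b) ?_
    rw [← e, show c⁻¹ * g * c * (c⁻¹ * g * c) = c⁻¹ * (g * g) * c by group, hgg, mul_one,
      inv_mul_cancel]
  subst ha
  have hb : b ≠ 0 := fun hb => hg (by
    rw [hb, uE_zero] at e
    calc g = c * (c⁻¹ * g * c) * c⁻¹ := by group
      _ = 1 := by rw [e]; group)
  obtain ⟨t, ht⟩ := exists_lam_eq h (inv_ne_zero hb)
  refine ⟨dE h t * c⁻¹, ?_⟩
  rw [show dE h t * c⁻¹ * g * (dE h t * c⁻¹)⁻¹ = dE h t * (c⁻¹ * g * c) * (dE h t)⁻¹ by group, e,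
    dE_conj, mul_zero]
  congr 1
  show lam m t * b = 1
  rw [ht, inv_mul_cancel₀ hb]

/-- A lower bound for the carrying set of an involution. -/
theorem carry_bound {H : Subgroup G} {J : Set G} (hJ : ∀ x ∈ J, x ∈ H ∧ x ≠ 1 ∧ x * x = 1) :
    J.ncard * Nat.card F ^ 2 ≤ (carrySet (uE h 0 1) H).ncard := by
  have := finite_G h
  have hn : ∀ x : J, ∃ n : G, n⁻¹ * uE h 0 1 * n = x.1 := by
    intro x
    obtain ⟨c, hc⟩ := involution_to_std h (hJ _ x.2).2.1 (hJ _ x.2).2.2
    exact ⟨c, by rw [← hc]; group⟩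
  choose n hn using hn
  rw [← card_unip h, ← Nat.card_coe_set_eq J, ← Nat.card_prod,
    ← Nat.card_coe_set_eq (carrySet (uE h 0 1) H)]
  have hcomm : ∀ u : unip h, (u : G)⁻¹ * uE h 0 1 * (u : G) = uE h 0 1 := by
    intro u
    obtain ⟨a, b, e⟩ := exists_uE h u.2
    have hc : uE h 0 1 * (u : G) = (u : G) * uE h 0 1 := by
      rw [e, uE_mul, uE_mul]
      simp [add_comm]
    rw [mul_assoc, hc, inv_mul_cancel_left]
  have hkey : ∀ (x : J) (u : unip h), ((u : G) * n x)⁻¹ * uE h 0 1 * ((u : G) * n x) = x.1 := by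
    intro x u
    rw [show ((u : G) * n x)⁻¹ * uE h 0 1 * ((u : G) * n x) =
      (n x)⁻¹ * ((u : G)⁻¹ * uE h 0 1 * (u : G)) * n x by group, hcomm, hn]
  have hmem : ∀ (x : J) (u : unip h), (u : G) * n x ∈ carrySet (uE h 0 1) H := fun x u => by
    show ((u : G) * n x)⁻¹ * uE h 0 1 * ((u : G) * n x) ∈ H
    rw [hkey x u]
    exact (hJ _ x.2).1
  refine Nat.card_le_card_of_injective
    (fun p : J × unip h => (⟨(p.2 : G) * n p.1, hmem p.1 p.2⟩ : carrySet (uE h 0 1) H)) ?_
  rintro ⟨x, u⟩ ⟨y, v⟩ e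
  have e' : (u : G) * n x = (v : G) * n y := congrArg Subtype.val e
  obtain rfl : x = y := Subtype.ext (by rw [← hkey x u, ← hkey y v, e'])
  rw [Subtype.ext (mul_right_cancel e')]

theorem uE_one_ne : uE h (0 : F) 1 ≠ 1 := fun e => one_ne_zero ((uE_eq_one h).1 e).2

theorem sq_ge : 64 ≤ Nat.card F ^ 2 := by
  rw [h.card, ← pow_mul]
  exact le_trans (by norm_num : 64 ≤ 2 ^ 6)
    (Nat.pow_le_pow_right (by norm_num) (by have := h.pos; omega))

omit h in
theorem carrySet_conj (g c : G) (H : Subgroup G) :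
    (carrySet g (conjBy c H)).ncard = (carrySet g H).ncard := by
  have e : carrySet g (conjBy c H) = (fun x => x * c⁻¹) '' carrySet g H := by
    ext x
    constructor
    · intro hx
      refine ⟨x * c, ?_, mul_inv_cancel_right x c⟩
      show (x * c)⁻¹ * g * (x * c) ∈ H
      have hx' : c⁻¹ * (x⁻¹ * g * x) * c ∈ H := mem_conjBy.1 hx
      rwa [show (x * c)⁻¹ * g * (x * c) = c⁻¹ * (x⁻¹ * g * x) * c by group]
    · rintro ⟨y, hy, rfl⟩
      show (y * c⁻¹)⁻¹ * g * (y * c⁻¹) ∈ conjBy c H
      rw [mem_conjBy, show c⁻¹ * ((y * c⁻¹)⁻¹ * g * (y * c⁻¹)) * c = y⁻¹ * g * y by group]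
      exact hy
  rw [e, Set.ncard_image_of_injective _ (mul_left_injective c⁻¹)]

omit h in
theorem card_conjBy (c : G) (H : Subgroup G) : Nat.card (conjBy c H) = Nat.card H :=
  Subgroup.card_map_of_injective (MulAut.conj c).injective

omit h in
theorem fixityTwo_conj {H : Subgroup G} (hH : FixityTwo H) (c : G) : FixityTwo (conjBy c H) :=
  fun g hg => by rw [carrySet_conj, card_conjBy]; exact hH g hg

theorem fixity_inf {H : Subgroup G} (hH : FixityTwo H) (hB : H ≤ borel F m)
    (hinv : ∃ g ∈ H, g ≠ 1 ∧ g * g = 1) : H = borel F m := by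
  have := h.finite
  have := finite_G h
  have hfin : 2 < Nat.card F := by
    have := h.sigma_add_two_lt
    have := h.four_le
    rw [h.card]
    omega
  set Z := centerCoords h H
  -- involutions of `H`
  have hZ : ∀ b, b ∈ Z → b ≠ 0 → uE h 0 b ∈ H ∧ uE h 0 b ≠ 1 ∧ uE h 0 b * uE h 0 b = 1 :=
    fun b hb hb0 => ⟨hb, fun e => hb0 ((uE_eq_one h).1 e).2, by rw [uE_sq]; simp [uE_zero]⟩
  obtain ⟨b₀, hb₀, hb₀Z⟩ : ∃ b, b ≠ 0 ∧ b ∈ Z := by
    obtain ⟨g, hgH, hg1, hgg⟩ := hinv
    obtain ⟨a, b, t, e⟩ := (mem_stab_inf h).1 (hB hgH)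
    have ht : t = 1 := by
      have h3 : chi h ⟨g, hB hgH⟩ * chi h ⟨g, hB hgH⟩ = 1 := by
        rw [← map_mul, show (⟨g, hB hgH⟩ * ⟨g, hB hgH⟩ : borel F m) = 1 from Subtype.ext hgg,
          map_one]
      have h4 : chi h ⟨g, hB hgH⟩ = t := by
        apply Units.ext
        show g.1.val 1 1 = (t : F)
        rw [e]
        simp [Subgroup.coe_mul, Matrix.mul_apply, Fin.sum_univ_four, Umat, Dmat]
      rw [h4] at h3
      have := h.charP
      exact Units.ext (CharTwo.sq_inj.1 (by
        rw [Units.val_one, one_pow, pow_two, ← Units.val_mul, h3, Units.val_one]))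
    rw [ht, map_one, mul_one] at e
    have ha := sq_eq_one_cases h (b := b) (e ▸ hgg)
    subst ha
    exact ⟨b, fun hb => hg1 (by rw [e, hb, uE_zero]), show uE h 0 b ∈ H from e ▸ hgH⟩
  set X : Set Fˣ := {t | (t : F) ∈ Z} with hX
  set L := (torusCoords h H).map
    ({ toFun := fun t => Units.mk0 (lam m t) (lam_ne_zero t)
       map_one' := Units.ext (by simp [lam])
       map_mul' := fun s t => Units.ext (lam_mul s t) } : Fˣ →* Fˣ) with hL
  have hLc : Nat.card L = Nat.card (torusCoords h H) :=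
    Subgroup.card_map_of_injective fun s t e => lam_injective h (congrArg Units.val e)
  have hdvd : Nat.card L ∣ X.ncard := by
    refine card_dvd_ncard_of_free (Γ := L) ?_ ?_
    · rintro ⟨l, t, ht, rfl⟩ x hx
      exact lam_smul_mem h ht hx
    · rintro ⟨l, hl⟩ x _ e
      have e' : l * x = x := e
      exact Subtype.ext (mul_eq_right.1 e')
  rw [hLc] at hdvd
  have hXpos : 0 < X.ncard := (Set.ncard_pos (Set.toFinite _)).2 ⟨Units.mk0 b₀ hb₀, hb₀Z⟩
  -- the carrying set of the standard involution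
  have hbound : X.ncard * Nat.card F ^ 2 ≤ 2 * Nat.card H := by
    refine le_trans ?_ (hH _ (uE_one_ne h))
    refine le_trans ?_ (carry_bound h (J := (fun t : Fˣ => uE h 0 (t : F)) '' X) ?_)
    · rw [Set.ncard_image_of_injective]
      intro s t e
      exact Units.ext (uE_inj h e).2
    · rintro _ ⟨t, ht, rfl⟩
      exact hZ _ ht t.ne_zero
  -- the order of `H`
  let χ : H →* Fˣ := (chi h).comp (Subgroup.inclusion hB)
  have hker : Nat.card χ.ker ≤ Nat.card (H ⊓ unip h : Subgroup G) := by
    refine Nat.card_le_card_of_injective (fun x : χ.ker => ⟨(x.1 : G), Subgroup.mem_inf.2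
      ⟨x.1.2, mem_unip_of_chi h (MonoidHom.mem_ker.1 x.2)⟩⟩) ?_
    intro x y e
    exact Subtype.ext (Subtype.ext (congrArg (fun z : (H ⊓ unip h : Subgroup G) => (z : G)) e))
  have hrange : χ.range ≤ torusCoords h H := by
    rintro _ ⟨x, rfl⟩
    obtain ⟨a, b, t, e⟩ := (mem_stab_inf h).1 (hB x.2)
    have h4 : χ x = t := by
      apply Units.ext
      show (x : G).1.val 1 1 = (t : F)
      rw [e]
      simp [Subgroup.coe_mul, Matrix.mul_apply, Fin.sum_univ_four, Umat, Dmat]
    rw [h4]
    exact ⟨a, b, e ▸ x.2⟩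
  have hcard : Nat.card H ≤ Nat.card (H ⊓ unip h : Subgroup G) * Nat.card (torusCoords h H) := by
    rw [← χ.ker.card_mul_index, Subgroup.index_ker]
    exact Nat.mul_le_mul hker (Subgroup.card_le_of_le hrange)
  set u := Nat.card (H ⊓ unip h : Subgroup G) with hu
  set d := Nat.card (torusCoords h H) with hd
  obtain ⟨c, hc⟩ := hdvd
  have hd0 : 0 < d := Nat.card_pos
  have hc0 : 0 < c := by
    rw [hc] at hXpos
    exact pos_of_mul_pos_right hXpos (Nat.zero_le _)
  have hcu : c * Nat.card F ^ 2 ≤ 2 * u := by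
    have e1 : d * (c * Nat.card F ^ 2) ≤ d * (2 * u) := by
      calc d * (c * Nat.card F ^ 2) = X.ncard * Nat.card F ^ 2 := by rw [hc]; ring
        _ ≤ 2 * (u * d) := hbound.trans (Nat.mul_le_mul_left _ hcard)
        _ = d * (2 * u) := by ring
    exact Nat.le_of_mul_le_mul_left e1 hd0
  have hule : u ≤ Nat.card F ^ 2 := by
    rw [hu, ← card_unip h]
    exact Subgroup.card_le_of_le inf_le_right
  have hq2 : 0 < Nat.card F ^ 2 := by positivity
  have hc2 : c ≤ 2 := Nat.le_of_mul_le_mul_right (hcu.trans (Nat.mul_le_mul_left _ hule)) hq2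
  have hXle : X.ncard ≤ Nat.card F - 1 := by
    rw [← Nat.card_units]
    exact (Set.ncard_le_ncard (Set.subset_univ _)).trans (le_of_eq (Set.ncard_univ _))
  have hdq : d ∣ Nat.card F - 1 := by
    rw [hd, ← Nat.card_units]
    exact Subgroup.card_subgroup_dvd_card _
  obtain ⟨r, hr⟩ := hdq
  have hqodd : ¬ 2 ∣ Nat.card F - 1 := by
    rw [h.card]
    exact torusOrders_odd h (Set.mem_insert _ _)
  have hr2 : r ≠ 2 := fun e => hqodd (hr ▸ e ▸ Dvd.intro_left _ rfl)
  have hr0 : r ≠ 0 := by
    rintro rfl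
    rw [mul_zero] at hr
    omega
  -- first coordinates
  let al : (H ⊓ unip h : Subgroup G) →* Multiplicative F :=
    (alpha h).comp (Subgroup.inclusion inf_le_right)
  have halu : u ≤ Nat.card F * (X.ncard + 1) := by
    have h1 : Nat.card al.ker ≤ X.ncard + 1 := by
      classical
      have hmem : ∀ x : al.ker, ∃ b, b ∈ Z ∧ ((x.1 : (H ⊓ unip h : Subgroup G)) : G) = uE h 0 b := by
        intro x
        obtain ⟨a, b, e⟩ := exists_uE h (Subgroup.mem_inf.1 x.1.2).2
        have ha : a = 0 := by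
          have := congrArg Multiplicative.toAdd (MonoidHom.mem_ker.1 x.2)
          simpa [al, alpha, e, Umat] using this
        subst ha
        exact ⟨b, show uE h 0 b ∈ H from e ▸ (Subgroup.mem_inf.1 x.1.2).1, e⟩
      choose bf hbf hbf' using hmem
      refine le_trans (Nat.card_le_card_of_injective (fun x : al.ker =>
        (⟨bf x, hbf x⟩ : Z)) ?_) ?_
      · intro x y e
        have e' : bf x = bf y := congrArg Subtype.val e
        exact Subtype.ext (Subtype.ext (by rw [hbf' x, hbf' y, e']))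
      · have e : (Z : Set F) ⊆ insert 0 (Units.val '' X) := by
          intro b hb
          by_cases hb0 : b = 0
          · exact Or.inl hb0
          · exact Or.inr ⟨Units.mk0 b hb0, hb, rfl⟩
        calc Nat.card Z = (Z : Set F).ncard := Nat.card_coe_set_eq _
          _ ≤ (insert 0 (Units.val '' X)).ncard := Set.ncard_le_ncard e (Set.toFinite _)
          _ ≤ X.ncard + 1 := (Set.ncard_insert_le _ _).trans
              (Nat.add_le_add_right (Set.ncard_image_le (Set.toFinite _)) _)
    rw [hu, ← al.ker.card_mul_index, Subgroup.index_ker, mul_comm]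
    exact Nat.mul_le_mul ((Nat.card_le_card_of_injective _ Subtype.val_injective).trans
      (le_of_eq (Nat.card_congr Multiplicative.toAdd))) h1
  have hq_le : Nat.card F ≤ 2 * (X.ncard + 1) := by
    have h1 : Nat.card F ^ 2 ≤ 2 * u := le_trans (Nat.le_mul_of_pos_left _ hc0) hcu
    have e1 : Nat.card F * Nat.card F ≤ Nat.card F * (2 * (X.ncard + 1)) := by
      calc Nat.card F * Nat.card F = Nat.card F ^ 2 := (pow_two _).symm
        _ ≤ 2 * (Nat.card F * (X.ncard + 1)) := h1.trans (Nat.mul_le_mul_left _ halu)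
        _ = Nat.card F * (2 * (X.ncard + 1)) := by ring
    exact Nat.le_of_mul_le_mul_left e1 (by omega)
  have hq8 : 8 ≤ Nat.card F := by
    rw [h.card]
    exact le_trans (by norm_num : 8 ≤ 2 ^ 3)
      (Nat.pow_le_pow_right (by norm_num) (by have := h.pos; omega))
  -- the torus coordinates fill up
  have hdfull : d = Nat.card F - 1 := by
    by_contra hne
    have hr1 : r ≠ 1 := fun e => hne (by rw [hr, e, mul_one])
    have hr5 : 3 ≤ r := by omega
    have h3 : d * 3 ≤ Nat.card F - 1 := hr ▸ Nat.mul_le_mul_left _ hr5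
    rcases (show c = 1 ∨ c = 2 by omega) with rfl | rfl
    · omega
    · -- then `U ≤ H`, so the centre is full
      have hu2 : Nat.card F ^ 2 ≤ u := by omega
      have heq : (H ⊓ unip h : Subgroup G) = unip h :=
        Subgroup.eq_of_le_of_card_ge inf_le_right (by rw [card_unip]; exact hu2)
      have hall : ∀ t : Fˣ, t ∈ X := fun t =>
        (Subgroup.mem_inf.1 (heq.symm ▸ uE_mem h 0 (t : F) : uE h 0 (t : F) ∈ H ⊓ unip h)).1
      have : X.ncard = Nat.card F - 1 := by
        rw [Set.eq_univ_of_forall hall, Set.ncard_univ, Nat.card_units]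
      omega
  have hTtop : torusCoords h H = ⊤ := Subgroup.eq_top_of_card_eq _ (by rw [← hd, hdfull, Nat.card_units])
  have hZall : ∀ b, uE h 0 b ∈ H := by
    intro b
    by_cases hb : b = 0
    · rw [hb, uE_zero]; exact H.one_mem
    obtain ⟨t, ht⟩ := exists_lam_eq h (b := b / b₀) (div_ne_zero hb hb₀)
    have := lam_smul_mem h (show t ∈ torusCoords h H by rw [hTtop]; trivial) hb₀Z
    rw [ht, div_mul_cancel₀ _ hb₀] at this
    exact this
  obtain ⟨a₁, b₁, hab₁, ha₁⟩ : ∃ a b, uE h a b ∈ H ∧ a ≠ 0 := by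
    by_contra hcon
    simp only [not_exists, not_and, not_not] at hcon
    have h1 : u ≤ Nat.card F := by
      refine le_trans (Nat.card_le_card_of_injective
        (fun x : (H ⊓ unip h : Subgroup G) => (x : G).1.val 1 3) ?_) le_rfl
      intro x y e
      obtain ⟨a, b, ex⟩ := exists_uE h (Subgroup.mem_inf.1 x.2).2
      obtain ⟨a', b', ey⟩ := exists_uE h (Subgroup.mem_inf.1 y.2).2
      have h0 := hcon a b (ex ▸ (Subgroup.mem_inf.1 x.2).1)
      have h0' := hcon a' b' (ey ▸ (Subgroup.mem_inf.1 y.2).1)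
      simp only [ex, ey, uE_val, U_val] at e
      have e' : b = b' := by simpa [Umat] using e
      exact Subtype.ext (by rw [ex, ey, h0, h0', e'])
    have h2 : 8 * Nat.card F ≤ Nat.card F ^ 2 := by
      rw [pow_two]; exact Nat.mul_le_mul_right _ hq8
    have h3 : Nat.card F ^ 2 ≤ 2 * u := le_trans (Nat.le_mul_of_pos_left _ hc0) hcu
    omega
  have hU : unip h ≤ H := by
    intro x hx
    obtain ⟨a, b, rfl⟩ := exists_uE h hx
    by_cases ha : a = 0
    · rw [ha]; exact hZall b
    obtain ⟨t₀, ht₀⟩ := h.sg_bijective.2 (a / a₁)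
    have ht0 : t₀ ≠ 0 := fun e => div_ne_zero ha ha₁ (by rw [← ht₀, e, sg_zero])
    obtain ⟨c₁, c₂, hm⟩ := (show Units.mk0 t₀ ht0 ∈ torusCoords h H by rw [hTtop]; trivial)
    have h5 := H.mul_mem (H.mul_mem hm hab₁) (H.inv_mem hm)
    rw [show uE h c₁ c₂ * dE h (Units.mk0 t₀ ht0) * uE h a₁ b₁ *
      (uE h c₁ c₂ * dE h (Units.mk0 t₀ ht0))⁻¹ =
      uE h c₁ c₂ * (dE h (Units.mk0 t₀ ht0) * uE h a₁ b₁ * (dE h (Units.mk0 t₀ ht0))⁻¹) *
        (uE h c₁ c₂)⁻¹ by group, dE_conj, uE_conj, Units.val_mk0, ht₀, div_mul_cancel₀ _ ha₁] at h5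
    set b₂ := sg m t₀ * t₀ ^ 2 * b₁ + (sg m c₁ * a + sg m a * c₁) with hb₂
    have h6 := H.mul_mem h5 (hZall (b - b₂))
    rw [ht₀] at hb₂
    rw [uE_mul, mul_zero, add_zero, add_zero] at h6
    convert h6 using 2
    rw [hb₂]; ring
  refine le_antisymm hB fun x hx => ?_
  obtain ⟨a, b, t, rfl⟩ := (mem_stab_inf h).1 hx
  obtain ⟨a', b', hm⟩ := (show t ∈ torusCoords h H by rw [hTtop]; trivial)
  have h1 := H.mul_mem (H.inv_mem (hU (uE_mem h a' b'))) hm
  rw [inv_mul_cancel_left] at h1
  exact H.mul_mem (hU (uE_mem h a b)) h1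

theorem torus_card_of_index_two {A : Subgroup G} (hA : IsCyclic A)
    (hk : Nat.card A ∈ torusOrders m)
    (hN : Nat.card (Subgroup.normalizer (A : Set G)) = 2 * Nat.card A) :
    Nat.card A = Nat.card F - 1 := by
  have := finite_G h
  have h5 := one_lt_of_torusOrders h hk
  obtain ⟨z, hz, hz1⟩ : ∃ z ∈ A, z ≠ 1 := by
    by_contra hc
    simp only [not_exists, not_and, not_not] at hc
    rw [Subgroup.card_eq_one.2 ((Subgroup.eq_bot_iff_forall _).2 hc)] at h5
    omega
  obtain ⟨hT, hC⟩ := cyclic_torus_eq h hA hk hz hz1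
  have hmap : ∀ c : G, Nat.card (Subgroup.centralizer ({c * z * c⁻¹} : Set G)) = Nat.card A ∧
      Nat.card (Subgroup.normalizer (Subgroup.centralizer ({c * z * c⁻¹} : Set G) : Set G)) =
        Nat.card (Subgroup.normalizer (A : Set G)) := by
    intro c
    rw [← map_centralizer_singleton, hC]
    exact ⟨Subgroup.card_map_of_injective (MulAut.conj c).injective, card_normalizer_map _ c⟩
  rcases trichotomy h z with ⟨c, hc⟩ | ⟨c, hc⟩ | hf
  · exact absurd hc (hT.not_conj_unip h c)
  · have e := centralizer_torus h hc (fun e => hz1 (conj_eq_one_iff.1 e))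
    rw [← (hmap c).1, e, card_torus]
  · obtain ⟨A', B', hA', hB', -, -, nA, nB, hcov⟩ := exists_fpf_tori h
    rcases hcov z hf with ⟨c, hc⟩ | ⟨c, hc⟩
    · have e := hA'.centralizer_eq h hc (fun e => hz1 (conj_eq_one_iff.1 e))
      obtain ⟨e1, e2⟩ := hmap c
      rw [e] at e1 e2
      omega
    · have e := hB'.centralizer_eq h hc (fun e => hz1 (conj_eq_one_iff.1 e))
      obtain ⟨e1, e2⟩ := hmap c
      rw [e] at e1 e2
      omega

/-- The subgroups of fixity two. -/
theorem fixity_cases {H : Subgroup G} (hne : H ≠ ⊤) (hbot : H ≠ ⊥) (hH : FixityTwo H) :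
    (∃ p ∈ Cfsg.suzukiOvoid F m, H = MulAction.stabilizer G p) ∨
      Nat.card H = Nat.card F - 1 := by
  have := h.finite
  have := finite_G h
  have h64 := sq_ge h
  -- `H` inside a torus
  have hin : ∀ A : Subgroup G, IsCyclic A → Nat.card A ∈ torusOrders m → H ≤ A →
      Nat.card H = Nat.card F - 1 := by
    intro A hA hk hHA
    obtain ⟨w, hw, hN⟩ := torus_normalizer_card h hA hk
    obtain ⟨g, hgH, hg1⟩ : ∃ g ∈ H, g ≠ 1 := by
      by_contra hc
      simp only [not_exists, not_and, not_not] at hc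
      exact hbot ((Subgroup.eq_bot_iff_forall _).2 hc)
    have hchar : ∀ a ∈ A, a ^ Nat.card H = 1 → a ∈ H := by
      intro a ha ha1
      classical
      let : Fintype A := Fintype.ofFinite A
      have hsub : Finset.univ.filter (fun x : A => (x : G) ∈ H) ⊆
          Finset.univ.filter (fun x : A => x ^ Nat.card H = 1) := by
        intro x hx
        simp only [Finset.mem_filter, Finset.mem_univ, true_and] at hx ⊢
        have e : (⟨(x : G), hx⟩ : H) ^ Nat.card H = 1 := pow_card_eq_one'
        have e2 := congrArg Subtype.val e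
        rw [SubmonoidClass.coe_pow] at e2
        exact Subtype.ext (by rw [SubmonoidClass.coe_pow]; exact e2)
      have hc : (Finset.univ.filter (fun x : A => (x : G) ∈ H)).card = Nat.card H := by
        rw [← Fintype.card_subtype, ← Nat.card_eq_fintype_card]
        exact Nat.card_congr
          ⟨fun x => ⟨x.1.1, x.2⟩, fun x => ⟨⟨x.1, hHA x.2⟩, x.2⟩, fun _ => rfl, fun _ => rfl⟩
      have := hA
      have heq := Finset.eq_of_subset_of_card_le hsub
        (by rw [hc]; exact IsCyclic.card_pow_eq_one_le Nat.card_pos)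
      have : (⟨a, ha⟩ : A) ∈ Finset.univ.filter (fun x : A => (x : G) ∈ H) := by
        rw [heq]
        simp only [Finset.mem_filter, Finset.mem_univ, true_and]
        exact Subtype.ext (by simpa using ha1)
      exact (Finset.mem_filter.1 this).2
    have hsub : (Subgroup.normalizer (A : Set G) : Set G) ⊆ carrySet g H := by
      intro n hn
      show n⁻¹ * g * n ∈ H
      refine hchar _ ?_ ?_
      · have := (Subgroup.mem_normalizer_iff.1 (inv_mem hn) g).1 (hHA hgH)
        rwa [inv_inv] at this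
      · have e : (⟨g, hgH⟩ : H) ^ Nat.card H = 1 := pow_card_eq_one'
        have e' : g ^ Nat.card H = 1 := by
          have e2 := congrArg Subtype.val e
          rw [SubmonoidClass.coe_pow] at e2
          exact e2
        have h1 : (n⁻¹ * g * n⁻¹⁻¹) ^ Nat.card H = 1 := by rw [conj_pow, e']; group
        rwa [inv_inv] at h1
    have hle : w * Nat.card A ≤ 2 * Nat.card H := by
      have e : Nat.card (Subgroup.normalizer (A : Set G)) =
          (Subgroup.normalizer (A : Set G) : Set G).ncard := Nat.card_coe_set_eq _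
      rw [← hN, e]
      exact (Set.ncard_le_ncard hsub).trans (hH g hg1)
    have hHle : Nat.card H ≤ Nat.card A := Subgroup.card_le_of_le hHA
    have hApos : 0 < Nat.card A := Nat.card_pos
    rcases hw with rfl | ⟨rfl, -⟩
    · rw [← torus_card_of_index_two h hA hk hN]
      omega
    · omega
  by_cases hinv : ∃ g ∈ H, g ≠ 1 ∧ g * g = 1
  · left
    rcases subgroup_cases h H with ⟨p, hp, hfix⟩ | ⟨A, hA, hk, hHA⟩ | ⟨j, hj, hdiv, φ, c, e⟩
    · obtain ⟨d, hd, hdp⟩ := exists_move h hp
      set c : G := (⟨d, hd⟩ : G)⁻¹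
      have hcp : c⁻¹ • inf F = p := by rw [inv_inv]; exact hdp
      have hB : conjBy c H ≤ borel F m := by
        intro x hx
        have h1 := hfix _ (mem_conjBy.1 hx)
        rw [mul_smul, mul_smul, inv_smul_eq_iff, ← hcp, smul_inv_smul] at h1
        exact h1
      have hE := fixity_inf h (fixityTwo_conj hH c) hB (by
        obtain ⟨g, hg, hg1, hgg⟩ := hinv
        refine ⟨c * g * c⁻¹, mem_conjBy.2 ?_, fun e => hg1 (conj_eq_one_iff.1 e), ?_⟩
        · rw [show c⁻¹ * (c * g * c⁻¹) * c = g by group]; exact hg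
        · rw [show c * g * c⁻¹ * (c * g * c⁻¹) = c * (g * g) * c⁻¹ by group, hgg]; group)
      refine ⟨p, hp, le_antisymm (fun x hx => hfix x hx) fun x hx => ?_⟩
      have h2 : c * x * c⁻¹ ∈ conjBy c H := by
        rw [hE, mem_borel_iff, mul_smul, mul_smul, hcp, MulAction.mem_stabilizer_iff.1 hx,
          ← hcp, smul_inv_smul]
      rw [mem_conjBy, show c⁻¹ * (c * x * c⁻¹) * c = x by group] at h2
      exact h2
    · exfalso
      obtain ⟨w, hw, hN⟩ := torus_normalizer_card h hA hk
      obtain ⟨t, htH, ht1, htt⟩ := hinv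
      have htA : t ∉ A := by
        intro ht
        have e : orderOf t = 2 := orderOf_eq_prime (by rw [pow_two]; exact htt) ht1
        exact torusOrders_odd h hk (e ▸ Subgroup.orderOf_dvd_natCard A ht)
      have hcomm : ∀ a ∈ A, ∀ b ∈ A, a * b = b * a := by
        intro a ha b hb
        let : CommGroup A := hA.commGroup
        exact congrArg Subtype.val (mul_comm (⟨a, ha⟩ : A) ⟨b, hb⟩)
      have htinv : t⁻¹ = t := inv_eq_of_mul_eq_one_right htt
      have hinvert : ∀ a ∈ A, t * a * t⁻¹ = a⁻¹ := by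
        intro a ha
        by_contra hne'
        have hta : t * a * t⁻¹ ∈ A := (Subgroup.mem_normalizer_iff.1 (hHA htH) a).1 ha
        set c := a * (t * a * t⁻¹) with hc
        have hcA : c ∈ A := A.mul_mem ha hta
        have hc1 : c ≠ 1 := fun e => hne' (eq_inv_of_mul_eq_one_right e)
        have hfix : t * c * t⁻¹ = c := by
          calc t * c * t⁻¹ = t * a * t⁻¹ * (t * t * a * (t⁻¹ * t⁻¹)) := by rw [hc]; group
            _ = t * a * t⁻¹ * a := by rw [htt, htinv, htt, one_mul, mul_one]
            _ = c := by rw [hc]; exact hcomm _ hta _ ha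
        have h1 : t ∈ Subgroup.centralizer ({c} : Set G) :=
          Subgroup.mem_centralizer_singleton_iff.2 (mul_inv_eq_iff_eq_mul.1 hfix)
        rw [(cyclic_torus_eq h hA hk hcA hc1).2] at h1
        exact htA h1
      have hb := carry_bound h (H := H) (J := (fun a => a * t) '' ((H ⊓ A : Subgroup G) : Set G)) (by
        rintro _ ⟨a, ha, rfl⟩
        obtain ⟨haH, haA⟩ := Subgroup.mem_inf.1 ha
        refine ⟨H.mul_mem haH htH, fun e => htA ?_, ?_⟩
        · rw [eq_inv_of_mul_eq_one_right e]; exact A.inv_mem haA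
        · rw [show a * t * (a * t) = a * (t * a * t) by group]
          have e := hinvert a haA
          rw [htinv] at e
          rw [e, mul_inv_cancel])
      rw [Set.ncard_image_of_injective _ (mul_left_injective t)] at hb
      have e0 : ((H ⊓ A : Subgroup G) : Set G).ncard = Nat.card (H ⊓ A : Subgroup G) :=
        (Nat.card_coe_set_eq _).symm
      rw [e0] at hb
      have hle := hb.trans (hH _ (uE_one_ne h))
      have hidx : Nat.card H ≤ 4 * Nat.card (H ⊓ A : Subgroup G) := by
        have hA' : (A.subgroupOf (Subgroup.normalizer (A : Set G))).index = w := by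
          have e := (A.subgroupOf (Subgroup.normalizer (A : Set G))).index_mul_card
          rw [Nat.card_congr (Subgroup.subgroupOfEquivOfLe Subgroup.le_normalizer).toEquiv, hN] at e
          exact Nat.eq_of_mul_eq_mul_right Nat.card_pos e
        have h1 : A.relIndex H ≤ 4 := by
          have h2 : A.relIndex H ≤ A.relIndex (Subgroup.normalizer (A : Set G)) :=
            Subgroup.relIndex_le_of_le_right hHA (by
              rw [Subgroup.relIndex, hA']
              rcases hw with rfl | ⟨rfl, -⟩ <;> norm_num)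
          refine h2.trans (le_of_eq_of_le (show A.relIndex (Subgroup.normalizer (A : Set G)) = w from hA') ?_)
          rcases hw with rfl | ⟨rfl, -⟩ <;> norm_num
        have h3 := (A.subgroupOf H).index_mul_card
        have h4 : Nat.card (A.subgroupOf H) = Nat.card (H ⊓ A : Subgroup G) := by
          refine Nat.card_congr ⟨fun x => ⟨x.1.1, Subgroup.mem_inf.2 ⟨x.1.2, x.2⟩⟩,
            fun x => ⟨⟨x.1, (Subgroup.mem_inf.1 x.2).1⟩, (Subgroup.mem_inf.1 x.2).2⟩,
            fun _ => rfl, fun _ => rfl⟩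
        rw [h4] at h3
        rw [← h3]
        exact Nat.mul_le_mul_right _ h1
      have hpos : 0 < Nat.card (H ⊓ A : Subgroup G) := Nat.card_pos
      have h5 : Nat.card (H ⊓ A : Subgroup G) * 64 ≤
          Nat.card (H ⊓ A : Subgroup G) * Nat.card F ^ 2 := Nat.mul_le_mul_left _ h64
      omega
    · exfalso
      have hK := galoisField_isSzField hj
      rcases Nat.lt_or_ge j m with hlt | hge
      · obtain ⟨t, htH, ht1, htt⟩ := hinv
        have hb := carry_bound h (H := H) (J := {t}) (by rintro x rfl; exact ⟨htH, ht1, htt⟩)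
        rw [Set.ncard_singleton, one_mul] at hb
        have hle := hb.trans (hH _ (uE_one_ne h))
        rw [← card_conjBy c H, e, card_range_szMap h φ hK hdiv, hK.card, h.card] at hle
        set Q := 2 ^ (2 * j + 1) with hQ
        obtain ⟨i, hi⟩ := exponent_congr hdiv
        have hi0 : i ≠ 0 := by rintro rfl; omega
        have h4 : Q ^ 6 ≤ (2 ^ (2 * m + 1)) ^ 2 := by
          rw [hQ, ← pow_mul, ← pow_mul]
          refine Nat.pow_le_pow_right (by norm_num) ?_
          have : (2 * j + 1) * 1 ≤ (2 * j + 1) * i := Nat.mul_le_mul_left _ (by omega)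
          omega
        have hQ3 : 3 ≤ Q := le_trans (by norm_num : 3 ≤ 2 ^ 2)
          (Nat.pow_le_pow_right (by norm_num) (by omega))
        obtain ⟨r, hr⟩ : ∃ r, Q = r + 1 := ⟨Q - 1, by omega⟩
        have h5 : Q ^ 2 * (Q ^ 2 + 1) * (Q - 1) ≤ Q ^ 5 := by
          rw [hr, Nat.add_sub_cancel]
          have : ((r + 1) ^ 2 + 1) * r ≤ (r + 1) ^ 3 := by nlinarith [Nat.zero_le r]
          calc (r + 1) ^ 2 * ((r + 1) ^ 2 + 1) * r = (r + 1) ^ 2 * (((r + 1) ^ 2 + 1) * r) := by ring
            _ ≤ (r + 1) ^ 2 * (r + 1) ^ 3 := Nat.mul_le_mul_left _ this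
            _ = (r + 1) ^ 5 := by ring
        have h7 : 3 * Q ^ 5 ≤ Q ^ 6 := by
          rw [pow_succ Q 5, mul_comm 3]
          exact Nat.mul_le_mul_left _ hQ3
        have h8 : 0 < Q ^ 5 := by positivity
        omega
      · obtain rfl : j = m := by
          have := Nat.le_of_dvd (by omega) hdiv
          omega
        exact hne (conjBy_eq_top h (e.trans (range_szMap_eq_top h φ _ hdiv)))
  · -- odd order
    right
    have hodd : ¬ 2 ∣ Nat.card H := by
      intro hd
      obtain ⟨x, hx⟩ := exists_prime_orderOf_dvd_card' 2 hd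
      rw [← Subgroup.orderOf_coe] at hx
      refine hinv ⟨x, x.2, fun e => ?_, ?_⟩
      · rw [e, orderOf_one] at hx; omega
      · rw [← pow_two, ← hx]; exact pow_orderOf_eq_one _
    rcases subgroup_cases h H with ⟨p, hp, hfix⟩ | ⟨A, hA, hk, hHA⟩ | ⟨j, hj, hdiv, φ, c, e⟩
    · -- a cyclic complement inside the point stabiliser
      obtain ⟨d, hd, hdp⟩ := exists_move h hp
      set c : G := (⟨d, hd⟩ : G)⁻¹
      have hcp : c⁻¹ • inf F = p := by rw [inv_inv]; exact hdp
      have hB : ∀ x ∈ H, c * x * c⁻¹ ∈ borel F m := by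
        intro x hx
        rw [mem_borel_iff, mul_smul, mul_smul, hcp, hfix x hx, ← hcp, smul_inv_smul]
      let χ : H →* Fˣ := (chi h).comp (((MulAut.conj c).toMonoidHom.comp H.subtype).codRestrict
        (borel F m) fun x => hB x.1 x.2)
      have hinj : Function.Injective χ := by
        rw [injective_iff_map_eq_one]
        intro x hx
        have h1 := Subgroup.orderOf_dvd_natCard (unip h) (mem_unip_of_chi h hx)
        have e0 : orderOf ((MulAut.conj c).toMonoidHom (x : G)) = orderOf x := by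
          show orderOf (c * (x : G) * c⁻¹) = _
          rw [orderOf_conj_eq, Subgroup.orderOf_coe]
        change orderOf ((MulAut.conj c).toMonoidHom (x : G)) ∣ _ at h1
        rw [e0, card_unip, h.card, ← pow_mul] at h1
        exact orderOf_eq_one_iff.1 (Nat.eq_one_of_dvd_coprimes
          (Nat.Coprime.pow_left _ ((Nat.prime_two.coprime_iff_not_dvd).2 hodd)) h1
          (orderOf_dvd_natCard x))
      have hHcy : IsCyclic H := isCyclic_of_injective χ hinj
      obtain ⟨⟨z, hz⟩, hzgen⟩ := hHcy.exists_generator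
      have hz1 : z ≠ 1 := by
        rintro rfl
        refine hbot ((Subgroup.eq_bot_iff_forall _).2 fun x hx => ?_)
        obtain ⟨n, hn⟩ := Subgroup.mem_zpowers_iff.1 (hzgen ⟨x, hx⟩)
        have := congrArg Subtype.val hn
        simpa using this.symm
      rcases unip_or_torusElt h hz1 with ⟨d, hd'⟩ | hT
      · exfalso
        have h1 := orderOf_dvd_of_mem_unip h hd'
        rw [orderOf_conj_eq] at h1
        exact hz1 (orderOf_eq_one_iff.1 (Nat.eq_one_of_dvd_coprimes
          (Nat.Coprime.pow_left _ ((Nat.prime_two.coprime_iff_not_dvd).2 hodd)) h1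
          (Subgroup.orderOf_dvd_natCard H hz)))
      · refine hin _ hT.2.1 hT.2.2 fun x hx => ?_
        obtain ⟨n, hn⟩ := Subgroup.mem_zpowers_iff.1 (hzgen ⟨x, hx⟩)
        have hn' : z ^ n = x := congrArg Subtype.val hn
        rw [← hn']
        exact Subgroup.zpow_mem _ (Subgroup.mem_centralizer_singleton_iff.2 rfl) n
    · refine hin A hA hk fun x hx => ?_
      obtain ⟨w, hw, hN⟩ := torus_normalizer_card h hA hk
      set N := Subgroup.normalizer (A : Set G)
      have : (A.subgroupOf N).Normal := (Subgroup.normal_subgroupOf_iff_le_normalizer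
        Subgroup.le_normalizer).2 le_rfl
      have hidx : (A.subgroupOf N).index = w := by
        have e := (A.subgroupOf N).index_mul_card
        rw [Nat.card_congr (Subgroup.subgroupOfEquivOfLe Subgroup.le_normalizer).toEquiv, hN] at e
        exact Nat.eq_of_mul_eq_mul_right Nat.card_pos e
      set q : N ⧸ A.subgroupOf N := QuotientGroup.mk' _ ⟨x, hHA hx⟩
      have h1 : orderOf q ∣ Nat.card H :=
        (orderOf_map_dvd (QuotientGroup.mk' (A.subgroupOf N)) _).trans (by
          rw [Subgroup.orderOf_mk]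
          exact Subgroup.orderOf_dvd_natCard H hx)
      have h2 : orderOf q ∣ 4 := by
        have h3 := orderOf_dvd_natCard q
        rw [← Subgroup.index, hidx] at h3
        rcases hw with rfl | ⟨rfl, -⟩
        · exact h3.trans (by norm_num)
        · exact h3
      have h4 : orderOf q = 1 := by
        refine Nat.eq_one_of_dvd_coprimes ?_ h2 h1
        show Nat.Coprime (2 ^ 2) _
        exact Nat.Coprime.pow_left _ ((Nat.prime_two.coprime_iff_not_dvd).2 hodd)
      have h5 : ((⟨x, hHA hx⟩ : N) : N ⧸ A.subgroupOf N) = 1 := orderOf_eq_one_iff.1 h4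
      exact Subgroup.mem_subgroupOf.1 ((QuotientGroup.eq_one_iff (N := A.subgroupOf N) _).1 h5)
    · exfalso
      have hK := galoisField_isSzField hj
      refine hodd ?_
      rw [← card_conjBy c H, e, card_range_szMap h φ hK hdiv, hK.card]
      exact dvd_mul_of_dvd_left (dvd_mul_of_dvd_left (dvd_pow (dvd_pow_self 2 (by omega))
        (by norm_num)) _) _

end CfsgLib.Suzuki
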