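/-
Suzuki group: the normalisers of the cyclic tori, 2-elements and their fixed points.
-/
import Cfsg.Agent.Suzuki.Generation

set_option autoImplicit false

namespace CfsgLib.Suzuki

variable {F : Type*} [Field F] {m : ℕ}

local notation "PP" => Projectivization F (Fin 4 → F)
local notation "G" => SzG F m

/-- A cyclic subgroup of torus order. -/
def IsTorus (A : Subgroup (SzG F m)) : Prop := IsCyclic A ∧ Nat.card A ∈ torusOrders m

/-- The index of a torus of order `k` in its normaliser. -/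
def torusWeight (m k : ℕ) : ℕ := if k = 2 ^ (2 * m + 1) - 1 then 2 else 4

variable (h : IsSzField F m)
include h

theorem IsTorus.eq_centralizer {A : Subgroup G} (hA : IsTorus A) {z : G} (hz : z ∈ A)
    (hz1 : z ≠ 1) : Subgroup.centralizer ({z} : Set G) = A :=
  (cyclic_torus_eq h hA.1 hA.2 hz hz1).2

theorem IsTorus.mem_of_commute {A : Subgroup G} (hA : IsTorus A) {z x : G} (hz : z ∈ A)
    (hz1 : z ≠ 1) (e : x * z = z * x) : x ∈ A := by
  rw [← hA.eq_centralizer h hz hz1]
  exact Subgroup.mem_centralizer_singleton_iff.2 e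

theorem IsTorus.eq_of_mem {A B : Subgroup G} (hA : IsTorus A) (hB : IsTorus B) {z : G}
    (hzA : z ∈ A) (hzB : z ∈ B) (hz1 : z ≠ 1) : A = B :=
  (hA.eq_centralizer h hzA hz1).symm.trans (hB.eq_centralizer h hzB hz1)

theorem IsTorus.odd_card {A : Subgroup G} (hA : IsTorus A) : ¬ 2 ∣ Nat.card A :=
  torusOrders_odd h hA.2

theorem IsTorus.exists_ne_one {A : Subgroup G} (hA : IsTorus A) : ∃ z ∈ A, z ≠ 1 := by
  by_contra hc
  simp only [not_exists, not_and, not_not] at hc
  have h5 := one_lt_of_torusOrders h hA.2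
  rw [Subgroup.card_eq_one.2 ((Subgroup.eq_bot_iff_forall _).2 hc)] at h5
  omega

theorem IsTorus.not_mem_of_two_dvd {A : Subgroup G} (hA : IsTorus A) {x : G}
    (hx : 2 ∣ orderOf x) : x ∉ A := fun hxA =>
  hA.odd_card h (hx.trans (Subgroup.orderOf_dvd_natCard A hxA))

theorem IsTorus.pow_mem_eq_one {A : Subgroup G} (hA : IsTorus A) {n : G}
    (hn : n ∉ A) {j : ℕ} (hj : n ^ j ∈ A) : n ^ j = 1 := by
  by_contra hne
  exact hn (hA.mem_of_commute h hj hne (Commute.self_pow n j).eq)

theorem IsTorus.invert {A : Subgroup G} (hA : IsTorus A) {t : G}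
    (ht : t ∈ Subgroup.normalizer (A : Set G)) (htA : t ∉ A) (htt : t * t = 1) {a : G}
    (ha : a ∈ A) : t * a * t⁻¹ = a⁻¹ := by
  by_contra hne
  have htinv : t⁻¹ = t := inv_eq_of_mul_eq_one_right htt
  have hta : t * a * t⁻¹ ∈ A := (Subgroup.mem_normalizer_iff.1 ht a).1 ha
  have hcomm : t * a * t⁻¹ * a = a * (t * a * t⁻¹) := by
    let : CommGroup A := hA.1.commGroup
    exact congrArg Subtype.val (mul_comm (⟨_, hta⟩ : A) ⟨a, ha⟩)
  set c := a * (t * a * t⁻¹) with hc
  have hcA : c ∈ A := A.mul_mem ha hta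
  have hc1 : c ≠ 1 := fun e => hne (eq_inv_of_mul_eq_one_right e)
  have hfix : t * c * t⁻¹ = c := by
    calc t * c * t⁻¹ = t * a * t⁻¹ * (t * t * a * (t⁻¹ * t⁻¹)) := by rw [hc]; group
      _ = t * a * t⁻¹ * a := by rw [htt, htinv, htt, one_mul, mul_one]
      _ = c := by rw [hc]; exact hcomm
  exact htA (hA.mem_of_commute h hcA hc1 (mul_inv_eq_iff_eq_mul.1 hfix))

/-- Every torus is conjugate to any other of the same order. -/
theorem IsTorus.exists_conj {A B : Subgroup G} (hA : IsTorus A) (hB : IsTorus B)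
    (e : Nat.card A = Nat.card B) : ∃ c : G, conjBy c A = B := by
  obtain ⟨A₀, B₀, hA₀, hB₀, cA, cB, -, -, hcov⟩ := exists_fpf_tori h
  have key : ∀ {C : Subgroup G}, IsTorus C →
      ∃ c : G, conjBy c C = torus h ∨ conjBy c C = A₀ ∨ conjBy c C = B₀ := by
    intro C hC
    obtain ⟨z, hz, hz1⟩ := hC.exists_ne_one h
    have hmap : ∀ c : G, conjBy c C = Subgroup.centralizer ({c * z * c⁻¹} : Set G) := by
      intro c
      rw [← map_centralizer_singleton, hC.eq_centralizer h hz hz1]
    have hne : ∀ c : G, c * z * c⁻¹ ≠ 1 := fun c e => hz1 (conj_eq_one_iff.1 e)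
    rcases trichotomy h z with ⟨c, hc⟩ | ⟨c, hc⟩ | hf
    · exact absurd hc ((cyclic_torus_eq h hC.1 hC.2 hz hz1).1.not_conj_unip h c)
    · exact ⟨c, Or.inl ((hmap c).trans (centralizer_torus h hc (hne c)))⟩
    · rcases hcov z hf with ⟨c, hc⟩ | ⟨c, hc⟩
      · exact ⟨c, Or.inr (Or.inl ((hmap c).trans (hA₀.centralizer_eq h hc (hne c))))⟩
      · exact ⟨c, Or.inr (Or.inr ((hmap c).trans (hB₀.centralizer_eq h hc (hne c))))⟩
  have hcard : ∀ (c : G) (C : Subgroup G), Nat.card (conjBy c C) = Nat.card C := fun c C =>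
    Subgroup.card_map_of_injective (MulAut.conj c).injective
  obtain ⟨c, hc⟩ := key hA
  obtain ⟨d, hd⟩ := key hB
  refine ⟨d⁻¹ * c, ?_⟩
  have hsame : conjBy c A = conjBy d B := by
    have e' : Nat.card (conjBy c A) = Nat.card (conjBy d B) := by rw [hcard, hcard, e]
    have h1 := h.four_le
    have h2 := h.sigma_add_two_lt
    have hs : 2 ≤ 2 ^ (m + 1) := Nat.le_self_pow (by omega) 2
    rcases hc with hc | hc | hc <;> rcases hd with hd | hd | hd <;> rw [hc, hd] at e' ⊢ <;>
      simp only [card_torus, cA, cB, h.card] at e' <;> omega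
  rw [← conjBy_conjBy, hsame, conjBy_conjBy, inv_mul_cancel, conjBy_one]

theorem IsTorus.card_normalizer {A : Subgroup G} (hA : IsTorus A) :
    Nat.card (Subgroup.normalizer (A : Set G)) = torusWeight m (Nat.card A) * Nat.card A := by
  obtain ⟨A₀, B₀, hA₀, hB₀, cA, cB, nA, nB, -⟩ := exists_fpf_tori h
  have hT : IsTorus (torus h) :=
    ⟨isCyclic_torus h, by rw [card_torus, h.card]; exact Set.mem_insert _ _⟩
  have hA' : IsTorus A₀ :=
    ⟨hA₀.isCyclic h, by rw [cA]; exact Set.mem_insert_of_mem _ (Set.mem_insert _ _)⟩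
  have hB' : IsTorus B₀ :=
    ⟨hB₀.isCyclic h, by rw [cB]; exact Set.mem_insert_of_mem _ (Set.mem_insert_of_mem _ rfl)⟩
  have key : ∀ {C : Subgroup G}, IsTorus C → Nat.card A = Nat.card C →
      Nat.card (Subgroup.normalizer (A : Set G)) = Nat.card (Subgroup.normalizer (C : Set G)) := by
    intro C hC e
    obtain ⟨c, rfl⟩ := hA.exists_conj h hC e
    exact (card_normalizer_map A c).symm
  have h1 := h.four_le
  have h2 := h.sigma_add_two_lt
  have hk := hA.2
  simp only [torusOrders, Set.mem_insert_iff, Set.mem_singleton_iff] at hk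
  unfold torusWeight
  rcases hk with hk | hk | hk
  · rw [if_pos hk, key hT (by rw [hk, card_torus, h.card]), card_normalizer_torus h, hk, h.card]
  · rw [if_neg (by omega), key hA' (hk.trans cA.symm), nA, hk, cA]
  · rw [if_neg (by omega), key hB' (hk.trans cB.symm), nB, hk, cB]

theorem IsTorus.index_subgroupOf {A : Subgroup G} (hA : IsTorus A) :
    (A.subgroupOf (Subgroup.normalizer (A : Set G))).index = torusWeight m (Nat.card A) := by
  have := finite_G h
  have e := (A.subgroupOf (Subgroup.normalizer (A : Set G))).index_mul_card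
  rw [Nat.card_congr (Subgroup.subgroupOfEquivOfLe Subgroup.le_normalizer).toEquiv,
    hA.card_normalizer h] at e
  exact Nat.eq_of_mul_eq_mul_right Nat.card_pos e

theorem IsTorus.normal_subgroupOf {A : Subgroup G} :
    (A.subgroupOf (Subgroup.normalizer (A : Set G))).Normal :=
  (Subgroup.normal_subgroupOf_iff_le_normalizer Subgroup.le_normalizer).2 le_rfl

/-- The quotient of a torus normaliser by the torus is cyclic. -/
theorem IsTorus.exists_orderOf_outside {A : Subgroup G} (hA : IsTorus A) :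
    ∃ t ∈ Subgroup.normalizer (A : Set G), t ∉ A ∧ orderOf t = torusWeight m (Nat.card A) := by
  have := finite_G h
  set N := Subgroup.normalizer (A : Set G) with hN
  have hw : torusWeight m (Nat.card A) = 2 ∨ torusWeight m (Nat.card A) = 4 := by
    unfold torusWeight; split_ifs <;> simp
  have hnormal : (A.subgroupOf N).Normal := IsTorus.normal_subgroupOf h
  have hdvd : ∀ n ∈ N, n ∉ A → orderOf n ∣ torusWeight m (Nat.card A) := by
    intro n hn hnA
    refine orderOf_dvd_of_pow_eq_one (hA.pow_mem_eq_one h hnA ?_)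
    have e := pow_card_eq_one' (x := ((⟨n, hn⟩ : N) : N ⧸ A.subgroupOf N))
    rw [← Subgroup.index, hA.index_subgroupOf h, ← QuotientGroup.mk_pow,
      QuotientGroup.eq_one_iff] at e
    exact Subgroup.mem_subgroupOf.1 e
  obtain ⟨t, htN, htA⟩ : ∃ t ∈ N, t ∉ A := by
    by_contra hc
    simp only [not_exists, not_and, not_not] at hc
    have h1 := Subgroup.card_le_of_le (show N ≤ A from hc)
    rw [hN, hA.card_normalizer h] at h1
    have : 2 * Nat.card A ≤ torusWeight m (Nat.card A) * Nat.card A :=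
      Nat.mul_le_mul_right _ (by omega)
    have : 0 < Nat.card A := Nat.card_pos
    omega
  rcases hw with hw | hw
  · exact ⟨t, htN, htA, hw ▸ ((Nat.dvd_prime Nat.prime_two).1 (hw ▸ hdvd t htN htA)).resolve_left
      fun e => htA (orderOf_eq_one_iff.1 e ▸ A.one_mem)⟩
  · by_contra hc
    simp only [not_exists, not_and] at hc
    have hsq : ∀ n ∈ N, n ∉ A → n * n = 1 := by
      intro n hn hnA
      have h4 : orderOf n ∣ 2 ^ 2 := by
        have := hdvd n hn hnA
        rw [hw] at this
        exact this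
      obtain ⟨i, hi, e⟩ := (Nat.dvd_prime_pow Nat.prime_two).1 h4
      rw [← pow_two, ← orderOf_dvd_iff_pow_eq_one, e]
      interval_cases i
      · norm_num
      · norm_num
      · exact absurd (e.trans hw.symm) (hc n hn hnA)
    obtain ⟨z, hz, hz1⟩ := hA.exists_ne_one h
    have hcov : ∀ s ∈ N, s ∉ A → t * s ∈ A := by
      intro s hs hsA
      by_contra hts
      have e1 := hA.invert h htN htA (hsq t htN htA) hz
      have e2 := hA.invert h hs hsA (hsq s hs hsA) hz
      have e3 := hA.invert h (N.mul_mem htN hs) hts (hsq _ (N.mul_mem htN hs) hts) hz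
      have e4 : z⁻¹ = z := by
        calc z⁻¹ = t * s * z * (t * s)⁻¹ := e3.symm
          _ = t * (s * z * s⁻¹) * t⁻¹ := by group
          _ = (t * z * t⁻¹)⁻¹ := by rw [e2]; group
          _ = z := by rw [e1, inv_inv]
      refine hA.not_mem_of_two_dvd h (x := z) (dvd_of_eq (orderOf_eq_prime ?_ hz1).symm) hz
      rw [pow_two]
      exact inv_eq_iff_mul_eq_one.1 e4
    have hsub : (N : Set G) ⊆ (A : Set G) ∪ (fun a => t⁻¹ * a) '' (A : Set G) := by
      intro s hs
      by_cases hsA : s ∈ A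
      · exact Or.inl hsA
      · exact Or.inr ⟨t * s, hcov s hs hsA, inv_mul_cancel_left t s⟩
    have h1 := (Set.ncard_le_ncard hsub).trans (Set.ncard_union_le _ _)
    rw [Set.ncard_image_of_injective _ (mul_right_injective t⁻¹)] at h1
    have e1 : (N : Set G).ncard = Nat.card N := (Nat.card_coe_set_eq _).symm
    have e2 : (A : Set G).ncard = Nat.card A := (Nat.card_coe_set_eq _).symm
    rw [e1, e2, hN, hA.card_normalizer h, hw] at h1
    have : 0 < Nat.card A := Nat.card_pos
    omega

/-- The number of elements of a given order in a torus normaliser. -/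
theorem IsTorus.card_orderOf {A : Subgroup G} (hA : IsTorus A) {d : ℕ}
    (hd : d ∣ torusWeight m (Nat.card A)) (hd1 : d ≠ 1) :
    Nat.card {n : G // n ∈ Subgroup.normalizer (A : Set G) ∧ orderOf n = d} =
      Nat.card A * d.totient := by
  have := finite_G h
  set N := Subgroup.normalizer (A : Set G) with hN
  have hnormal : (A.subgroupOf N).Normal := IsTorus.normal_subgroupOf h
  obtain ⟨t, htN, htA, hto⟩ := hA.exists_orderOf_outside h
  have hord : ∀ n : N, (n : G) ∉ A → orderOf (n : N ⧸ A.subgroupOf N) = orderOf (n : G) := by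
    intro n hn
    refine Nat.dvd_antisymm ?_ ?_
    · rw [Subgroup.orderOf_coe]
      exact orderOf_map_dvd (QuotientGroup.mk' _) _
    · refine orderOf_dvd_of_pow_eq_one (hA.pow_mem_eq_one h hn ?_)
      have e := pow_orderOf_eq_one (n : N ⧸ A.subgroupOf N)
      rw [← QuotientGroup.mk_pow, QuotientGroup.eq_one_iff, Subgroup.mem_subgroupOf,
        SubmonoidClass.coe_pow] at e
      exact e
  have hcyc : IsCyclic (N ⧸ A.subgroupOf N) :=
    isCyclic_of_orderOf_eq_card ((⟨t, htN⟩ : N) : N ⧸ A.subgroupOf N) (by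
      rw [hord _ htA, hto, ← Subgroup.index, hN, hA.index_subgroupOf h])
  have hiff : ∀ n : N, orderOf (n : G) = d ↔ orderOf (n : N ⧸ A.subgroupOf N) = d := by
    intro n
    by_cases hn : (n : G) ∈ A
    · constructor
      · intro e
        exfalso
        have h1 := Subgroup.orderOf_dvd_natCard A hn
        rw [e] at h1
        have h4 : d ∣ 4 := hd.trans (by unfold torusWeight; split_ifs <;> norm_num)
        have hcop : Nat.Coprime 4 (Nat.card A) := by
          show Nat.Coprime (2 ^ 2) _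
          exact Nat.Coprime.pow_left _ ((Nat.prime_two.coprime_iff_not_dvd).2 (hA.odd_card h))
        exact hd1 (Nat.eq_one_of_dvd_coprimes hcop h4 h1)
      · intro e
        rw [(QuotientGroup.eq_one_iff n).2 (Subgroup.mem_subgroupOf.2 hn), orderOf_one] at e
        exact absurd e.symm hd1
    · rw [hord n hn]
  classical
  let : Fintype (N ⧸ A.subgroupOf N) := Fintype.ofFinite _
  calc Nat.card {n : G // n ∈ N ∧ orderOf n = d}
      = Nat.card ((QuotientGroup.mk : N → N ⧸ A.subgroupOf N) ⁻¹' {x | orderOf x = d} : Set N) := by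
        refine Nat.card_congr ?_
        exact { toFun := fun n => ⟨⟨n.1, n.2.1⟩, (hiff ⟨n.1, n.2.1⟩).1 n.2.2⟩
                invFun := fun n => ⟨n.1.1, n.1.2, (hiff n.1).2 n.2⟩
                left_inv := fun _ => rfl
                right_inv := fun _ => rfl }
    _ = Nat.card (A.subgroupOf N) * Nat.card ({x : N ⧸ A.subgroupOf N | orderOf x = d} : Set _) := by
        rw [Nat.card_congr (QuotientGroup.preimageMkEquivSubgroupProdSet _ _), Nat.card_prod]
    _ = Nat.card A * d.totient := by
        rw [Nat.card_congr (Subgroup.subgroupOfEquivOfLe Subgroup.le_normalizer).toEquiv]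
        congr 1
        rw [Nat.card_eq_fintype_card, ← IsCyclic.card_orderOf_eq_totient (α := N ⧸ A.subgroupOf N)
          (d := d) (by rw [← Nat.card_eq_fintype_card, ← Subgroup.index, hN, hA.index_subgroupOf h]; exact hd)]
        rw [← Fintype.card_subtype]
        rfl

/-- The number of tori of a given order. -/
theorem IsTorus.card_conjugates {A : Subgroup G} (hA : IsTorus A) :
    Nat.card {B : Subgroup G // IsTorus B ∧ Nat.card B = Nat.card A} *
      (torusWeight m (Nat.card A) * Nat.card A) = Nat.card G := by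
  have := finite_G h
  rw [← hA.card_normalizer h, ← (Subgroup.normalizer (A : Set G)).index_mul_card]
  congr 1
  symm
  have hT : ∀ c : G, IsTorus (conjBy c A) ∧ Nat.card (conjBy c A) = Nat.card A := by
    intro c
    have e : Nat.card (conjBy c A) = Nat.card A :=
      Subgroup.card_map_of_injective (MulAut.conj c).injective
    exact ⟨⟨(A.equivMapOfInjective _ (MulAut.conj c).injective).isCyclic.1 hA.1, e ▸ hA.2⟩, e⟩
  have hiff : ∀ c d : G, conjBy c A = conjBy d A ↔ c⁻¹ * d ∈ Subgroup.normalizer (A : Set G) := by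
    intro c d
    have h1 : conjBy c A = conjBy d A ↔ conjBy (c⁻¹ * d) A = A := by
      constructor
      · intro e; rw [← conjBy_conjBy, ← e, conjBy_conjBy, inv_mul_cancel, conjBy_one]
      · intro e
        calc conjBy c A = conjBy c (conjBy (c⁻¹ * d) A) := by rw [e]
          _ = conjBy d A := by rw [conjBy_conjBy, mul_inv_cancel_left]
    rw [h1]
    constructor
    · intro e
      refine Subgroup.mem_normalizer_iff'.2 fun x => ?_
      constructor
      · intro hx
        have : c⁻¹ * d * (x * (c⁻¹ * d)) * (c⁻¹ * d)⁻¹ ∈ conjBy (c⁻¹ * d) A := ⟨_, hx, rfl⟩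
        rw [e] at this
        convert this using 1
        group
      · intro hx
        rw [← e, mem_conjBy] at hx
        convert hx using 1
        group
    · intro hn
      ext x
      rw [mem_conjBy]
      exact ((Subgroup.mem_normalizer_iff''.1 hn) x).symm
  refine Nat.card_congr (Equiv.ofBijective
    (Quotient.lift (fun c => (⟨conjBy c A, hT c⟩ : {B : Subgroup G // IsTorus B ∧
      Nat.card B = Nat.card A})) fun c d e => Subtype.ext
        ((hiff c d).2 (QuotientGroup.leftRel_apply.1 e))) ⟨?_, ?_⟩)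
  · rintro ⟨c⟩ ⟨d⟩ e
    exact QuotientGroup.eq.2 ((hiff c d).1 (congrArg Subtype.val e))
  · rintro ⟨B, hB, e⟩
    obtain ⟨c, hc⟩ := hA.exists_conj h hB e.symm
    exact ⟨QuotientGroup.mk c, Subtype.ext hc⟩

/-! ### Elements of order two or four -/

theorem orderOf_uE_four {a : F} (ha : a ≠ 0) (b : F) : orderOf (uE h a b) = 4 := by
  have : Fact (Nat.Prime 2) := ⟨Nat.prime_two⟩
  refine orderOf_eq_prime_pow (p := 2) (n := 1) ?_ ?_
  · rw [pow_one, pow_two, uE_sq, uE_eq_one]
    exact fun e => (mul_ne_zero (sg_ne_zero ha) ha) e.2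
  · show uE h a b ^ (2 * 2) = 1
    rw [pow_mul, pow_two, pow_two, uE_sq, uE_sq]
    simp [uE_zero]

theorem orderOf_uE_two {b : F} (hb : b ≠ 0) : orderOf (uE h 0 b) = 2 := by
  have : Fact (Nat.Prime 2) := ⟨Nat.prime_two⟩
  refine orderOf_eq_prime ?_ fun e => hb ((uE_eq_one h).1 e).2
  rw [pow_two, uE_sq]
  simp [uE_zero]

theorem orderOf_uE_iff (a b : F) :
    (orderOf (uE h a b) = 4 ↔ a ≠ 0) ∧ (orderOf (uE h a b) = 2 ↔ a = 0 ∧ b ≠ 0) := by
  by_cases ha : a = 0
  · subst ha
    by_cases hb : b = 0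
    · simp [hb, uE_zero]
    · simp [hb, orderOf_uE_two h hb]
  · simp [ha, orderOf_uE_four h ha b]

theorem two_elt_conj_unip {x : G} (hx : orderOf x = 2 ∨ orderOf x = 4) :
    ∃ c : G, c * x * c⁻¹ ∈ unip h := by
  have hP : IsPGroup 2 (Subgroup.zpowers x) := by
    refine IsPGroup.of_card (n := if orderOf x = 2 then 1 else 2) ?_
    rw [Nat.card_zpowers]
    rcases hx with e | e <;> simp [e]
  obtain ⟨c, hc⟩ := exists_conj_le_unip h hP
  exact ⟨c, hc x (Subgroup.mem_zpowers x)⟩

/-- A 2-element fixes exactly one point. -/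
theorem two_elt_fixed {x : G} (hx : orderOf x = 2 ∨ orderOf x = 4) :
    ∃ p ∈ Cfsg.suzukiOvoid F m, x • p = p ∧
      ∀ r ∈ Cfsg.suzukiOvoid F m, x • r = r → r = p := by
  obtain ⟨c, hc⟩ := two_elt_conj_unip h hx
  have hx1 : c * x * c⁻¹ ≠ 1 := fun e => by
    rw [conj_eq_one_iff.1 e, orderOf_one] at hx; omega
  refine ⟨c⁻¹ • inf F, smul_mem_ovoid' c⁻¹ inf_mem, ?_, fun r hr hxr => ?_⟩
  · have e : (c * x * c⁻¹) • inf F = inf F := unip_le_stab h hc
    rw [mul_smul, mul_smul] at e
    rwa [eq_inv_smul_iff]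
  · rw [eq_inv_smul_iff]
    refine eq_inf_of_unip_fix h hc hx1 (smul_mem_ovoid' c hr) ?_
    rw [mul_smul, mul_smul, inv_smul_smul, hxr]

/-- A torus normalised by a 2-element has no nontrivial element fixing its point. -/
theorem IsTorus.inter_stab_eq_one {A : Subgroup G} (hA : IsTorus A) {x : G}
    (hxN : x ∈ Subgroup.normalizer (A : Set G)) (hx : orderOf x = 2 ∨ orderOf x = 4) {p : PP}
    (hp : p ∈ Cfsg.suzukiOvoid F m) (hxp : x • p = p) {a : G} (ha : a ∈ A) (hap : a • p = p) :
    a = 1 := by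
  by_contra ha1
  obtain ⟨d, hd, hdp⟩ := exists_move h hp
  set c : G := (⟨d, hd⟩ : G)⁻¹
  have hcp : c • p = inf F := by
    show (d⁻¹) • p = inf F
    rw [← hdp, inv_smul_smul]
  have hB : ∀ y : G, y • p = p → c * y * c⁻¹ ∈ borel F m := by
    intro y hy
    rw [mem_borel_iff, mul_smul, mul_smul, ← hcp, inv_smul_smul, hy]
  obtain ⟨e, he⟩ := two_elt_conj_unip h hx
  have hxu : c * x * c⁻¹ ∈ unip h := by
    by_contra hne
    obtain ⟨u, v, huv⟩ := exists_second_fixed h (mem_borel_iff.1 (hB x hxp)) hne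
    obtain ⟨p₀, -, -, huni⟩ := two_elt_fixed h (x := c * x * c⁻¹) (by rwa [orderOf_conj_eq])
    have h1 := huni _ inf_mem (mem_borel_iff.1 (hB x hxp))
    have h2 := huni _ (pt_mem u v) huv
    exact pt_ne_inf _ _ (h2.trans h1.symm)
  have hcomm : x * a * x⁻¹ * a⁻¹ ∈ A ∧ c * (x * a * x⁻¹ * a⁻¹) * c⁻¹ ∈ unip h := by
    refine ⟨A.mul_mem ((Subgroup.mem_normalizer_iff.1 hxN a).1 ha) (A.inv_mem ha), ?_⟩
    have h1 := (Subgroup.mem_normalizer_iff.1 (borel_le_normalizer h (hB a hap)) _).1
      ((unip h).inv_mem hxu)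
    have h2 := (unip h).mul_mem hxu h1
    convert h2 using 1
    group
  by_cases h1 : x * a * x⁻¹ * a⁻¹ = 1
  · have h2 : x ∈ A := hA.mem_of_commute h ha ha1 (by
      rw [mul_inv_eq_one] at h1; exact mul_inv_eq_iff_eq_mul.1 h1)
    exact hA.not_mem_of_two_dvd h (by rcases hx with e | e <;> rw [e] <;> norm_num) h2
  · exact (cyclic_torus_eq h hA.1 hA.2 hcomm.1 h1).1.not_conj_unip h c hcomm.2

end CfsgLib.Suzuki
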