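/-
Suzuki group: torus normalisers through a given 2-element.
-/
import Cfsg.Agent.Suzuki.TorusNormalizers
import Cfsg.Agent.Suzuki.Fixity

set_option autoImplicit false

namespace CfsgLib.Suzuki

variable {F : Type*} [Field F] {m : ℕ}

local notation "PP" => Projectivization F (Fin 4 → F)
local notation "G" => SzG F m

variable (h : IsSzField F m)
include h

theorem IsTorus.commutator_mem {A : Subgroup G} (hA : IsTorus A) {x y : G}
    (hx : x ∈ Subgroup.normalizer (A : Set G)) (hy : y ∈ Subgroup.normalizer (A : Set G)) :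
    x * y * x⁻¹ * y⁻¹ ∈ A := by
  have := finite_G h
  have := hA.1
  obtain ⟨⟨g, hg⟩, hgen⟩ := IsCyclic.exists_generator (α := A)
  have hg1 : g ≠ 1 := by
    rintro rfl
    obtain ⟨z, hz, hz1⟩ := hA.exists_ne_one h
    obtain ⟨i, hi⟩ := Subgroup.mem_zpowers_iff.1 (hgen ⟨z, hz⟩)
    have := congrArg Subtype.val hi
    exact hz1 (by simpa using this.symm)
  have hpow : ∀ n ∈ Subgroup.normalizer (A : Set G), ∃ i : ℤ, n * g * n⁻¹ = g ^ i := by
    intro n hn
    obtain ⟨i, hi⟩ := Subgroup.mem_zpowers_iff.1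
      (hgen ⟨n * g * n⁻¹, (Subgroup.mem_normalizer_iff.1 hn g).1 hg⟩)
    exact ⟨i, (congrArg Subtype.val hi).symm⟩
  obtain ⟨i, hi⟩ := hpow x hx
  obtain ⟨j, hj⟩ := hpow y hy
  have e1 : x * y * g * (x * y)⁻¹ = g ^ (i * j) := by
    calc x * y * g * (x * y)⁻¹ = x * (y * g * y⁻¹) * x⁻¹ := by group
      _ = (x * g * x⁻¹) ^ j := by rw [hj, conj_zpow]
      _ = g ^ (i * j) := by rw [hi, ← zpow_mul]
  have e2 : y * x * g * (y * x)⁻¹ = g ^ (i * j) := by
    calc y * x * g * (y * x)⁻¹ = y * (x * g * x⁻¹) * y⁻¹ := by group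
      _ = (y * g * y⁻¹) ^ i := by rw [hi, conj_zpow]
      _ = g ^ (i * j) := by rw [hj, ← zpow_mul, mul_comm]
  refine hA.mem_of_commute h hg hg1 (mul_inv_eq_iff_eq_mul.1 ?_)
  set s := y * x * g * (y * x)⁻¹ with hs
  have e3 : x * y * x⁻¹ * y⁻¹ * s * (x * y * x⁻¹ * y⁻¹)⁻¹ = s := by
    calc _ = x * y * g * (x * y)⁻¹ := by rw [hs]; group
      _ = s := e1.trans e2.symm
  -- `s` generates `A` as well
  have hsA : s ∈ A := e2 ▸ A.zpow_mem hg _
  have hs1 : s ≠ 1 := fun e => hg1 (conj_eq_one_iff.1 e)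
  have hcA : x * y * x⁻¹ * y⁻¹ ∈ A :=
    hA.mem_of_commute h hsA hs1 (mul_inv_eq_iff_eq_mul.1 e3)
  let : CommGroup A := hA.1.commGroup
  have e4 : x * y * x⁻¹ * y⁻¹ * g = g * (x * y * x⁻¹ * y⁻¹) :=
    congrArg Subtype.val (mul_comm (⟨_, hcA⟩ : A) ⟨g, hg⟩)
  rw [e4, mul_inv_cancel_right]

theorem IsTorus.solvable_normalizer {A : Subgroup G} (hA : IsTorus A) :
    Group.IsSolvable (Subgroup.normalizer (A : Set G)) := by
  set N := Subgroup.normalizer (A : Set G)
  have hnormal : (A.subgroupOf N).Normal := IsTorus.normal_subgroupOf h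
  refine (Group.isSolvable_iff_subgroup_quotient (A.subgroupOf N)).2
    ⟨Group.isSolvable_of_comm fun a b => Subtype.ext (Subtype.ext ?_),
      Group.isSolvable_of_comm fun a b => ?_⟩
  · let : CommGroup A := hA.1.commGroup
    show (a.1.1 : G) * b.1.1 = b.1.1 * a.1.1
    exact congrArg Subtype.val
      (mul_comm (⟨(a.1.1 : G), Subgroup.mem_subgroupOf.1 a.2⟩ : A) ⟨b.1.1, Subgroup.mem_subgroupOf.1 b.2⟩)
  · obtain ⟨x, rfl⟩ := QuotientGroup.mk_surjective a
    obtain ⟨y, rfl⟩ := QuotientGroup.mk_surjective b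
    rw [← QuotientGroup.mk_mul, ← QuotientGroup.mk_mul, QuotientGroup.eq, Subgroup.mem_subgroupOf]
    have h1 := hA.commutator_mem h (inv_mem y.2) (inv_mem x.2)
    convert h1 using 1
    simp [mul_assoc]

theorem stab_eq_conj {p : PP} (hp : p ∈ Cfsg.suzukiOvoid F m) :
    ∃ c : G, MulAction.stabilizer G p = conjBy c (borel F m) := by
  obtain ⟨d, hd, hdp⟩ := exists_move h hp
  exact ⟨⟨d, hd⟩, by
    rw [← hdp]
    exact MulAction.stabilizer_smul_eq_stabilizer_map_conj (⟨d, hd⟩ : G) (inf F)⟩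

theorem card_stab {p : PP} (hp : p ∈ Cfsg.suzukiOvoid F m) :
    Nat.card (MulAction.stabilizer G p) = Nat.card F ^ 2 * (Nat.card F - 1) := by
  obtain ⟨c, e⟩ := stab_eq_conj h hp
  rw [e, card_conjBy, card_borel h]

theorem solvable_stab' {p : PP} (hp : p ∈ Cfsg.suzukiOvoid F m) :
    Group.IsSolvable (MulAction.stabilizer G p) := by
  obtain ⟨c, e⟩ := stab_eq_conj h hp
  rw [e]
  have := solvable_stab h
  exact Group.isSolvable_of_surjective
    (f := ((borel F m).equivMapOfInjective _ (MulAut.conj c).injective).toMonoidHom)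
    (MulEquiv.surjective _)

/-- The part of a torus normaliser fixing the point of a normalising 2-element. -/
theorem IsTorus.card_inter_stab {A : Subgroup G} (hA : IsTorus A) {x : G}
    (hxN : x ∈ Subgroup.normalizer (A : Set G)) (hx : orderOf x = 2 ∨ orderOf x = 4) {p : PP}
    (hp : p ∈ Cfsg.suzukiOvoid F m) (hxp : x • p = p) :
    Nat.card (Subgroup.normalizer (A : Set G) ⊓ MulAction.stabilizer G p : Subgroup G) =
      torusWeight m (Nat.card A) := by
  have := finite_G h
  set N := Subgroup.normalizer (A : Set G) with hN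
  set H := N ⊓ MulAction.stabilizer G p with hH
  refine le_antisymm ?_ ?_
  · refine Nat.le_of_mul_le_mul_right ?_ (Nat.card_pos (α := A))
    rw [← hA.card_normalizer h, ← Nat.card_prod]
    refine Nat.card_le_card_of_injective (fun r : H × A =>
      (⟨(r.1 : G) * r.2, N.mul_mem (Subgroup.mem_inf.1 r.1.2).1
        (Subgroup.le_normalizer r.2.2)⟩ : N)) ?_
    rintro ⟨u, a⟩ ⟨v, b⟩ e
    have e' : (u : G) * a = (v : G) * b := congrArg Subtype.val e
    have hab : (a : G) * (b : G)⁻¹ = (u : G)⁻¹ * v := by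
      rw [eq_inv_mul_iff_mul_eq, ← mul_assoc, e', mul_inv_cancel_right]
    have h1 : (a : G) * (b : G)⁻¹ = 1 := by
      refine hA.inter_stab_eq_one h hxN hx hp hxp (A.mul_mem a.2 (A.inv_mem b.2)) ?_
      rw [hab]
      exact (MulAction.stabilizer G p).mul_mem
        ((MulAction.stabilizer G p).inv_mem (Subgroup.mem_inf.1 u.2).2) (Subgroup.mem_inf.1 v.2).2
    obtain rfl : a = b := Subtype.ext (mul_inv_eq_one.1 h1)
    rw [Subtype.ext (mul_right_cancel e') ]
  · obtain ⟨p₀, -, -, huni⟩ := two_elt_fixed h hx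
    have hfix : ∀ u : G, u * x = x * u → u • p = p := by
      intro u hu
      have h1 : x • (u • p) = u • p := by rw [← mul_smul, ← hu, mul_smul, hxp]
      exact (huni _ (smul_mem_ovoid' u hp) h1).trans (huni _ hp hxp).symm
    have hxA : x ∉ A := hA.not_mem_of_two_dvd h (by rcases hx with e | e <;> rw [e] <;> norm_num)
    obtain ⟨u, huN, hux, huo⟩ : ∃ u ∈ N, u * x = x * u ∧
        orderOf u = torusWeight m (Nat.card A) := by
      obtain ⟨t, htN, htA, hto⟩ := hA.exists_orderOf_outside h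
      have hxdvd : orderOf x ∣ torusWeight m (Nat.card A) := by
        refine orderOf_dvd_of_pow_eq_one (hA.pow_mem_eq_one h hxA ?_)
        have hnormal : (A.subgroupOf N).Normal := IsTorus.normal_subgroupOf h
        have e := pow_card_eq_one' (x := ((⟨x, hxN⟩ : N) : N ⧸ A.subgroupOf N))
        rw [← Subgroup.index, hA.index_subgroupOf h, ← QuotientGroup.mk_pow,
          QuotientGroup.eq_one_iff] at e
        exact Subgroup.mem_subgroupOf.1 e
      by_cases hxw : orderOf x = torusWeight m (Nat.card A)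
      · exact ⟨x, hxN, rfl, hxw⟩
      have hx2 : orderOf x = 2 ∧ torusWeight m (Nat.card A) = 4 := by
        unfold torusWeight at hxw hxdvd ⊢
        split_ifs at hxw hxdvd ⊢ <;> rcases hx with e | e <;> rw [e] at hxw hxdvd ⊢ <;>
          simp_all
      rw [hx2.2] at hto ⊢
      have hxx : x * x = 1 := by rw [← pow_two, ← hx2.1, pow_orderOf_eq_one]
      have hss : t ^ 2 * t ^ 2 = 1 := by
        have e := pow_orderOf_eq_one t
        rw [hto] at e
        rw [← pow_add]
        exact e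
      have hsA : t ^ 2 ∉ A := by
        refine hA.not_mem_of_two_dvd h ?_
        rw [orderOf_pow, hto]
        decide
      obtain ⟨z, hz, hz1⟩ := hA.exists_ne_one h
      have e1 := hA.invert h hxN hxA hxx hz
      have e2 := hA.invert h (N.pow_mem htN 2) hsA hss hz
      have hmem : x * t ^ 2 ∈ A := by
        refine hA.mem_of_commute h hz hz1 (mul_inv_eq_iff_eq_mul.1 ?_)
        calc x * t ^ 2 * z * (x * t ^ 2)⁻¹ = x * (t ^ 2 * z * (t ^ 2)⁻¹) * x⁻¹ := by group
          _ = (x * z * x⁻¹)⁻¹ := by rw [e2]; group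
          _ = z := by rw [e1, inv_inv]
      obtain ⟨a, ha, hxa⟩ : ∃ a ∈ A, x = a * t ^ 2 :=
        ⟨x * t ^ 2, hmem, by rw [mul_assoc, hss, mul_one]⟩
      have hodd : Odd (Nat.card A) := Nat.not_even_iff_odd.1 fun e => hA.odd_card h e.two_dvd
      obtain ⟨r, hr⟩ := hodd
      set b := a ^ (r + 1) with hb
      have hbA : b ∈ A := A.pow_mem ha _
      have hbb : b * b = a := by
        have e : a ^ Nat.card A = 1 := by
          have := congrArg Subtype.val (pow_card_eq_one' (x := (⟨a, ha⟩ : A)))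
          rwa [SubmonoidClass.coe_pow] at this
        rw [hb, ← pow_add, show r + 1 + (r + 1) = Nat.card A + 1 by omega, pow_succ, e, one_mul]
      have e3 : t ^ 2 * b⁻¹ = b * t ^ 2 := by
        have e := hA.invert h (N.pow_mem htN 2) hsA hss (A.inv_mem hbA)
        rw [inv_inv] at e
        exact mul_inv_eq_iff_eq_mul.1 e
      have hsq : b * t * b⁻¹ * (b * t * b⁻¹) = x := by
        rw [hxa, ← hbb, show b * t * b⁻¹ * (b * t * b⁻¹) = b * (t ^ 2 * b⁻¹) by
          rw [pow_two]; group, e3, mul_assoc]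
      refine ⟨b * t * b⁻¹, N.mul_mem (N.mul_mem (Subgroup.le_normalizer hbA) htN)
        (N.inv_mem (Subgroup.le_normalizer hbA)), ?_, ?_⟩
      · rw [← hsq]; group
      · rw [orderOf_conj_eq, hto]
    rw [← huo, ← Nat.card_zpowers]
    exact Subgroup.card_le_of_le (Subgroup.zpowers_le.2
      (Subgroup.mem_inf.2 ⟨huN, MulAction.mem_stabilizer_iff.2 (hfix u hux)⟩))

/-- Two torus normalisers through a 2-element meet inside the point stabiliser. -/
theorem fixed_of_mem_two_normalizers {A B : Subgroup G} (hA : IsTorus A) (hB : IsTorus B)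
    (hne : A ≠ B) {x y : G} (hx : orderOf x = 2 ∨ orderOf x = 4)
    (hxA : x ∈ Subgroup.normalizer (A : Set G)) (hxB : x ∈ Subgroup.normalizer (B : Set G))
    (hyA : y ∈ Subgroup.normalizer (A : Set G)) (hyB : y ∈ Subgroup.normalizer (B : Set G))
    {p : PP} (hp : p ∈ Cfsg.suzukiOvoid F m) (hxp : x • p = p) : y • p = p := by
  have hc : x * y * x⁻¹ * y⁻¹ = 1 := by
    by_contra hc
    exact hne (hA.eq_of_mem h hB (hA.commutator_mem h hxA hyA) (hB.commutator_mem h hxB hyB) hc)
  have hxy : x * y = y * x := by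
    rw [mul_inv_eq_one, mul_inv_eq_iff_eq_mul] at hc
    exact hc
  obtain ⟨p₀, -, -, huni⟩ := two_elt_fixed h hx
  have h1 : x • (y • p) = y • p := by rw [← mul_smul, hxy, mul_smul, hxp]
  exact (huni _ (smul_mem_ovoid' y hp) h1).trans (huni _ hp hxp).symm

/-- Elements of order four fall into two classes, interchanged by inversion. -/
theorem order_four_to_std {y : G} (hy : orderOf y = 4) :
    ∃ c : G, c * y * c⁻¹ = uE h 1 0 ∨ c * y⁻¹ * c⁻¹ = uE h 1 0 := by
  have := h.finite
  obtain ⟨c, hc⟩ := two_elt_conj_unip h (Or.inr hy)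
  obtain ⟨a, b, e⟩ := exists_uE h hc
  have ha : a ≠ 0 := (orderOf_uE_iff h a b).1.1 (by rw [← e, orderOf_conj_eq, hy])
  obtain ⟨t₀, ht₀⟩ := h.sg_bijective.2 a⁻¹
  have ht0 : t₀ ≠ 0 := fun e' => inv_ne_zero ha (by rw [← ht₀, e', sg_zero])
  set t := Units.mk0 t₀ ht0
  set b₁ := sg m t₀ * t₀ ^ 2 * b with hb₁
  have e1 : dE h t * c * y * (dE h t * c)⁻¹ = uE h 1 b₁ := by
    rw [show dE h t * c * y * (dE h t * c)⁻¹ = dE h t * (c * y * c⁻¹) * (dE h t)⁻¹ by group, e,
      dE_conj, Units.val_mk0, ht₀, inv_mul_cancel₀ ha, hb₁, ht₀]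
  -- the image of `s ↦ σ s + s` has index two
  let φ : F →+ F := AddMonoidHom.mk' (fun s => sg m s + s) fun s r => by rw [h.sg_add]; ring
  have hker : (φ.ker : Set F) ⊆ {0, 1} := by
    intro s hs
    have hs' : sg m s + s = 0 := hs
    have h1 : sg m s = s := by linear_combination hs' - s * h.two_eq_zero
    have h2 := h.sg_sg s
    rw [h1, h1] at h2
    by_cases hs0 : s = 0
    · exact Or.inl hs0
    · refine Or.inr (mul_left_cancel₀ hs0 ?_)
      rw [mul_one, ← pow_two]
      exact h2.symm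
  have hcard : Nat.card F ≤ 2 * (φ.range : Set F).ncard := by
    rw [← φ.ker.card_mul_index, AddSubgroup.index_ker]
    refine Nat.mul_le_mul ?_ (le_of_eq (Nat.card_coe_set_eq _))
    exact (le_of_eq (Nat.card_coe_set_eq _)).trans
      ((Set.ncard_le_ncard hker (Set.toFinite _)).trans
        ((Set.ncard_insert_le _ _).trans (by rw [Set.ncard_singleton])))
  have hcase : b₁ ∈ φ.range ∨ b₁ + 1 ∈ φ.range := by
    by_contra hno
    simp only [not_or] at hno
    have hdisj : Disjoint (φ.range : Set F) ((fun s => s + 1) '' (φ.range : Set F)) := by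
      rw [Set.disjoint_left]
      rintro s hs ⟨r, hr, rfl⟩
      obtain ⟨k, hk⟩ := φ.range.sub_mem hs hr
      apply h.corner_ne_zero k
      have hk' : sg m k + k = r + 1 - r := hk
      linear_combination hk' + h.two_eq_zero
    have hsub : (φ.range : Set F) ∪ (fun s => s + 1) '' (φ.range : Set F) ⊆ {b₁}ᶜ := by
      rintro s (hs | ⟨r, hr, rfl⟩) e'
      · exact hno.1 (by rw [Set.mem_singleton_iff] at e'; exact e' ▸ hs)
      · rw [Set.mem_singleton_iff] at e'
        refine hno.2 ?_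
        rw [← e', add_assoc, show (1 : F) + 1 = 0 by linear_combination h.two_eq_zero, add_zero]
        exact hr
    have h1 := Set.ncard_le_ncard hsub (Set.toFinite _)
    rw [Set.ncard_union_eq hdisj (Set.toFinite _) (Set.toFinite _),
      Set.ncard_image_of_injective _ (add_left_injective 1)] at h1
    have h2 := Set.ncard_add_ncard_compl ({b₁} : Set F)
    rw [Set.ncard_singleton] at h2
    omega
  rcases hcase with ⟨s, hs⟩ | ⟨s, hs⟩
  · refine ⟨uE h s 0 * (dE h t * c), Or.inl ?_⟩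
    rw [show uE h s 0 * (dE h t * c) * y * (uE h s 0 * (dE h t * c))⁻¹ =
      uE h s 0 * (dE h t * c * y * (dE h t * c)⁻¹) * (uE h s 0)⁻¹ by group, e1, uE_conj]
    congr 1
    have hs' : sg m s + s = b₁ := hs
    rw [sg_one]
    linear_combination hs' + b₁ * h.two_eq_zero
  · refine ⟨uE h s 0 * (dE h t * c), Or.inr ?_⟩
    rw [show uE h s 0 * (dE h t * c) * y⁻¹ * (uE h s 0 * (dE h t * c))⁻¹ =
      uE h s 0 * (dE h t * c * y * (dE h t * c)⁻¹)⁻¹ * (uE h s 0)⁻¹ by group, e1, uE_inv, uE_conj]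
    congr 1
    have hs' : sg m s + s = b₁ + 1 := hs
    rw [sg_one]
    linear_combination hs' + (b₁ + 1) * h.two_eq_zero

/-- The number of elements of a prescribed 2-power order. -/
theorem card_two_elts {d : ℕ} (hd : d = 2 ∨ d = 4) :
    Nat.card {x : G // orderOf x = d} =
      (Nat.card F ^ 2 + 1) * Nat.card {u : unip h // orderOf (u : G) = d} := by
  have := h.finite
  rw [← card_ovoid F m, ← Nat.card_prod]
  symm
  choose c hcS hc using fun p : Cfsg.suzukiOvoid F m => exists_move h p.2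
  let cE : Cfsg.suzukiOvoid F m → G := fun p => ⟨c p, hcS p⟩
  have hcE : ∀ p, cE p • inf F = (p : PP) := hc
  refine Nat.card_congr (Equiv.ofBijective
    (fun r => ⟨cE r.1 * (r.2.1 : G) * (cE r.1)⁻¹, by rw [orderOf_conj_eq]; exact r.2.2⟩) ⟨?_, ?_⟩)
  · rintro ⟨p, u⟩ ⟨q, v⟩ e
    have e' : cE p * (u.1 : G) * (cE p)⁻¹ = cE q * (v.1 : G) * (cE q)⁻¹ := congrArg Subtype.val e
    obtain ⟨p₀, -, -, huni⟩ := two_elt_fixed h (x := cE p * (u.1 : G) * (cE p)⁻¹)
      (by rw [orderOf_conj_eq, u.2]; exact hd)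
    have hfix : ∀ (r : Cfsg.suzukiOvoid F m) (w : unip h),
        (cE r * (w : G) * (cE r)⁻¹) • (r : PP) = r := by
      intro r w
      rw [← hcE r, mul_smul, mul_smul, inv_smul_smul]
      congr 1
      exact unip_le_stab h w.2
    have hpq : p = q := Subtype.ext ((huni _ p.2 (hfix p u.1)).trans
      (huni _ q.2 (by rw [e']; exact hfix q v.1)).symm)
    subst hpq
    rw [Subtype.ext (Subtype.ext (mul_left_cancel (mul_right_cancel e')))]
  · rintro ⟨x, hx⟩
    obtain ⟨p₀, hp₀, hxp, huni⟩ := two_elt_fixed h (x := x) (by rw [hx]; exact hd)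
    set k := cE ⟨p₀, hp₀⟩
    have hk : k • inf F = p₀ := hcE ⟨p₀, hp₀⟩
    have hu : k⁻¹ * x * k ∈ unip h := by
      by_contra hne
      have h1 : (k⁻¹ * x * k) • inf F = inf F := by
        rw [mul_smul, mul_smul, hk, hxp, ← hk, inv_smul_smul]
      obtain ⟨s, r, hsr⟩ := exists_second_fixed h h1 hne
      rw [mul_smul, mul_smul, inv_smul_eq_iff] at hsr
      have h2 := huni _ (smul_mem_ovoid' k (pt_mem s r)) hsr
      exact pt_ne_inf _ _ ((smul_left_cancel_iff k).1 (h2.trans hk.symm))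
    refine ⟨(⟨p₀, hp₀⟩, ⟨⟨_, hu⟩, ?_⟩), Subtype.ext ?_⟩
    · show orderOf (k⁻¹ * x * k) = d
      rw [show k⁻¹ * x * k = k⁻¹ * x * k⁻¹⁻¹ by group, orderOf_conj_eq, hx]
    · show k * (k⁻¹ * x * k) * k⁻¹ = x
      group

theorem card_unip_two : Nat.card {u : unip h // orderOf (u : G) = 2} = Nat.card F - 1 := by
  have := h.finite
  rw [← Nat.card_units]
  refine (Nat.card_congr (Equiv.ofBijective
    (fun b : Fˣ => ⟨⟨uE h 0 (b : F), uE_mem h _ _⟩, orderOf_uE_two h b.ne_zero⟩) ⟨?_, ?_⟩)).symm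
  · intro b c e
    exact Units.ext (uE_inj h (congrArg (fun z : {u : unip h // orderOf (u : G) = 2} => z.1.1) e)).2
  · rintro ⟨⟨u, hu⟩, ho⟩
    obtain ⟨a, b, rfl⟩ := exists_uE h hu
    obtain ⟨rfl, hb⟩ := (orderOf_uE_iff h a b).2.1 ho
    exact ⟨Units.mk0 b hb, rfl⟩

theorem card_unip_four :
    Nat.card {u : unip h // orderOf (u : G) = 4} = (Nat.card F - 1) * Nat.card F := by
  have := h.finite
  rw [← Nat.card_units, ← Nat.card_prod]
  refine (Nat.card_congr (Equiv.ofBijective (fun r : Fˣ × F =>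
    ⟨⟨uE h (r.1 : F) r.2, uE_mem h _ _⟩, orderOf_uE_four h r.1.ne_zero r.2⟩) ⟨?_, ?_⟩)).symm
  · intro b c e
    obtain ⟨e1, e2⟩ :=
      uE_inj h (congrArg (fun z : {u : unip h // orderOf (u : G) = 4} => z.1.1) e)
    exact Prod.ext (Units.ext e1) e2
  · rintro ⟨⟨u, hu⟩, ho⟩
    obtain ⟨a, b, rfl⟩ := exists_uE h hu
    exact ⟨(Units.mk0 a ((orderOf_uE_iff h a b).1.1 ho), b), rfl⟩

theorem exists_torus {k : ℕ} (hk : k ∈ torusOrders m) :
    ∃ A : Subgroup G, IsTorus A ∧ Nat.card A = k := by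
  obtain ⟨A₀, B₀, hA₀, hB₀, cA, cB, -, -, -⟩ := exists_fpf_tori h
  simp only [torusOrders, Set.mem_insert_iff, Set.mem_singleton_iff] at hk
  rcases hk with rfl | rfl | rfl
  · exact ⟨torus h, ⟨isCyclic_torus h, by rw [card_torus, h.card]; exact Set.mem_insert _ _⟩,
      by rw [card_torus, h.card]⟩
  · exact ⟨A₀, ⟨hA₀.isCyclic h, by rw [cA]; exact Set.mem_insert_of_mem _ (Set.mem_insert _ _)⟩, cA⟩
  · exact ⟨B₀, ⟨hB₀.isCyclic h,
      by rw [cB]; exact Set.mem_insert_of_mem _ (Set.mem_insert_of_mem _ rfl)⟩, cB⟩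

/-- The tori of order `k` normalised by `x`. -/
def toriThrough (x : SzG F m) (k : ℕ) : Set (Subgroup (SzG F m)) :=
  {B | IsTorus B ∧ Nat.card B = k ∧ x ∈ Subgroup.normalizer (B : Set (SzG F m))}

omit h in
theorem ncard_toriThrough_conj (c x : G) (k : ℕ) :
    (toriThrough (c * x * c⁻¹) k).ncard = (toriThrough x k).ncard := by
  have key : ∀ (d y : G) (B : Subgroup G), B ∈ toriThrough y k →
      conjBy d B ∈ toriThrough (d * y * d⁻¹) k := by
    rintro d y B ⟨⟨hB, hB'⟩, e, hy⟩
    have e' : Nat.card (conjBy d B) = Nat.card B :=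
      Subgroup.card_map_of_injective (MulAut.conj d).injective
    refine ⟨⟨(B.equivMapOfInjective _ (MulAut.conj d).injective).isCyclic.1 hB, e' ▸ hB'⟩,
      e'.trans e, Subgroup.mem_normalizer_iff.2 fun z => ?_⟩
    rw [mem_conjBy, mem_conjBy, Subgroup.mem_normalizer_iff.1 hy (d⁻¹ * z * d)]
    constructor <;> intro hh <;> convert hh using 1 <;> group
  have e : toriThrough (c * x * c⁻¹) k = conjBy c '' toriThrough x k := by
    ext B
    constructor
    · intro hB
      refine ⟨conjBy c⁻¹ B, ?_, by rw [conjBy_conjBy, mul_inv_cancel, conjBy_one]⟩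
      have := key c⁻¹ _ _ hB
      rwa [show c⁻¹ * (c * x * c⁻¹) * c⁻¹⁻¹ = x by group] at this
    · rintro ⟨D, hD, rfl⟩
      exact key c x D hD
  rw [e, Set.ncard_image_of_injective]
  intro B D hBD
  have := congrArg (conjBy c⁻¹) hBD
  rwa [conjBy_conjBy, conjBy_conjBy, inv_mul_cancel, conjBy_one, conjBy_one] at this

omit h in
theorem toriThrough_inv (x : G) (k : ℕ) : toriThrough x⁻¹ k = toriThrough x k := by
  ext B
  simp only [toriThrough, Set.mem_setOf_eq, inv_mem_iff]

/-- The number of tori of order `k` normalised by an element of order `d`. -/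
theorem ncard_toriThrough {x : G} {d k : ℕ} (hd : d = 2 ∨ d = 4) (hx : orderOf x = d)
    (hk : k ∈ torusOrders m) (hdw : d ∣ torusWeight m k) :
    (toriThrough x k).ncard * Nat.card {y : G // orderOf y = d} * torusWeight m k =
      Nat.card G * d.totient := by
  classical
  have := finite_G h
  let : Fintype G := Fintype.ofFinite G
  have hconst : ∀ y : {y : G // orderOf y = d},
      Nat.card (toriThrough (y : G) k) = (toriThrough x k).ncard := by
    rintro ⟨y, hy⟩
    rw [Nat.card_coe_set_eq]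
    have key : ∀ z : G, orderOf z = d → ∃ w : G, (toriThrough z k).ncard = (toriThrough w k).ncard ∧
        (d = 2 → w = uE h 0 1) ∧ (d = 4 → w = uE h 1 0) := by
      intro z hz
      rcases hd with rfl | rfl
      · obtain ⟨c, hc⟩ := involution_to_std h (g := z) (fun e => by rw [e, orderOf_one] at hz; omega)
          (by rw [← pow_two, ← hz, pow_orderOf_eq_one])
        exact ⟨_, by rw [← hc, ncard_toriThrough_conj], fun _ => rfl, fun e => absurd e (by omega)⟩
      · obtain ⟨c, hc | hc⟩ := order_four_to_std h hz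
        · exact ⟨_, by rw [← hc, ncard_toriThrough_conj], fun e => absurd e (by omega), fun _ => rfl⟩
        · exact ⟨_, by rw [← hc, ncard_toriThrough_conj, toriThrough_inv],
            fun e => absurd e (by omega), fun _ => rfl⟩
    obtain ⟨w, hw, hw2, hw4⟩ := key y hy
    obtain ⟨v, hv, hv2, hv4⟩ := key x hx
    rw [hw, hv]
    rcases hd with e | e
    · rw [hw2 e, hv2 e]
    · rw [hw4 e, hv4 e]
  obtain ⟨A, hA, hAk⟩ := exists_torus h hk
  let T := {B : Subgroup G // IsTorus B ∧ Nat.card B = k}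
  let Y := {y : G // orderOf y = d}
  have : Finite (Subgroup G) := inferInstance
  let : Fintype T := Fintype.ofFinite T
  let : Fintype Y := Fintype.ofFinite Y
  have e1 : Nat.card (Σ y : Y, toriThrough (y : G) k) = (toriThrough x k).ncard * Nat.card Y := by
    rw [Nat.card_sigma, Finset.sum_congr rfl fun y _ => hconst y, Finset.sum_const,
      Finset.card_univ, Nat.card_eq_fintype_card, smul_eq_mul, mul_comm]
  have e2 : Nat.card (Σ B : T, {n : G // n ∈ Subgroup.normalizer ((B : Subgroup G) : Set G) ∧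
      orderOf n = d}) = Nat.card T * (k * d.totient) := by
    rw [Nat.card_sigma, Finset.sum_congr rfl (fun B _ => ?_), Finset.sum_const,
      Finset.card_univ, Nat.card_eq_fintype_card, smul_eq_mul]
    rw [B.2.1.card_orderOf h (by rw [B.2.2]; exact hdw) (by omega), B.2.2]
  have e3 : Nat.card (Σ y : Y, toriThrough (y : G) k) =
      Nat.card (Σ B : T, {n : G // n ∈ Subgroup.normalizer ((B : Subgroup G) : Set G) ∧
        orderOf n = d}) :=
    Nat.card_congr
      { toFun := fun r => ⟨⟨r.2.1, r.2.2.1, r.2.2.2.1⟩, ⟨r.1.1, r.2.2.2.2, r.1.2⟩⟩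
        invFun := fun r => ⟨⟨r.2.1, r.2.2.2⟩, ⟨r.1.1, r.1.2.1, r.1.2.2, r.2.2.1⟩⟩
        left_inv := fun _ => rfl
        right_inv := fun _ => rfl }
  have e4 := hA.card_conjugates h
  rw [hAk] at e4
  rw [← e1, e3, e2, ← e4]
  ring

end CfsgLib.Suzuki
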