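/-
Suzuki group: the elements generating a solvable subgroup with a given one.
-/
import Cfsg.Agent.Suzuki.TorusCount

set_option autoImplicit false

namespace CfsgLib.Suzuki

variable {F : Type*} [Field F] {m : ℕ}

local notation "PP" => Projectivization F (Fin 4 → F)
local notation "G" => SzG F m

/-- The elements `y` for which `⟨x, y⟩` is solvable. -/
def solubilizer (x : SzG F m) : Set (SzG F m) :=
  {y | Group.IsSolvable (Subgroup.closure ({x, y} : Set (SzG F m)))}

variable (h : IsSzField F m)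
include h

theorem mem_solubilizer_iff {x y : G} : y ∈ solubilizer x ↔
    (∃ p ∈ Cfsg.suzukiOvoid F m, x • p = p ∧ y • p = p) ∨
      ∃ A : Subgroup G, IsTorus A ∧ x ∈ Subgroup.normalizer (A : Set G) ∧
        y ∈ Subgroup.normalizer (A : Set G) := by
  have hx : x ∈ Subgroup.closure ({x, y} : Set G) := Subgroup.subset_closure (Set.mem_insert _ _)
  have hy : y ∈ Subgroup.closure ({x, y} : Set G) :=
    Subgroup.subset_closure (Set.mem_insert_of_mem _ rfl)
  constructor
  · intro hs
    rcases solvable_subgroup_cases h (show Group.IsSolvable _ from hs) with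
      ⟨p, hp, hfix⟩ | ⟨A, hA, hk, hle⟩
    · exact Or.inl ⟨p, hp, hfix x hx, hfix y hy⟩
    · exact Or.inr ⟨A, ⟨hA, hk⟩, hle hx, hle hy⟩
  · have key : ∀ M : Subgroup G, Group.IsSolvable M → x ∈ M → y ∈ M → y ∈ solubilizer x := by
      intro M hM hxM hyM
      have hle : Subgroup.closure ({x, y} : Set G) ≤ M := by
        rw [Subgroup.closure_le]
        rintro z (rfl | rfl)
        · exact hxM
        · exact hyM
      exact Group.isSolvable_of_isSolvable_injective (Subgroup.inclusion_injective hle)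
    rintro (⟨p, hp, hxp, hyp⟩ | ⟨A, hA, hxA, hyA⟩)
    · exact key _ (solvable_stab' h hp) (MulAction.mem_stabilizer_iff.2 hxp)
        (MulAction.mem_stabilizer_iff.2 hyp)
    · exact key _ (hA.solvable_normalizer h) hxA hyA

theorem torusOrders_distinct :
    2 ^ (2 * m + 1) - 1 ≠ 2 ^ (2 * m + 1) + 2 ^ (m + 1) + 1 ∧
      2 ^ (2 * m + 1) - 1 ≠ 2 ^ (2 * m + 1) - 2 ^ (m + 1) + 1 ∧
      2 ^ (2 * m + 1) + 2 ^ (m + 1) + 1 ≠ 2 ^ (2 * m + 1) - 2 ^ (m + 1) + 1 := by
  have h1 := h.sigma_add_two_lt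
  have h2 := h.four_le
  omega

/-- The solubilizer of a 2-element, as a sum over the tori it normalises. -/
theorem ncard_solubilizer_two {x : G} (hx : orderOf x = 2 ∨ orderOf x = 4) :
    (solubilizer x).ncard = Nat.card F ^ 2 * (Nat.card F - 1) +
      ((toriThrough x (2 ^ (2 * m + 1) - 1)).ncard * (2 * (2 ^ (2 * m + 1) - 1 - 1)) +
        ((toriThrough x (2 ^ (2 * m + 1) + 2 ^ (m + 1) + 1)).ncard *
            (4 * (2 ^ (2 * m + 1) + 2 ^ (m + 1) + 1 - 1)) +
          (toriThrough x (2 ^ (2 * m + 1) - 2 ^ (m + 1) + 1)).ncard *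
            (4 * (2 ^ (2 * m + 1) - 2 ^ (m + 1) + 1 - 1)))) := by
  classical
  have := finite_G h
  let : Fintype G := Fintype.ofFinite G
  let : Fintype (Subgroup G) := Fintype.ofFinite _
  obtain ⟨p, hp, hxp, huni⟩ := two_elt_fixed h hx
  set S : Finset (Subgroup G) :=
    Finset.univ.filter (fun B => IsTorus B ∧ x ∈ Subgroup.normalizer (B : Set G)) with hS
  set P : Finset G := Finset.univ.filter (fun y => y • p = p) with hP
  set R : Subgroup G → Finset G :=
    fun B => Finset.univ.filter (fun y => y ∈ Subgroup.normalizer (B : Set G) ∧ y • p ≠ p) with hR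
  have hsol : solubilizer x = ↑(P ∪ S.biUnion R) := by
    ext y
    rw [mem_solubilizer_iff h]
    simp only [hP, hS, hR, Finset.coe_union, Set.mem_union, Finset.mem_coe, Finset.mem_biUnion,
      Finset.mem_filter, Finset.mem_univ, true_and]
    constructor
    · rintro (⟨r, hr, hxr, hyr⟩ | ⟨A, hA, hxA, hyA⟩)
      · left; rwa [huni r hr hxr] at hyr
      · by_cases hyp : y • p = p
        · exact Or.inl hyp
        · exact Or.inr ⟨A, ⟨hA, hxA⟩, hyA, hyp⟩
    · rintro (hyp | ⟨A, ⟨hA, hxA⟩, hyA, -⟩)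
      · exact Or.inl ⟨p, hp, hxp, hyp⟩
      · exact Or.inr ⟨A, hA, hxA, hyA⟩
  have hPc : P.card = Nat.card F ^ 2 * (Nat.card F - 1) := by
    rw [← card_stab h hp, Nat.card_eq_fintype_card]
    exact (Fintype.card_of_subtype P (by simp [hP])).symm
  have hRc : ∀ B ∈ S, (R B).card = torusWeight m (Nat.card B) * (Nat.card B - 1) := by
    intro B hB
    simp only [hS, Finset.mem_filter, Finset.mem_univ, true_and] at hB
    set N := Subgroup.normalizer (B : Set G)
    have h1 : (Finset.univ.filter (fun y => y ∈ N)).card = Nat.card N := by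
      rw [Nat.card_eq_fintype_card]
      exact (Fintype.card_of_subtype _ (by simp)).symm
    have h2 : (Finset.univ.filter (fun y => y ∈ N ∧ y • p = p)).card =
        Nat.card (N ⊓ MulAction.stabilizer G p : Subgroup G) := by
      rw [Nat.card_eq_fintype_card]
      exact (Fintype.card_of_subtype _ (by simp [Subgroup.mem_inf])).symm
    have h3 := Finset.card_filter_add_card_filter_not
      (s := Finset.univ.filter (fun y => y ∈ N)) (fun y => y • p = p)
    rw [Finset.filter_filter, Finset.filter_filter, h1, h2,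
      hB.1.card_inter_stab h hB.2 hx hp hxp, hB.1.card_normalizer h] at h3
    rw [Nat.mul_sub_one]
    exact Nat.eq_sub_of_add_eq' h3
  rw [hsol, Set.ncard_coe_finset, Finset.card_union_of_disjoint, hPc, Finset.card_biUnion]
  · congr 1
    rw [Finset.sum_congr rfl hRc]
    set k1 := 2 ^ (2 * m + 1) - 1 with hk1
    set k2 := 2 ^ (2 * m + 1) + 2 ^ (m + 1) + 1 with hk2
    set k3 := 2 ^ (2 * m + 1) - 2 ^ (m + 1) + 1 with hk3
    obtain ⟨d12, d13, d23⟩ := torusOrders_distinct h
    rw [← Finset.sum_fiberwise_of_maps_to (g := fun B : Subgroup G => Nat.card B)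
      (t := {k1, k2, k3}) (fun B hB => ?_)]
    · have hfib : ∀ k : ℕ, ∑ B ∈ S.filter (fun B : Subgroup G => Nat.card B = k),
          torusWeight m (Nat.card B) * (Nat.card B - 1) =
            (toriThrough x k).ncard * (torusWeight m k * (k - 1)) := by
        intro k
        rw [Finset.sum_congr rfl fun B hB => by rw [(Finset.mem_filter.1 hB).2],
          Finset.sum_const, smul_eq_mul]
        congr 1
        rw [← Set.ncard_coe_finset]
        congr 1
        ext B
        simp [toriThrough, hS, and_comm, and_left_comm]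
      have n12 : k1 ≠ k2 := d12
      have n13 : k1 ≠ k3 := d13
      have n23 : k2 ≠ k3 := d23
      rw [Finset.sum_insert (by simp [n12, n13]), Finset.sum_insert (by simp [n23]),
        Finset.sum_singleton, hfib, hfib, hfib]
      unfold torusWeight
      rw [if_pos hk1, if_neg d12.symm, if_neg d13.symm]
    · simp only [hS, Finset.mem_filter, Finset.mem_univ, true_and] at hB
      simpa [torusOrders] using hB.1.2
  · intro A hA B hB hne
    simp only [hS, Finset.coe_filter, Finset.mem_univ, true_and, Set.mem_setOf_eq] at hA hB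
    show Disjoint (R A) (R B)
    rw [Finset.disjoint_left]
    intro y hyA hyB
    simp only [hR, Finset.mem_filter, Finset.mem_univ, true_and] at hyA hyB
    exact hyA.2 (fixed_of_mem_two_normalizers h hA.1 hB.1 hne hx hA.2 hB.2 hyA.1 hyB.1 hp hxp)
  · rw [Finset.disjoint_left]
    intro y hy hy'
    simp only [hP, hR, Finset.mem_filter, Finset.mem_univ, true_and, Finset.mem_biUnion] at hy hy'
    obtain ⟨B, -, -, hne⟩ := hy'
    exact hne hy

theorem card_G : Nat.card G = Nat.card F ^ 2 * (Nat.card F ^ 2 + 1) * (Nat.card F - 1) :=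
  card_Sz h

/-- The weighted number of tori normalised by an involution. -/
theorem ncard_toriThrough_two {x : G} {k : ℕ} (hx : orderOf x = 2) (hk : k ∈ torusOrders m) :
    (toriThrough x k).ncard * torusWeight m k = Nat.card F ^ 2 := by
  have hq : 0 < Nat.card F - 1 := by
    have := h.sigma_add_two_lt
    have := h.four_le
    rw [h.card]; omega
  have e := ncard_toriThrough h (Or.inl rfl) hx hk (by unfold torusWeight; split_ifs <;> norm_num)
  rw [card_two_elts h (Or.inl rfl), card_unip_two h, card_G h, Nat.totient_prime Nat.prime_two] at e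
  refine Nat.eq_of_mul_eq_mul_right (Nat.mul_pos (Nat.succ_pos (Nat.card F ^ 2)) hq) ?_
  calc (toriThrough x k).ncard * torusWeight m k * ((Nat.card F ^ 2 + 1) * (Nat.card F - 1))
      = (toriThrough x k).ncard * ((Nat.card F ^ 2 + 1) * (Nat.card F - 1)) * torusWeight m k := by
        ring
    _ = _ := e
    _ = Nat.card F ^ 2 * ((Nat.card F ^ 2 + 1) * (Nat.card F - 1)) := by ring

theorem toriThrough_four_split {x : G} (hx : orderOf x = 4) :
    toriThrough x (2 ^ (2 * m + 1) - 1) = ∅ := by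
  have := finite_G h
  refine Set.eq_empty_iff_forall_notMem.2 ?_
  rintro B ⟨hB, hk, hxB⟩
  have hxA := hB.not_mem_of_two_dvd h (x := x) (by rw [hx]; norm_num)
  have hnormal : (B.subgroupOf (Subgroup.normalizer (B : Set G))).Normal :=
    IsTorus.normal_subgroupOf h
  have e := pow_card_eq_one'
    (x := ((⟨x, hxB⟩ : Subgroup.normalizer (B : Set G)) :
      Subgroup.normalizer (B : Set G) ⧸ B.subgroupOf (Subgroup.normalizer (B : Set G))))
  rw [← Subgroup.index, hB.index_subgroupOf h, ← QuotientGroup.mk_pow,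
    QuotientGroup.eq_one_iff, Subgroup.mem_subgroupOf] at e
  have h1 : orderOf x ∣ torusWeight m (Nat.card B) :=
    orderOf_dvd_of_pow_eq_one (hB.pow_mem_eq_one h hxA e)
  rw [hx, hk, torusWeight, if_pos rfl] at h1
  norm_num at h1

theorem ncard_toriThrough_four {x : G} {k : ℕ} (hx : orderOf x = 4) (hk : k ∈ torusOrders m)
    (hk1 : k ≠ 2 ^ (2 * m + 1) - 1) :
    (toriThrough x k).ncard * 4 = 2 * Nat.card F := by
  have hq : 0 < Nat.card F - 1 := by
    have := h.sigma_add_two_lt
    have := h.four_le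
    rw [h.card]; omega
  have hw : torusWeight m k = 4 := if_neg hk1
  have e := ncard_toriThrough h (Or.inr rfl) hx hk (by rw [hw])
  rw [card_two_elts h (Or.inr rfl), card_unip_four h, card_G h,
    show Nat.totient 4 = 2 from rfl, hw] at e
  refine Nat.eq_of_mul_eq_mul_right (Nat.mul_pos (Nat.mul_pos (Nat.succ_pos (Nat.card F ^ 2)) hq)
    (show 0 < Nat.card F by omega)) ?_
  calc (toriThrough x k).ncard * 4 * ((Nat.card F ^ 2 + 1) * (Nat.card F - 1) * Nat.card F)
      = (toriThrough x k).ncard * ((Nat.card F ^ 2 + 1) * ((Nat.card F - 1) * Nat.card F)) * 4 := by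
        ring
    _ = _ := e
    _ = 2 * Nat.card F * ((Nat.card F ^ 2 + 1) * (Nat.card F - 1) * Nat.card F) := by ring

theorem solubilizer_involution {x : G} (hx : orderOf x = 2) :
    (solubilizer x).ncard = Nat.card F ^ 2 * (4 * Nat.card F - 3) := by
  obtain ⟨d12, d13, -⟩ := torusOrders_distinct h
  have e1 := ncard_toriThrough_two h (k := 2 ^ (2 * m + 1) - 1) hx (Set.mem_insert _ _)
  have e2 := ncard_toriThrough_two h (k := 2 ^ (2 * m + 1) + 2 ^ (m + 1) + 1) hx
    (Set.mem_insert_of_mem _ (Set.mem_insert _ _))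
  have e3 := ncard_toriThrough_two h (k := 2 ^ (2 * m + 1) - 2 ^ (m + 1) + 1) hx
    (Set.mem_insert_of_mem _ (Set.mem_insert_of_mem _ rfl))
  rw [torusWeight, if_pos rfl] at e1
  rw [torusWeight, if_neg d12.symm] at e2
  rw [torusWeight, if_neg d13.symm] at e3
  rw [ncard_solubilizer_two h (Or.inl hx)]
  simp only [← mul_assoc, e1, e2, e3]
  have h1 := h.sigma_add_two_lt
  have h2 := h.four_le
  rw [h.card, ← Nat.mul_add, ← Nat.mul_add, ← Nat.mul_add]
  congr 1
  omega

theorem solubilizer_order_four {x : G} (hx : orderOf x = 4) :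
    (solubilizer x).ncard = Nat.card F ^ 2 * (Nat.card F + 3) := by
  obtain ⟨d12, d13, -⟩ := torusOrders_distinct h
  have e2 := ncard_toriThrough_four h hx
    (Set.mem_insert_of_mem _ (Set.mem_insert _ _)) d12.symm
  have e3 := ncard_toriThrough_four h hx
    (Set.mem_insert_of_mem _ (Set.mem_insert_of_mem _ rfl)) d13.symm
  rw [ncard_solubilizer_two h (Or.inr hx), toriThrough_four_split h hx, Set.ncard_empty,
    zero_mul, zero_add, ← mul_assoc _ 4, ← mul_assoc _ 4, e2, e3, h.card]
  have h1 := h.sigma_add_two_lt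
  obtain ⟨s, hs⟩ : ∃ s, 2 ^ (2 * m + 1) = s + 2 ^ (m + 1) + 1 :=
    ⟨2 ^ (2 * m + 1) - 2 ^ (m + 1) - 1, by omega⟩
  rw [hs]
  simp only [Nat.add_sub_cancel]
  rw [show s + 2 ^ (m + 1) + 1 - 2 ^ (m + 1) = s + 1 by omega]
  ring

/-! ### Elements of odd order -/

theorem centralizer_card_of_dvd {x : G} {k : ℕ} (hk : k ∈ torusOrders m) (hx1 : x ≠ 1)
    (hdvd : orderOf x ∣ k) :
    IsTorus (Subgroup.centralizer ({x} : Set G)) ∧
      Nat.card (Subgroup.centralizer ({x} : Set G)) = k := by
  have hne : ∀ c : G, c * x * c⁻¹ ∉ unip h := by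
    intro c hc
    have h1 := orderOf_dvd_of_mem_unip h hc
    rw [orderOf_conj_eq] at h1
    exact hx1 (orderOf_eq_one_iff.1 (Nat.eq_one_of_dvd_coprimes
      (Nat.Coprime.pow_left _ ((Nat.prime_two.coprime_iff_not_dvd).2 (torusOrders_odd h hk))) h1 hdvd))
  rcases unip_or_torusElt h hx1 with ⟨c, hc⟩ | hT
  · exact absurd hc (hne c)
  · refine ⟨⟨hT.2.1, hT.2.2⟩, ?_⟩
    by_contra hne'
    exact hx1 (orderOf_eq_one_iff.1 (Nat.eq_one_of_dvd_coprimes
      (torusOrders_coprime h hk hT.2.2 (fun e => hne' e.symm)) hdvd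
      (Subgroup.orderOf_dvd_natCard _ (Subgroup.mem_centralizer_singleton_iff.2 rfl))))

theorem tori_through_odd {x : G} {k : ℕ} (hk : k ∈ torusOrders m) (hx1 : x ≠ 1)
    (hdvd : orderOf x ∣ k) {A : Subgroup G} (hA : IsTorus A)
    (hxA : x ∈ Subgroup.normalizer (A : Set G)) : A = Subgroup.centralizer ({x} : Set G) := by
  have := finite_G h
  suffices hmem : x ∈ A from (hA.eq_centralizer h hmem hx1).symm
  by_contra hne
  have hnormal : (A.subgroupOf (Subgroup.normalizer (A : Set G))).Normal :=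
    IsTorus.normal_subgroupOf h
  have e := pow_card_eq_one'
    (x := ((⟨x, hxA⟩ : Subgroup.normalizer (A : Set G)) :
      Subgroup.normalizer (A : Set G) ⧸ A.subgroupOf (Subgroup.normalizer (A : Set G))))
  rw [← Subgroup.index, hA.index_subgroupOf h, ← QuotientGroup.mk_pow,
    QuotientGroup.eq_one_iff, Subgroup.mem_subgroupOf] at e
  have h1 : orderOf x ∣ 2 ^ 2 :=
    (orderOf_dvd_of_pow_eq_one (hA.pow_mem_eq_one h hne e)).trans
      (by unfold torusWeight; split_ifs <;> norm_num)
  exact hx1 (orderOf_eq_one_iff.1 (Nat.eq_one_of_dvd_coprimes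
    (Nat.Coprime.pow_left _ ((Nat.prime_two.coprime_iff_not_dvd).2 (torusOrders_odd h hk))) h1 hdvd))

theorem solubilizer_fpf {x : G} {k : ℕ} (hk : k ∈ torusOrders m)
    (hk1 : k ≠ 2 ^ (2 * m + 1) - 1) (hx1 : x ≠ 1) (hdvd : orderOf x ∣ k) :
    (solubilizer x).ncard = 4 * k := by
  obtain ⟨hC, hCk⟩ := centralizer_card_of_dvd h hk hx1 hdvd
  set C := Subgroup.centralizer ({x} : Set G)
  have e : solubilizer x = (Subgroup.normalizer (C : Set G) : Set G) := by
    ext y
    rw [mem_solubilizer_iff h, SetLike.mem_coe]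
    constructor
    · rintro (⟨p, hp, hxp, -⟩ | ⟨A, hA, hxA, hyA⟩)
      · exfalso
        -- `x` fixes a point, so it lies in a split torus
        obtain ⟨d, hd, hdp⟩ := exists_move h hp
        set c : G := (⟨d, hd⟩ : G)⁻¹
        have hcp : c • p = inf F := by
          show (d⁻¹) • p = inf F
          rw [← hdp, inv_smul_smul]
        have hfix : (c * x * c⁻¹) • inf F = inf F := by
          rw [mul_smul, mul_smul, ← hcp, inv_smul_smul, hxp]
        have hnu : c * x * c⁻¹ ∉ unip h := fun hu =>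
          (cyclic_torus_eq h hC.1 hC.2 (Subgroup.mem_centralizer_singleton_iff.2 rfl) hx1).1.not_conj_unip
            h c hu
        obtain ⟨a, b, hab⟩ := exists_second_fixed h hfix hnu
        obtain ⟨c', hc'⟩ := exists_conj_torus h inf_mem (pt_mem a b) (pt_ne_inf a b).symm hfix hab
        have e1 := centralizer_torus h hc' (fun e => hx1 (conj_eq_one_iff.1 (conj_eq_one_iff.1 e)))
        rw [← map_centralizer_singleton, ← map_centralizer_singleton] at e1
        have e2 := congrArg (fun K : Subgroup G => Nat.card K) e1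
        rw [Subgroup.card_map_of_injective (f := (MulAut.conj c').toMonoidHom) (MulAut.conj c').injective,
          Subgroup.card_map_of_injective (f := (MulAut.conj c).toMonoidHom) (MulAut.conj c).injective,
          card_torus, h.card] at e2
        exact hk1 (hCk.symm.trans e2)
      · rwa [tori_through_odd h hk hx1 hdvd hA hxA] at hyA
    · intro hy
      exact Or.inr ⟨C, hC, Subgroup.le_normalizer (Subgroup.mem_centralizer_singleton_iff.2 rfl), hy⟩
  rw [e, ← Nat.card_coe_set_eq]
  refine (hC.card_normalizer h).trans ?_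
  rw [hCk, torusWeight, if_neg hk1]

theorem solubilizer_split {x : G} (hx1 : x ≠ 1) (hdvd : orderOf x ∣ 2 ^ (2 * m + 1) - 1) :
    (solubilizer x).ncard = 2 * Nat.card F ^ 2 * (Nat.card F - 1) := by
  have := finite_G h
  have hk : 2 ^ (2 * m + 1) - 1 ∈ torusOrders m := Set.mem_insert _ _
  obtain ⟨hC, hCk⟩ := centralizer_card_of_dvd h hk hx1 hdvd
  set C := Subgroup.centralizer ({x} : Set G) with hCdef
  have hxC : x ∈ C := Subgroup.mem_centralizer_singleton_iff.2 rfl
  obtain ⟨c, hc⟩ : ∃ c, c * x * c⁻¹ ∈ torus h := by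
    have hT : IsTorus (torus h) :=
      ⟨isCyclic_torus h, by rw [card_torus, h.card]; exact Set.mem_insert _ _⟩
    obtain ⟨c, hc⟩ := hC.exists_conj h hT (by rw [hCk, card_torus, h.card])
    exact ⟨c, hc ▸ ⟨x, hxC, rfl⟩⟩
  set p1 := c⁻¹ • inf F with hp1
  set p2 := c⁻¹ • pt m (0 : F) 0 with hp2
  have hne1 : c * x * c⁻¹ ≠ 1 := fun e => hx1 (conj_eq_one_iff.1 e)
  have m1 : p1 ∈ Cfsg.suzukiOvoid F m := smul_mem_ovoid' c⁻¹ inf_mem
  have m2 : p2 ∈ Cfsg.suzukiOvoid F m := smul_mem_ovoid' c⁻¹ (pt_mem 0 0)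
  have hne : p1 ≠ p2 := fun e => pt_ne_inf _ _ ((smul_left_cancel_iff c⁻¹).1 e).symm
  have hx12 : x • p1 = p1 ∧ x • p2 = p2 := by
    obtain ⟨e1, e2⟩ := (mem_torus_iff h).1 hc
    rw [mul_smul, mul_smul] at e1 e2
    exact ⟨eq_inv_smul_iff.2 e1, eq_inv_smul_iff.2 e2⟩
  have honly : ∀ r ∈ Cfsg.suzukiOvoid F m, x • r = r → r = p1 ∨ r = p2 := by
    intro r hr hxr
    have e : (c * x * c⁻¹) • (c • r) = c • r := by
      rw [mul_smul, mul_smul, inv_smul_smul, hxr]
    rcases torus_fixed h hc hne1 (smul_mem_ovoid' c hr) e with e | e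
    · exact Or.inl (eq_inv_smul_iff.2 e)
    · exact Or.inr (eq_inv_smul_iff.2 e)
  have hCiff : ∀ y : G, (y • p1 = p1 ∧ y • p2 = p2) ↔ y ∈ C := by
    intro y
    have e1 : C.map (MulAut.conj c).toMonoidHom = torus h := by
      rw [hCdef, map_centralizer_singleton, centralizer_torus h hc hne1]
    have e2 : y ∈ C ↔ c * y * c⁻¹ ∈ torus h := by
      rw [← e1]
      exact (Subgroup.mem_map_iff_mem (f := (MulAut.conj c).toMonoidHom)
        (MulAut.conj c).injective).symm
    rw [e2, mem_torus_iff h, mul_smul, mul_smul, mul_smul, mul_smul]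
    constructor
    · rintro ⟨a, b⟩; exact ⟨eq_inv_smul_iff.1 a, eq_inv_smul_iff.1 b⟩
    · rintro ⟨a, b⟩; exact ⟨eq_inv_smul_iff.2 a, eq_inv_smul_iff.2 b⟩
  set N := Subgroup.normalizer (C : Set G)
  set S1 := MulAction.stabilizer G p1
  set S2 := MulAction.stabilizer G p2
  have hNfix : ∀ n ∈ N, (n • p1 = p1 ∨ n • p2 = p2) → n ∈ C := by
    intro n hn hfx
    have hperm : ∀ r, r = p1 ∨ r = p2 → n • r = p1 ∨ n • r = p2 := by
      intro r hr
      have hxn : n⁻¹ * x * n⁻¹⁻¹ ∈ C := (Subgroup.mem_normalizer_iff.1 (N.inv_mem hn) x).1 hxC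
      have h1 := (hCiff _).2 hxn
      have hr' : (n⁻¹ * x * n⁻¹⁻¹) • r = r := by
        rcases hr with rfl | rfl
        · exact h1.1
        · exact h1.2
      have hrm : r ∈ Cfsg.suzukiOvoid F m := by rcases hr with rfl | rfl <;> assumption
      rw [inv_inv, mul_smul, mul_smul, inv_smul_eq_iff] at hr'
      exact honly _ (smul_mem_ovoid' n hrm) hr'
    refine (hCiff n).1 ?_
    rcases hfx with e | e
    · refine ⟨e, (hperm p2 (Or.inr rfl)).resolve_left fun e' => ?_⟩
      exact hne ((smul_left_cancel_iff n).1 (e.trans e'.symm))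
    · refine ⟨(hperm p1 (Or.inl rfl)).resolve_right fun e' => ?_, e⟩
      exact hne ((smul_left_cancel_iff n).1 (e'.trans e.symm))
  have hset : solubilizer x = ((S1 : Set G) ∪ (S2 : Set G)) ∪ ((N : Set G) \ (C : Set G)) := by
    ext y
    rw [mem_solubilizer_iff h]
    simp only [Set.mem_union, Set.mem_diff, SetLike.mem_coe]
    constructor
    · rintro (⟨r, hr, hxr, hyr⟩ | ⟨A, hA, hxA, hyA⟩)
      · rcases honly r hr hxr with rfl | rfl
        · exact Or.inl (Or.inl hyr)
        · exact Or.inl (Or.inr hyr)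
      · rw [tori_through_odd h hk hx1 hdvd hA hxA] at hyA
        by_cases hyC : y ∈ C
        · exact Or.inl (Or.inl ((hCiff y).2 hyC).1)
        · exact Or.inr ⟨hyA, hyC⟩
    · rintro ((hy | hy) | ⟨hy, -⟩)
      · exact Or.inl ⟨p1, m1, hx12.1, hy⟩
      · exact Or.inl ⟨p2, m2, hx12.2, hy⟩
      · exact Or.inr ⟨C, hC, Subgroup.le_normalizer hxC, hy⟩
  have hinter : (S1 : Set G) ∩ (S2 : Set G) = (C : Set G) := Set.ext fun y => hCiff y
  have hdisj : Disjoint ((S1 : Set G) ∪ (S2 : Set G)) ((N : Set G) \ (C : Set G)) := by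
    rw [Set.disjoint_left]
    rintro y hy ⟨hyN, hyC⟩
    exact hyC (hNfix y hyN hy)
  have h1 := Set.ncard_union_add_ncard_inter (S1 : Set G) (S2 : Set G)
  have cS : ∀ K : Subgroup G, (K : Set G).ncard = Nat.card K := fun K =>
    (Nat.card_coe_set_eq _).symm
  have c1 : Nat.card S1 = Nat.card F ^ 2 * (Nat.card F - 1) := card_stab h m1
  have c2 : Nat.card S2 = Nat.card F ^ 2 * (Nat.card F - 1) := card_stab h m2
  rw [hinter, cS, cS, cS, c1, c2] at h1
  have hN : Nat.card N = 2 * Nat.card C := by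
    rw [hC.card_normalizer h, torusWeight, if_pos hCk]
  rw [hset, Set.ncard_union_eq hdisj (Set.toFinite _) (Set.toFinite _),
    Set.ncard_diff (show (C : Set G) ⊆ (N : Set G) from Subgroup.le_normalizer), cS, cS, hN]
  rw [show Nat.card F ^ 2 * (Nat.card F - 1) + Nat.card F ^ 2 * (Nat.card F - 1) =
    2 * Nat.card F ^ 2 * (Nat.card F - 1) by ring] at h1
  omega

end CfsgLib.Suzuki
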