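/-
The Schur multiplier of `Sz(q)` is trivial for `q > 8`.
-/
import Cfsg.Agent.Suzuki.Sylow
import Cfsg.Agent.Suzuki.SylowOdd
import Cfsg.Agent.Suzuki.Fixity
import Cfsg.Agent.SL2Mult.Criterion
import Cfsg.Agent.SL2Mult.Pairing
import Mathlib.GroupTheory.Commutator.Basic
import Mathlib.RingTheory.IntegralDomain

set_option autoImplicit false

namespace CfsgLib.Suzuki

open scoped commutatorElement

variable {F : Type*} [Field F] {m : ℕ}

local notation "G" => SzG F m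

/-- Some scalar refutes the twisted additivity. -/
theorem exists_bad_scalar [Fintype F] (h : IsSzField F m) (hm : 2 ≤ m) :
    ∃ s : F, s ≠ 0 ∧ 1 + s ≠ 0 ∧
      1 + (s * sg m s)⁻¹ ≠ ((1 + s) * sg m (1 + s))⁻¹ := by
  classical
  by_contra hc
  simp only [not_exists, not_and, not_not] at hc
  set σ := 2 ^ (m + 1) with hσ
  have hσ4 := h.four_le
  rw [← hσ] at hσ4
  open Polynomial in
  let P : F[X] := 1 + X + X ^ σ + X ^ (σ + 1) + X ^ (σ + 2) + X ^ (2 * σ + 1) + X ^ (2 * σ + 2)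
  have hcoeff : P.coeff (2 * σ + 2) = 1 := by
    simp [P, Polynomial.coeff_X, Polynomial.coeff_one, Polynomial.coeff_X_pow,
      show ¬ 2 * σ + 2 = σ by omega, show ¬ 2 * σ + 2 = σ + 1 by omega,
      show ¬ 2 * σ + 2 = σ + 2 by omega, show ¬ 2 * σ + 2 = 2 * σ + 1 by omega,
      show ¬ 2 * σ + 2 = 0 by omega, show ¬ 1 = 2 * σ + 2 by omega, show σ ≠ 0 by omega]
  have hP0 : P ≠ 0 := fun e => by rw [e, Polynomial.coeff_zero] at hcoeff; exact zero_ne_one hcoeff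
  have hdeg : P.natDegree ≤ 2 * σ + 2 := by
    simp only [P]
    compute_degree <;> omega
  have hroot : ∀ s : F, s ≠ 0 → 1 + s ≠ 0 → P.eval s = 0 := by
    intro s hs hs1
    have e := hc s hs hs1
    have h2 := h.two_eq_zero
    rw [h.sg_add, sg_one] at e
    have hS : sg m s ≠ 0 := sg_ne_zero hs
    have hS1 : 1 + sg m s ≠ 0 := by
      rw [← sg_one (m := m) (F := F), ← h.sg_add]; exact sg_ne_zero hs1
    field_simp at e
    simp only [P, Polynomial.eval_add, Polynomial.eval_one, Polynomial.eval_X, Polynomial.eval_pow]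
    have eS : sg m s = s ^ σ := rfl
    rw [eS] at e
    linear_combination e + 0 * h2
  have hsub : (Finset.univ : Finset F) ⊆ {0, -1} ∪ P.roots.toFinset := by
    intro s _
    by_cases hs : s = 0
    · simp [hs]
    by_cases hs1 : 1 + s = 0
    · simp [show s = -1 by linear_combination hs1]
    refine Finset.mem_union_right _ ?_
    rw [Multiset.mem_toFinset, Polynomial.mem_roots']
    exact ⟨hP0, hroot s hs hs1⟩
  have h1 := (Finset.card_le_card hsub).trans (Finset.card_union_le _ _)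
  have h2 : P.roots.toFinset.card ≤ 2 * σ + 2 :=
    (Multiset.toFinset_card_le _).trans ((Polynomial.card_roots' _).trans hdeg)
  have h3 : ({0, -1} : Finset F).card ≤ 2 := Finset.card_le_two
  rw [Finset.card_univ, ← Nat.card_eq_fintype_card, h.card] at h1
  have h4 : 2 * σ + 4 < 2 ^ (2 * m + 1) := by
    have e : 2 ^ (2 * m + 1) = σ * 2 ^ m := by rw [hσ, ← pow_add]; ring_nf
    have e2 : 4 ≤ 2 ^ m := by simpa using Nat.pow_le_pow_right (by norm_num : 0 < 2) hm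
    rw [e]
    calc 2 * σ + 4 < σ * 4 := by omega
      _ ≤ σ * 2 ^ m := Nat.mul_le_mul_left _ e2
  omega

/-- The centre of the unipotent group. -/
def cenHom (h : IsSzField F m) : Multiplicative F →* G where
  toFun b := uE h 0 (Multiplicative.toAdd b)
  map_one' := uE_zero h
  map_mul' a b := by
    rw [uE_mul]
    simp

theorem uE_mem_cen (h : IsSzField F m) (b : F) : uE h 0 b ∈ (cenHom h).range :=
  ⟨Multiplicative.ofAdd b, rfl⟩

theorem commutator_uE_mem (h : IsSzField F m) {x y : G} (hx : x ∈ unip h) (hy : y ∈ unip h) :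
    ⁅x, y⁆ ∈ (cenHom h).range := by
  obtain ⟨a, b, rfl⟩ := exists_uE h hx
  obtain ⟨c, d, rfl⟩ := exists_uE h hy
  rw [commutatorElement_def, uE_conj, uE_inv, uE_mul, show c + c = 0 from by linear_combination c * h.two_eq_zero]
  exact uE_mem_cen h _

section

variable {Γ : Type*} [Group Γ] [Finite Γ]

/-- The kernel part of the commutator subgroup of the preimage of `U` is trivial. -/
theorem eq_one_of_mem_commutator [Fintype F] (h : IsSzField F m) (hm : 2 ≤ m) {σ : Γ →* G}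
    (hσ : Cfsg.IsStemExtension σ) {z : Γ} (hz : σ z = 1) {k : ℕ} (hzo : orderOf z = 2 ^ k)
    (hzc : z ∈ ⁅(unip h).comap σ, (unip h).comap σ⁆) : z = 1 := by
  classical
  have := h.finite
  have hK : ∀ w, σ w = 1 → ∀ x, x * w = w * x := fun w hw x =>
    Subgroup.mem_center_iff.1 (hσ.2.1 hw) x
  obtain ⟨l, hl⟩ : ∃ l : G → Γ, ∀ g, σ (l g) = g :=
    ⟨Function.surjInv hσ.1, Function.surjInv_eq hσ.1⟩
  have hind : ∀ x x' y y' : Γ, σ x = σ x' → σ y = σ y' → ⁅x, y⁆ = ⁅x', y'⁆ := by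
    intro x x' y y' hx hy
    obtain ⟨u, hu, rfl⟩ : ∃ u, σ u = 1 ∧ x = x' * u :=
      ⟨x'⁻¹ * x, by rw [map_mul, map_inv, hx, inv_mul_cancel], by group⟩
    obtain ⟨w, hw, rfl⟩ : ∃ w, σ w = 1 ∧ y = y' * w :=
      ⟨y'⁻¹ * y, by rw [map_mul, map_inv, hy, inv_mul_cancel], by group⟩
    rw [commutatorElement_def, commutatorElement_def]
    calc x' * u * (y' * w) * (x' * u)⁻¹ * (y' * w)⁻¹
        = x' * (u * (y' * w)) * u⁻¹ * x'⁻¹ * w⁻¹ * y'⁻¹ := by group
      _ = x' * y' * (w * x'⁻¹) * w⁻¹ * y'⁻¹ := by rw [← hK u hu (y' * w)]; group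
      _ = x' * y' * x'⁻¹ * y'⁻¹ := by rw [← hK w hw x'⁻¹]; group
  -- commutators against a product
  have hmul_left : ∀ x x' y : Γ, (∀ w, w * ⁅x', y⁆ = ⁅x', y⁆ * w) →
      ⁅x * x', y⁆ = ⁅x, y⁆ * ⁅x', y⁆ := fun x x' y hc => by
    calc ⁅x * x', y⁆ = (x * ⁅x', y⁆) * x⁻¹ * ⁅x, y⁆ := by
          rw [commutatorElement_def, commutatorElement_def, commutatorElement_def]; group
      _ = ⁅x', y⁆ * ⁅x, y⁆ := by rw [hc x]; group
      _ = _ := (hc _).symm
  have hmul_right : ∀ x y y' : Γ, (∀ w, w * ⁅x, y'⁆ = ⁅x, y'⁆ * w) →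
      ⁅x, y * y'⁆ = ⁅x, y⁆ * ⁅x, y'⁆ := fun x y y' hc => by
    calc ⁅x, y * y'⁆ = ⁅x, y⁆ * ((y * ⁅x, y'⁆) * y⁻¹) := by
          rw [commutatorElement_def, commutatorElement_def, commutatorElement_def]; group
      _ = _ := by rw [hc y, mul_inv_cancel_right]
  let l2 : F → Γ := fun b => l (uE h 0 b)
  let l1 : F → Γ := fun a => l (uE h a 0)
  have h2add : ∀ b c, σ (l2 (b + c)) = σ (l2 b * l2 c) := fun b c => by
    simp only [l2, map_mul, hl, uE_mul]
    simp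
  have hcenK : ∀ x y : Γ, σ x * σ y = σ y * σ x → ∀ w, w * ⁅x, y⁆ = ⁅x, y⁆ * w := fun x y e =>
    hK _ (by rw [map_commutatorElement, commutatorElement_eq_one_iff_mul_comm]; exact e)
  have hc22 : ∀ b c, σ (l2 b) * σ (l2 c) = σ (l2 c) * σ (l2 b) := fun b c => by
    simp only [l2, hl, uE_mul, sg_zero, zero_mul, add_comm b c]
  have hc12 : ∀ a c, σ (l1 a) * σ (l2 c) = σ (l2 c) * σ (l1 a) := fun a c => by
    simp only [l1, l2, hl, uE_mul, sg_zero, zero_mul, mul_zero]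
    simp
  have hconj1 : ∀ (t : Fˣ) a, σ (l (dE h t) * l1 a * (l (dE h t))⁻¹) = σ (l1 (sg m (t : F) * a)) :=
    fun t a => by simp only [l1, map_mul, map_inv, hl, dE_conj, mul_zero]
  have hconj2 : ∀ (t : Fˣ) b,
      σ (l (dE h t) * l2 b * (l (dE h t))⁻¹) = σ (l2 (sg m (t : F) * (t : F) ^ 2 * b)) :=
    fun t b => by simp only [l2, map_mul, map_inv, hl, dE_conj, mul_zero]
  have hcardF : 4 < Fintype.card F := by
    rw [← Nat.card_eq_fintype_card, h.card]
    calc 4 < 2 ^ 3 := by norm_num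
      _ ≤ 2 ^ (2 * m + 1) := Nat.pow_le_pow_right (by norm_num) (by omega)
  -- the preimage of the centre is abelian
  have hβ : ∀ b c, ⁅l2 b, l2 c⁆ = 1 := by
    refine CfsgLib.SL2Mult.pairing_trivial (fun b c => ⁅l2 b, l2 c⁆) (fun a b c => ?_)
      (fun a b c => ?_) (fun s hs a b => ?_) (fun _ => hcardF) (fun h2 => absurd h.two_eq_zero h2)
    · show ⁅l2 (a + b), l2 c⁆ = _
      rw [hind _ (l2 a * l2 b) _ (l2 c) (h2add a b) rfl]
      exact hmul_left _ _ _ (hcenK _ _ (hc22 b c))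
    · show ⁅l2 a, l2 (b + c)⁆ = _
      rw [hind _ (l2 a) _ (l2 b * l2 c) rfl (h2add b c)]
      exact hmul_right _ _ _ (hcenK _ _ (hc22 a c))
    · obtain ⟨t, ht⟩ := exists_lam_eq h (pow_ne_zero 2 hs)
      rw [lam] at ht
      show ⁅l2 (s ^ 2 * a), l2 (s ^ 2 * b)⁆ = ⁅l2 a, l2 b⁆
      rw [← ht, hind _ _ _ _ (hconj2 t a).symm (hconj2 t b).symm, ← conjugate_commutatorElement,
        hcenK _ _ (hc22 a b), mul_inv_cancel_right]
  -- and central in the preimage of U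
  have hγ : ∀ a c, ⁅l1 a, l2 c⁆ = 1 := by
    obtain ⟨s, hs, hs1, hbad⟩ := exists_bad_scalar h hm
    have hl1add : ∀ a a' : F, ∀ c, ⁅l1 (a + a'), l2 c⁆ = ⁅l1 a, l2 c⁆ * ⁅l1 a', l2 c⁆ := by
      intro a a' c
      rw [hind _ (l1 a * l1 a' * l2 (sg m a * a')) _ (l2 c) ?_ rfl]
      · rw [hmul_left _ _ _ (hcenK _ _ (hc22 _ c)), hβ, mul_one,
          hmul_left _ _ _ (hcenK _ _ (hc12 a' c))]
      · simp only [l1, l2, map_mul, hl, uE_mul, sg_zero, zero_mul, add_zero, zero_add]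
        congr 1
        linear_combination -(sg m a * a') * h.two_eq_zero
    have hl2add : ∀ a c c' : F, ⁅l1 a, l2 (c + c')⁆ = ⁅l1 a, l2 c⁆ * ⁅l1 a, l2 c'⁆ := by
      intro a c c'
      rw [hind _ (l1 a) _ (l2 c * l2 c') rfl (h2add c c')]
      exact hmul_right _ _ _ (hcenK _ _ (hc12 a c'))
    have hshift : ∀ u : F, u ≠ 0 → ∀ a c, ⁅l1 (u * a), l2 c⁆ = ⁅l1 a, l2 ((u * sg m u)⁻¹ * c)⁆ := by
      intro u hu a c
      obtain ⟨t, ht⟩ := (h.sg_bijective).2 u
      have ht0 : t ≠ 0 := fun e => hu (by rw [← ht, e, sg_zero])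
      have e := hind _ _ _ _ (hconj1 (Units.mk0 t ht0) a) (hconj2 (Units.mk0 t ht0) ((u * sg m u)⁻¹ * c))
      rw [← conjugate_commutatorElement, hcenK _ _ (hc12 _ _), mul_inv_cancel_right, Units.val_mk0,
        ← h.sg_sg t, ht, ← mul_assoc, mul_inv_cancel₀ (mul_ne_zero hu (sg_ne_zero hu)), one_mul] at e
      exact e.symm
    intro a c
    set μ := (s * sg m s)⁻¹
    set μ' := ((1 + s) * sg m (1 + s))⁻¹
    have hne : 1 + μ + μ' ≠ 0 := fun e => hbad (by linear_combination e - μ' * h.two_eq_zero)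
    have key : ∀ c, ⁅l1 a, l2 ((1 + μ + μ') * c)⁆ = 1 := by
      intro c
      have e1 : ⁅l1 a, l2 ((1 + μ) * c)⁆ = ⁅l1 a, l2 (μ' * c)⁆ := by
        rw [← hshift (1 + s) hs1, add_mul 1 s, one_mul, hl1add, hshift s hs, add_mul 1 μ, one_mul,
          hl2add]
      rw [add_mul, hl2add, e1, ← hl2add, show μ' * c + μ' * c = 0 by linear_combination (μ' * c) * h.two_eq_zero]
      have := hl2add a 0 0
      rw [add_zero] at this
      exact left_eq_mul.1 this
    have := key ((1 + μ + μ')⁻¹ * c)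
    rwa [← mul_assoc, mul_inv_cancel₀ hne, one_mul] at this
  -- the preimage Z of the centre, with the twist by the torus
  set Z : Subgroup Γ := (cenHom h).range.comap σ with hZ
  set U : Subgroup Γ := (unip h).comap σ with hU
  have hdecZ : ∀ w ∈ Z, ∃ b, σ w = uE h 0 b := fun w ⟨b, hb⟩ => ⟨Multiplicative.toAdd b, hb.symm⟩
  have hZcen : ∀ x ∈ U, ∀ w ∈ Z, x * w = w * x := by
    intro x hx w hw
    obtain ⟨a, b, e⟩ := exists_uE h hx
    obtain ⟨c, hc⟩ := hdecZ w hw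
    refine commutatorElement_eq_one_iff_mul_comm.1 ?_
    rw [hind x (l1 a * l2 b) w (l2 c) (by simp [l1, l2, hl, uE_mul, e]) (by simp [l2, hl, hc]),
      hmul_left _ _ _ (hcenK _ _ (hc22 b c)), hβ, hγ, one_mul]
  have hZU : Z ≤ U := fun w hw => by
    obtain ⟨b, hb⟩ := hdecZ w hw
    show σ w ∈ unip h
    rw [hb]
    exact ⟨0, b, rfl⟩
  let _ : CommGroup Z :=
    { (inferInstance : Group Z) with mul_comm := fun x y => Subtype.ext (hZcen x (hZU x.2) y y.2) }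
  obtain ⟨g, hg⟩ := IsCyclic.exists_monoid_generator (α := Fˣ)
  set d := l (dE h g) with hd
  have hdZ : ∀ w ∈ Z, d * w * d⁻¹ ∈ Z := by
    intro w hw
    obtain ⟨b, hb⟩ := hdecZ w hw
    show σ (d * w * d⁻¹) ∈ (cenHom h).range
    rw [map_mul, map_mul, map_inv, hd, hl, hb, dE_conj, mul_zero]
    exact uE_mem_cen h _
  let ψ : Z →* Z :=
    { toFun := fun w => ⟨d * w * d⁻¹, hdZ w w.2⟩
      map_one' := Subtype.ext (by simp)
      map_mul' := fun a b => Subtype.ext (by simp only [Subgroup.coe_mul]; group) }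
  have hψ : ∀ (i : ℕ) (w : Z), ((ψ^[i] w : Z) : Γ) = d ^ i * w * (d ^ i)⁻¹ := by
    intro i w
    induction i with
    | zero => simp
    | succ i ih =>
      rw [Function.iterate_succ_apply']
      show d * ((ψ^[i] w : Z) : Γ) * d⁻¹ = _
      rw [ih, pow_succ']
      group
  set o := Nat.card Fˣ with ho
  have hdo : σ (d ^ o) = 1 := by
    rw [map_pow, hd, hl, ← map_pow, ho, pow_card_eq_one', map_one]
  have hψo : ∀ w : Z, ψ^[o] w = w := fun w => by
    apply Subtype.ext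
    rw [hψ, ← hK _ hdo (w : Γ), mul_inv_cancel_right]
  let N : Z → Z := fun w => ∏ i ∈ Finset.range o, ψ^[i] w
  have hNmul : ∀ a b, N (a * b) = N a * N b := fun a b => by
    simp only [N, iterate_map_mul, Finset.prod_mul_distrib]
  have hNψ : ∀ w, N (ψ w) = N w := fun w => by
    have e1 := Finset.prod_range_succ' (fun i => ψ^[i] w) o
    have e2 := Finset.prod_range_succ (fun i => ψ^[i] w) o
    simp only [Function.iterate_zero, id_eq, hψo, Function.iterate_succ, Function.comp_apply] at e1 e2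
    exact mul_right_cancel (e1.symm.trans e2)
  have hNfix : ∀ w, ψ (N w) = N w := fun w => by
    simp only [N, map_prod]
    have : ∀ i, ψ (ψ^[i] w) = ψ^[i] (ψ w) := fun i => by
      rw [← Function.iterate_succ_apply' ψ, Function.iterate_succ_apply]
    rw [Finset.prod_congr rfl fun i _ => this i]
    exact hNψ w
  have hNK : ∀ w, σ ((N w : Z) : Γ) = 1 := by
    intro w
    obtain ⟨b, hb⟩ := hdecZ _ (N w).2
    have e := congrArg (fun u : Z => σ (u : Γ)) (hNfix w)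
    simp only [ψ, MonoidHom.coe_mk, OneHom.coe_mk, map_mul, map_inv, hd, hl, hb, dE_conj,
      mul_zero] at e
    have hg1 : g ≠ 1 := fun e1 => by
      have hcard : Nat.card Fˣ ≤ 1 := by
        have : Subsingleton Fˣ := ⟨fun a b => by
          obtain ⟨i, rfl⟩ := hg a
          obtain ⟨j, rfl⟩ := hg b
          simp [e1]⟩
        exact Finite.card_le_one_iff_subsingleton.2 this
      rw [Nat.card_units, Nat.card_eq_fintype_card] at hcard
      omega
    rcases eq_or_ne b 0 with rfl | hb0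
    · rw [hb, uE_zero]
    · exact absurd (scale_eq_one_right h hb0 (uE_inj h e).2) hg1
  -- the projected commutator pairing
  have hδmem : ∀ x ∈ U, ∀ y ∈ U, ⁅x, y⁆ ∈ Z := fun x hx y hy => by
    show σ ⁅x, y⁆ ∈ (cenHom h).range
    rw [map_commutatorElement]
    exact commutator_uE_mem h hx hy
  have hl1U : ∀ a, l1 a ∈ U := fun a => by
    show σ (l1 a) ∈ unip h
    simp only [l1, hl]
    exact ⟨a, 0, rfl⟩
  have hl2Z : ∀ b, l2 b ∈ Z := fun b => by
    show σ (l2 b) ∈ (cenHom h).range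
    simp only [l2, hl]
    exact uE_mem_cen h b
  let δ : F → F → Z := fun a a' => ⟨⁅l1 a, l1 a'⁆, hδmem _ (hl1U a) _ (hl1U a')⟩
  have hδcen : ∀ a a', ∀ x ∈ U, x * ((δ a a' : Z) : Γ) = (δ a a' : Z) * x := fun a a' x hx =>
    hZcen x hx _ (δ a a').2
  have hkill : ∀ x ∈ U, ∀ w ∈ Z, ⁅x, w⁆ = 1 := fun x hx w hw =>
    commutatorElement_eq_one_iff_mul_comm.2 (hZcen x hx w hw)
  have hUl : ∀ x ∈ U, ∀ y ∈ U, ∀ a ∈ U, a * ⁅x, y⁆ = ⁅x, y⁆ * a := fun x hx y hy a ha =>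
    hZcen a ha _ (hδmem x hx y hy)
  have hbilin_l : ∀ x ∈ U, ∀ x' ∈ U, ∀ y ∈ U, ⁅x * x', y⁆ = ⁅x, y⁆ * ⁅x', y⁆ := by
    intro x hx x' hx' y hy
    calc ⁅x * x', y⁆ = (x * ⁅x', y⁆) * x⁻¹ * ⁅x, y⁆ := by
          rw [commutatorElement_def, commutatorElement_def, commutatorElement_def]; group
      _ = ⁅x', y⁆ * ⁅x, y⁆ := by rw [hUl x' hx' y hy x hx, mul_inv_cancel_right]
      _ = _ := hUl x hx y hy _ (hZU (hδmem x' hx' y hy))
  have hbilin_r : ∀ x ∈ U, ∀ y ∈ U, ∀ y' ∈ U, ⁅x, y * y'⁆ = ⁅x, y⁆ * ⁅x, y'⁆ := by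
    intro x hx y hy y' hy'
    calc ⁅x, y * y'⁆ = ⁅x, y⁆ * ((y * ⁅x, y'⁆) * y⁻¹) := by
          rw [commutatorElement_def, commutatorElement_def, commutatorElement_def]; group
      _ = _ := by rw [hUl x hx y' hy' y hy, mul_inv_cancel_right]
  have h1split : ∀ a a', σ (l1 (a + a')) = σ (l1 a * l1 a' * l2 (sg m a * a')) := fun a a' => by
    simp only [l1, l2, map_mul, hl, uE_mul, sg_zero, zero_mul, add_zero, zero_add]
    congr 1
    linear_combination -(sg m a * a') * h.two_eq_zero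
  have hε : ∀ a a', N (δ a a') = 1 := by
    refine CfsgLib.SL2Mult.pairing_trivial (fun a a' => N (δ a a')) (fun a b c => ?_)
      (fun a b c => ?_) (fun s hs a b => ?_) (fun _ => hcardF) (fun h2 => absurd h.two_eq_zero h2)
    · show N (δ (a + b) c) = N (δ a c) * N (δ b c)
      rw [← hNmul]
      congr 1
      apply Subtype.ext
      show ⁅l1 (a + b), l1 c⁆ = ⁅l1 a, l1 c⁆ * ⁅l1 b, l1 c⁆
      rw [hind _ _ _ (l1 c) (h1split a b) rfl,
        hbilin_l _ (U.mul_mem (hl1U a) (hl1U b)) _ (hZU (hl2Z _)) _ (hl1U c),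
        hbilin_l _ (hl1U a) _ (hl1U b) _ (hl1U c),
        ← commutatorElement_inv (l1 c) (l2 _), hkill _ (hl1U c) _ (hl2Z _), inv_one, mul_one]
    · show N (δ a (b + c)) = N (δ a b) * N (δ a c)
      rw [← hNmul]
      congr 1
      apply Subtype.ext
      show ⁅l1 a, l1 (b + c)⁆ = ⁅l1 a, l1 b⁆ * ⁅l1 a, l1 c⁆
      rw [hind _ (l1 a) _ _ rfl (h1split b c),
        hbilin_r _ (hl1U a) _ (U.mul_mem (hl1U b) (hl1U c)) _ (hZU (hl2Z _)),
        hbilin_r _ (hl1U a) _ (hl1U b) _ (hl1U c), hkill _ (hl1U a) _ (hl2Z _), mul_one]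
    · obtain ⟨t, ht⟩ := (h.sg_bijective).2 (s ^ 2)
      have ht0 : t ≠ 0 := fun e => pow_ne_zero 2 hs (by rw [← ht, e, sg_zero])
      obtain ⟨i, hi⟩ := hg (Units.mk0 t ht0)
      show N (δ (s ^ 2 * a) (s ^ 2 * b)) = N (δ a b)
      have e : δ (s ^ 2 * a) (s ^ 2 * b) = ψ^[i] (δ a b) := by
        apply Subtype.ext
        rw [hψ]
        show ⁅l1 (s ^ 2 * a), l1 (s ^ 2 * b)⁆ = d ^ i * ⁅l1 a, l1 b⁆ * (d ^ i)⁻¹
        have hdi : σ (d ^ i) = σ (l (dE h (Units.mk0 t ht0))) := by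
          rw [map_pow, hd, hl, hl, ← map_pow]
          exact congrArg _ hi
        rw [conjugate_commutatorElement]
        refine hind _ _ _ _ ?_ ?_
        · rw [map_mul, map_mul, map_inv, hdi, ← map_inv, ← map_mul, ← map_mul, hconj1, Units.val_mk0, ht]
        · rw [map_mul, map_mul, map_inv, hdi, ← map_inv, ← map_mul, ← map_mul, hconj1, Units.val_mk0, ht]
      rw [e]
      clear e hi
      induction i with
      | zero => rfl
      | succ i ih => rw [Function.iterate_succ_apply', hNψ, ih]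
  have hN1 : N 1 = 1 := by simpa using hNmul 1 1
  let W : Subgroup Γ :=
    { carrier := {x | ∃ hx : x ∈ Z, N ⟨x, hx⟩ = 1}
      one_mem' := ⟨Z.one_mem, hN1⟩
      mul_mem' := fun ⟨hx, ex⟩ ⟨hy, ey⟩ => ⟨Z.mul_mem hx hy,
        (hNmul ⟨_, hx⟩ ⟨_, hy⟩).trans (by rw [ex, ey, one_mul])⟩
      inv_mem' := fun {x} ⟨hx, ex⟩ => ⟨Z.inv_mem hx, by
        have := hNmul ⟨x⁻¹, Z.inv_mem hx⟩ ⟨x, hx⟩
        rw [ex, mul_one, show (⟨x⁻¹, Z.inv_mem hx⟩ : Z) * ⟨x, hx⟩ = 1 from Subtype.ext (inv_mul_cancel x),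
          hN1] at this
        exact this.symm⟩ }
  have hW : ⁅U, U⁆ ≤ W := by
    rw [Subgroup.commutator_le]
    intro x hx y hy
    obtain ⟨a, b, ea⟩ := exists_uE h hx
    obtain ⟨a', b', ea'⟩ := exists_uE h hy
    refine ⟨hδmem x hx y hy, ?_⟩
    have e : (⟨⁅x, y⁆, hδmem x hx y hy⟩ : Z) = δ a a' := by
      apply Subtype.ext
      show ⁅x, y⁆ = ⁅l1 a, l1 a'⁆
      rw [hind x (l1 a * l2 b) y (l1 a' * l2 b') (by simp [l1, l2, hl, uE_mul, ea]) (by simp [l1, l2, hl, uE_mul, ea']),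
        hbilin_l _ (hl1U a) _ (hZU (hl2Z b)) _ (U.mul_mem (hl1U a') (hZU (hl2Z b'))),
        ← commutatorElement_inv (l1 a' * l2 b') (l2 b), hkill _ (U.mul_mem (hl1U a') (hZU (hl2Z b'))) _ (hl2Z b),
        inv_one, mul_one, hbilin_r _ (hl1U a) _ (hl1U a') _ (hZU (hl2Z b')), hkill _ (hl1U a) _ (hl2Z b'), mul_one]
    rw [e]
    exact hε a a'
  obtain ⟨hzZ, hz1⟩ := hW hzc
  have hpow : N ⟨z, hzZ⟩ = ⟨z, hzZ⟩ ^ o := by
    show ∏ i ∈ Finset.range o, ψ^[i] _ = _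
    rw [Finset.prod_congr rfl (g := fun _ => (⟨z, hzZ⟩ : Z)), Finset.prod_const, Finset.card_range]
    intro i _
    apply Subtype.ext
    rw [hψ, hK z hz (d ^ i), mul_inv_cancel_right]
  rw [hz1] at hpow
  have hzo' : orderOf z ∣ o := orderOf_dvd_of_pow_eq_one (congrArg Subtype.val hpow.symm)
  rw [hzo] at hzo'
  have hodd : ¬ 2 ∣ o := by
    rw [ho, Nat.card_units, h.card]
    have h2 : 2 ∣ 2 ^ (2 * m + 1) := dvd_pow_self 2 (by omega)
    have h3 : 1 ≤ 2 ^ (2 * m + 1) := Nat.one_le_two_pow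
    omega
  refine orderOf_eq_one_iff.1 ?_
  rcases Nat.eq_zero_or_pos k with rfl | hk
  · rw [hzo, pow_zero]
  · exact absurd ((dvd_pow_self 2 hk.ne').trans hzo') hodd

/-- Every stem extension of `Sz(q)`, `q > 8`, is trivial. -/
theorem ker_eq_bot_stem [Fintype F] (h : IsSzField F m) (hm : 2 ≤ m) {σ : Γ →* G}
    (hσ : Cfsg.IsStemExtension σ) : σ.ker = ⊥ := by
  have := finite_G h
  refine CfsgLib.SL2Mult.ker_eq_bot_of_sylow fun ℓ hℓ P => ?_
  have hstem := CfsgLib.SL2Mult.isStemExtension_sylow hσ P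
  have hQ := Sylow.coe_mapSurjective hσ.1 P
  rcases eq_or_ne ℓ 2 with rfl | hℓ2
  · rw [eq_bot_iff]
    intro w hw
    have hw1 : σ (w : Γ) = 1 := congrArg Subtype.val hw
    have hwc : w ∈ commutator (P : Subgroup Γ) := hstem.2.2 hw
    obtain ⟨c, hc⟩ := exists_conj_le_unip h (P.isPGroup'.map σ)
    obtain ⟨g, rfl⟩ := hσ.1 c
    have hle : (P : Subgroup Γ).map (MulAut.conj g).toMonoidHom ≤ (unip h).comap σ := by
      rintro _ ⟨x, hx, rfl⟩
      show σ (g * x * g⁻¹) ∈ unip h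
      rw [map_mul, map_mul, map_inv]
      exact hc _ ⟨x, hx, rfl⟩
    have h1 : g * (w : Γ) * g⁻¹ ∈ ⁅(unip h).comap σ, (unip h).comap σ⁆ := by
      have h2 : (w : Γ) ∈ ⁅(P : Subgroup Γ), (P : Subgroup Γ)⁆ := by
        rw [← Subgroup.map_subtype_commutator]
        exact ⟨w, hwc, rfl⟩
      refine Subgroup.commutator_mono hle hle ?_
      rw [← Subgroup.map_commutator]
      exact ⟨w, h2, rfl⟩
    rw [Subgroup.mem_center_iff.1 (hσ.2.1 hw1) g, mul_inv_cancel_right] at h1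
    obtain ⟨k, hk⟩ := (IsPGroup.iff_orderOf.1 P.isPGroup') w
    rw [← Subgroup.orderOf_coe] at hk
    exact Subgroup.mem_bot.2 (Subtype.ext (eq_one_of_mem_commutator h hm hσ hw1 hk h1))
  · have : IsCyclic ((P : Subgroup Γ).map σ) := by
      rw [← hQ]
      exact isCyclic_sylow_odd h hℓ2 _
    exact CfsgLib.StemExt.ker_eq_bot_of_isCyclic hstem

end

end CfsgLib.Suzuki
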