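/-
Suzuki group: every automorphism is inner times field.
-/
import Cfsg.Agent.Suzuki.Subfield
import Cfsg.Agent.Suzuki.NormalForm

set_option autoImplicit false

namespace CfsgLib.Suzuki

variable {F : Type*} [Field F] {m : ℕ}

local notation "PP" => Projectivization F (Fin 4 → F)
local notation "G" => SzG F m

/-- The automorphism induced by an automorphism of the field. -/
noncomputable def fieldAut (h : IsSzField F m) (θ : F ≃+* F) : MulAut (SzG F m) :=
  have := finite_G h
  MulEquiv.ofBijective (szMap θ.toRingHom h (dvd_refl _) h)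
    ⟨szMap_injective θ.toRingHom h (dvd_refl _) h,
      Finite.injective_iff_surjective.mp (szMap_injective θ.toRingHom h (dvd_refl _) h)⟩

variable (h : IsSzField F m)
include h

theorem fieldAut_uE (θ : F ≃+* F) (a b : F) :
    fieldAut h θ (uE h a b) = uE h (θ a) (θ b) := szMap_uE θ.toRingHom h (dvd_refl _) h a b

theorem fieldAut_dE (θ : F ≃+* F) (t : Fˣ) :
    fieldAut h θ (dE h t) = dE h (Units.map θ.toRingHom.toMonoidHom t) :=
  szMap_dE θ.toRingHom h (dvd_refl _) h t

theorem exists_unit_ne_one : ∃ t : Fˣ, t ≠ 1 := by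
  obtain ⟨t, ht, -⟩ := exists_unit_sg_ne_one h
  refine ⟨t, fun e => ht ?_⟩
  rw [e, Units.val_one, sg_one]
  linear_combination h.two_eq_zero

theorem dE_ne_one {t : Fˣ} (ht : t ≠ 1) : dE h t ≠ 1 := fun e =>
  ht (dE_injective h (e.trans (map_one _).symm))

/-- An automorphism fixing the torus and acting trivially on the Frattini quotient of `U`
is trivial. -/
theorem aut_rigid (ε : MulAut G) (hT : ∀ t : Fˣ, ε (dE h t) = dE h t)
    (hU : ∀ a b : F, ∃ b', ε (uE h a b) = uE h a b') : ε = 1 := by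
  choose f hf using hU
  have hadd0 : ∀ b c, f 0 (b + c) = f 0 b + f 0 c := by
    intro b c
    have e := map_mul ε (uE h 0 b) (uE h 0 c)
    rw [uE_mul, hf, hf, hf, uE_mul] at e
    simp only [sg_zero, zero_mul, add_zero] at e
    exact (uE_inj h e).2
  have hsq : f 0 1 = 1 := by
    have e := map_mul ε (uE h 1 0) (uE h 1 0)
    rw [uE_sq, hf, hf, uE_sq] at e
    simpa using (uE_inj h e).2
  have hscale : ∀ (t : Fˣ) (a b : F), f (sg m (t : F) * a) (sg m (t : F) * (t : F) ^ 2 * b) =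
      sg m (t : F) * (t : F) ^ 2 * f a b := by
    intro t a b
    have e := congrArg ε (dE_conj h t a b)
    rw [map_mul, map_mul, map_inv, hT, hf, hf, dE_conj] at e
    exact ((uE_inj h e).2).symm
  have hcenter : ∀ b, f 0 b = b := by
    intro b
    by_cases hb : b = 0
    · subst hb
      have e := hf 0 0
      rw [uE_zero, map_one] at e
      exact ((uE_eq_one h).1 e.symm).2
    · obtain ⟨t, ht⟩ : ∃ t : Fˣ, sg m (t : F) * (t : F) ^ 2 = b := by
        have := h.finite
        have hsurj : Function.Surjective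
            (fun t : Fˣ => Units.mk0 (sg m (t : F) * (t : F) ^ 2)
              (mul_ne_zero (sg_ne_zero t.ne_zero) (pow_ne_zero _ t.ne_zero))) :=
          Finite.injective_iff_surjective.mp fun s t e => by
            have e' : sg m (s : F) * (s : F) ^ 2 = sg m (t : F) * (t : F) ^ 2 :=
              congrArg Units.val e
            have h1 := scale_eq_one_right h (b := (1 : F)) (t := s / t) one_ne_zero (by
              rw [Units.val_div_eq_div_val, mul_one, div_pow, div_eq_mul_inv, sg_mul, sg_inv,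
                div_eq_mul_inv]
              have ht := t.ne_zero
              have hs := sg_ne_zero (m := m) ht
              field_simp
              linear_combination e')
            exact div_eq_one.1 h1
        obtain ⟨t, ht⟩ := hsurj (Units.mk0 b hb)
        exact ⟨t, congrArg Units.val ht⟩
      have e := hscale t 0 1
      rw [mul_zero, mul_one, hsq, mul_one, ht] at e
      exact e
  set δ : F → F := fun a => f a 0 with hδ
  have hsplit : ∀ a b, f a b = δ a + b := by
    intro a b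
    have e := map_mul ε (uE h a 0) (uE h 0 b)
    rw [uE_mul, hf, hf, hf, uE_mul, hcenter] at e
    simp only [mul_zero, add_zero, zero_add] at e
    exact (uE_inj h e).2
  have hδadd : ∀ a c, δ (a + c) = δ a + δ c := by
    intro a c
    have e := map_mul ε (uE h a 0) (uE h c 0)
    rw [uE_mul, hf, hf, hf, uE_mul] at e
    have e' := (uE_inj h e).2
    rw [hsplit] at e'
    linear_combination e'
  have hδx : ∀ x : F, x ≠ 0 → δ x = x * sg m x * δ 1 := by
    intro x hx
    obtain ⟨t₀, ht₀⟩ := h.sg_bijective.2 x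
    have ht0 : t₀ ≠ 0 := fun e => hx (by rw [← ht₀, e, sg_zero])
    have e := hscale (Units.mk0 t₀ ht0) 1 0
    simp only [Units.val_mk0, mul_one, mul_zero] at e
    show f x 0 = x * sg m x * f 1 0
    rw [← ht₀, e, h.sg_sg]
  have hδ1 : δ 1 = 0 := by
    obtain ⟨x, hx⟩ := exists_ne_two h
    have hx0 : x ≠ 0 := fun e => hx (by simp [e])
    have hx1 : x + 1 ≠ 0 := fun e => hx (by
      rw [show x = 1 by linear_combination e - h.two_eq_zero, sg_one]
      linear_combination h.two_eq_zero)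
    have e := hδadd x 1
    rw [hδx _ hx1, hδx _ hx0, h.sg_add, sg_one] at e
    have : (x + sg m x) * δ 1 = 0 := by linear_combination e
    exact (mul_eq_zero.1 this).resolve_left hx
  have hUfix : ∀ a b, ε (uE h a b) = uE h a b := by
    intro a b
    rw [hf, hsplit]
    by_cases ha : a = 0
    · subst ha
      show uE h 0 (f 0 0 + b) = _
      rw [hcenter, zero_add]
    · rw [hδx a ha, hδ1, mul_zero, zero_add]
  -- the image of the Weyl element
  have hw : ε (wE h) • inf F = pt m (0 : F) 0 := by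
    obtain ⟨t, ht⟩ := exists_unit_ne_one h
    have hc : dE h t * ε (wE h) = ε (wE h) * dE h t⁻¹ := by
      have e := congrArg ε (wE_mul_dE h t⁻¹)
      rw [map_mul, map_mul, hT, hT, inv_inv] at e
      exact e.symm
    have h1 : dE h t • (ε (wE h) • inf F) = ε (wE h) • inf F := by
      rw [← mul_smul, hc, mul_smul]
      congr 1
      exact ((mem_torus_iff h).1 ⟨t⁻¹, rfl⟩).1
    refine (torus_fixed h ⟨t, rfl⟩ (dE_ne_one h ht) (smul_mem_ovoid' _ inf_mem) h1).resolve_left ?_
    intro e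
    obtain ⟨a, b, s, hs⟩ := (mem_stab_inf h).1 (show ε (wE h) ∈ MulAction.stabilizer G (inf F) from e)
    have hs' : ε (wE h) = ε (uE h a b * dE h s) := by rw [map_mul, hUfix, hT, hs]
    have h3 : wE h • inf F = inf F := by
      rw [ε.injective hs']
      exact MulAction.mem_stabilizer_iff.1 ((mem_stab_inf h).2 ⟨a, b, s, rfl⟩)
    rw [wE_smul_inf] at h3
    exact pt_ne_inf _ _ h3
  have hinf : ∀ x : G, ε x • inf F = x • inf F := by
    intro x
    rcases decomp h x with ⟨a, b, t, rfl⟩ | ⟨a, b, c, d, t, rfl⟩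
    · rw [map_mul, hUfix, hT]
    · have hb : ∀ c d : F, ∀ t : Fˣ, (uE h c d * dE h t) • inf F = inf F := fun c d t =>
        MulAction.mem_stabilizer_iff.1 ((mem_stab_inf h).2 ⟨c, d, t, rfl⟩)
      rw [map_mul, map_mul, map_mul, hUfix, hUfix, hT, mul_assoc _ (uE h c d), mul_smul, hb,
        mul_smul, hw, mul_assoc _ (uE h c d), mul_smul, hb, mul_smul, wE_smul_inf]
  apply MulEquiv.ext
  intro g
  show ε g = g
  refine inv_mul_eq_one.1 (eq_one_of_fix_ovoid h fun p hp => ?_)
  obtain ⟨k, hk, hkp⟩ := exists_move h hp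
  have e1 : ε g • p = g • p := by
    calc ε g • p = ε g • (⟨k, hk⟩ : G) • inf F := by rw [← hkp]; rfl
      _ = ε g • ε ⟨k, hk⟩ • inf F := by rw [hinf]
      _ = (g * ⟨k, hk⟩) • inf F := by rw [← mul_smul, ← map_mul, hinf]
      _ = g • p := by rw [mul_smul, ← hkp]; rfl
  rw [mul_smul, inv_smul_eq_iff, e1]

/-- Every automorphism is a field automorphism followed by an inner one. -/
theorem aut_eq_inner_field (α : MulAut G) :
    ∃ (θ : F ≃+* F) (c : G), ∀ g, α g = c * fieldAut h θ g * c⁻¹ := by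
  have := finite_G h
  have := h.finite
  obtain ⟨c₁, hc₁⟩ := exists_conj_le_unip h ((isPGroup_unip h).map α.toMonoidHom)
  set β : MulAut G := MulAut.conj c₁ * α with hβ
  have hβU : ∀ x ∈ unip h, β x ∈ unip h := fun x hx => hc₁ _ ⟨x, hx, rfl⟩
  have hu1 : uE h 1 0 ≠ 1 := fun e => one_ne_zero ((uE_eq_one h).1 e).1
  have hB : ∀ g ∈ borel F m, β g ∈ borel F m := by
    intro g hg
    refine mem_borel_of_conj_mem_unip h (hβU _ (uE_mem h 1 0))
      (fun e => hu1 (β.injective (e.trans (map_one β).symm))) ?_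
    rw [← map_inv, ← map_mul, ← map_mul]
    exact hβU _ ((Subgroup.mem_normalizer_iff.1 (borel_le_normalizer h hg) _).1 (uE_mem h 1 0))
  have hinvU : ∀ x, β x ∈ unip h → x ∈ unip h := by
    intro x hx
    obtain ⟨y, hy⟩ := (Finite.injective_iff_surjective.mp
      (fun a b e => Subtype.ext (β.injective (congrArg Subtype.val e)) :
        Function.Injective (fun y : unip h => (⟨β y, hβU _ y.2⟩ : unip h)))) ⟨β x, hx⟩
    exact β.injective (congrArg Subtype.val hy) ▸ y.2
  obtain ⟨t₀, ht₀⟩ := exists_unit_ne_one h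
  have hd1 := dE_ne_one h ht₀
  have hdB : ∀ t, dE h t ∈ borel F m := fun t => ((mem_torus_iff h).1 ⟨t, rfl⟩).1
  have hdU : dE h t₀ ∉ unip h := fun e => by
    have h2 := eq_inf_of_unip_fix h e hd1 (pt_mem 0 0) ((mem_torus_iff h).1 ⟨t₀, rfl⟩).2
    exact pt_ne_inf _ _ h2
  obtain ⟨x₀, y₀, hxy⟩ := exists_second_fixed h (hB _ (hdB t₀)) (fun e => hdU (hinvU _ e))
  set γ : MulAut G := MulAut.conj (uE h x₀ y₀)⁻¹ * β with hγ
  have hpt : uE h x₀ y₀ • pt m (0 : F) 0 = pt m x₀ y₀ := by rw [uE_smul_pt]; simp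
  have hγU : ∀ x ∈ unip h, γ x ∈ unip h := fun x hx =>
    (unip h).mul_mem ((unip h).mul_mem ((unip h).inv_mem (uE_mem h _ _)) (hβU x hx))
      ((unip h).inv_mem ((unip h).inv_mem (uE_mem h _ _)))
  have hγ0 : γ (dE h t₀) ∈ torus h := by
    rw [mem_torus_iff h]
    have e1 : γ (dE h t₀) = (uE h x₀ y₀)⁻¹ * β (dE h t₀) * uE h x₀ y₀ := by
      show (uE h x₀ y₀)⁻¹ * β (dE h t₀) * (uE h x₀ y₀)⁻¹⁻¹ = _
      rw [inv_inv]
    rw [e1]
    refine ⟨?_, ?_⟩
    · rw [mul_smul, mul_smul, uE_smul_inf, MulAction.mem_stabilizer_iff.1 (hB _ (hdB t₀)),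
        inv_smul_eq_iff, uE_smul_inf]
    · rw [mul_smul, mul_smul, hpt, hxy, inv_smul_eq_iff, hpt]
  have hγT : ∀ t, ∃ s, γ (dE h t) = dE h s := by
    intro t
    have hmem : γ (dE h t) ∈ Subgroup.centralizer ({γ (dE h t₀)} : Set G) := by
      rw [Subgroup.mem_centralizer_singleton_iff, ← map_mul, ← map_mul, ← map_mul, ← map_mul,
        mul_comm]
    rw [centralizer_torus h hγ0 (fun e => hd1 (γ.injective (e.trans (map_one γ).symm)))] at hmem
    obtain ⟨s, hs⟩ := hmem
    exact ⟨s, hs.symm⟩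
  obtain ⟨a₀, b₀, hab⟩ := exists_uE h (hγU _ (uE_mem h 1 0))
  have ha₀ : a₀ ≠ 0 := by
    rintro rfl
    have h1 : γ (uE h 1 0 * uE h 1 0) = 1 := by
      rw [map_mul, hab, uE_sq]; simp [uE_zero]
    have h2 := γ.injective (h1.trans (map_one γ).symm)
    rw [uE_sq, uE_eq_one] at h2
    simp at h2
  obtain ⟨s₁, hs₁⟩ := h.sg_bijective.2 a₀⁻¹
  have hs1 : s₁ ≠ 0 := fun e => inv_ne_zero ha₀ (by rw [← hs₁, e, sg_zero])
  set d : G := dE h (Units.mk0 s₁ hs1) with hd
  set δ : MulAut G := MulAut.conj d * γ with hδ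
  have hδT : ∀ t, ∃ s, δ (dE h t) = dE h s := by
    intro t
    obtain ⟨s, hs⟩ := hγT t
    refine ⟨s, ?_⟩
    show d * γ (dE h t) * d⁻¹ = dE h s
    rw [hs, hd, ← map_mul, mul_comm, map_mul, mul_inv_cancel_right]
  choose τ hτ using hδT
  have hδU : ∀ a b : F, ∃ r : F × F, δ (uE h a b) = uE h r.1 r.2 := by
    intro a b
    obtain ⟨a', b', e⟩ := exists_uE h (hγU _ (uE_mem h a b))
    refine ⟨(sg m s₁ * a', sg m s₁ * s₁ ^ 2 * b'), ?_⟩
    show d * γ (uE h a b) * d⁻¹ = _
    rw [e, hd, dE_conj, Units.val_mk0]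
  choose R hR using hδU
  have hA1 : (R 1 0).1 = 1 := by
    have e : δ (uE h 1 0) = uE h (sg m s₁ * a₀) (sg m s₁ * s₁ ^ 2 * b₀) := by
      show d * γ (uE h 1 0) * d⁻¹ = _
      rw [hab, hd, dE_conj, Units.val_mk0]
    rw [hR] at e
    rw [(uE_inj h e).1, hs₁, inv_mul_cancel₀ ha₀]
  have hcen : ∀ b, (R 0 b).1 = 0 := by
    intro b
    have e := map_mul δ (uE h 0 b) (uE h 0 b)
    rw [uE_sq, hR, hR, uE_sq] at e
    simp only [sg_zero, zero_mul] at e
    have h0 : R 0 0 = (0, 0) := by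
      have e0 := hR 0 0
      rw [uE_zero, map_one] at e0
      obtain ⟨p, q⟩ := (uE_eq_one h).1 e0.symm
      exact Prod.ext p q
    rw [h0] at e
    have e2 := (uE_inj h e).2
    rcases mul_eq_zero.1 e2.symm with e3 | e3
    · exact sg_eq_zero.1 e3
    · exact e3
  set A : F → F := fun a => (R a 0).1 with hA
  have hfst : ∀ a b, (R a b).1 = A a := by
    intro a b
    have e := map_mul δ (uE h a 0) (uE h 0 b)
    rw [uE_mul, hR, hR, hR, uE_mul] at e
    simp only [mul_zero, add_zero, zero_add] at e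
    rw [(uE_inj h e).1, hcen, add_zero]
  have hAadd : ∀ a c, A (a + c) = A a + A c := by
    intro a c
    have e := map_mul δ (uE h a 0) (uE h c 0)
    rw [uE_mul, hR, hR, hR, uE_mul] at e
    have e1 := (uE_inj h e).1
    rwa [hfst] at e1
  have hAscale : ∀ (t : Fˣ) (a : F), A (sg m (t : F) * a) = sg m (τ t : F) * A a := by
    intro t a
    have e := congrArg δ (dE_conj h t a 0)
    rw [map_mul, map_mul, map_inv, hτ, hR, hR, dE_conj] at e
    have e1 := (uE_inj h e).1
    rw [hfst, hfst] at e1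
    exact e1.symm
  have hA1' : A 1 = 1 := hA1
  have hAmul : ∀ x a, A (x * a) = A x * A a := by
    intro x a
    have hA0 : A 0 = 0 := hcen 0
    by_cases hx : x = 0
    · simp [hx, hA0]
    obtain ⟨t, ht⟩ := h.sg_bijective.2 x
    have ht0 : t ≠ 0 := fun e => hx (by rw [← ht, e, sg_zero])
    have e1 := hAscale (Units.mk0 t ht0) a
    have e2 := hAscale (Units.mk0 t ht0) 1
    rw [Units.val_mk0, ht] at e1 e2
    rw [mul_one, hA1', mul_one] at e2
    rw [e1, e2]
  let Ar : F →+* F :=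
    { toFun := A, map_one' := hA1', map_mul' := hAmul, map_zero' := hcen 0, map_add' := hAadd }
  let θ : F ≃+* F := RingEquiv.ofBijective Ar
    ⟨Ar.injective, Finite.injective_iff_surjective.mp Ar.injective⟩
  have hθ : ∀ x, θ x = A x := fun _ => rfl
  have hτθ : ∀ t, τ t = Units.map θ.toRingHom.toMonoidHom t := by
    intro t
    apply Units.ext
    show (τ t : F) = θ (t : F)
    apply h.sg_injective
    have e := hAscale t 1
    rw [mul_one, hA1', mul_one] at e
    rw [← e, ← hθ, sg_def, sg_def, map_pow]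
  set ε : MulAut G := (fieldAut h θ)⁻¹ * δ with hε
  have hε1 : ε = 1 := by
    refine aut_rigid h ε (fun t => ?_) (fun a b => ?_)
    · show (fieldAut h θ).symm (δ (dE h t)) = dE h t
      rw [hτ, MulEquiv.symm_apply_eq, fieldAut_dE, hτθ]
    · refine ⟨θ.symm (R a b).2, ?_⟩
      show (fieldAut h θ).symm (δ (uE h a b)) = _
      rw [hR, MulEquiv.symm_apply_eq, fieldAut_uE, hθ, RingEquiv.apply_symm_apply, hfst]
  have hδθ : δ = fieldAut h θ := by
    rw [hε, inv_mul_eq_one] at hε1
    exact hε1.symm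
  refine ⟨θ, (d * (uE h x₀ y₀)⁻¹ * c₁)⁻¹, fun g => ?_⟩
  rw [← hδθ]
  show α g = (d * (uE h x₀ y₀)⁻¹ * c₁)⁻¹ *
    (d * ((uE h x₀ y₀)⁻¹ * (c₁ * α g * c₁⁻¹) * (uE h x₀ y₀)⁻¹⁻¹) * d⁻¹) *
      (d * (uE h x₀ y₀)⁻¹ * c₁)⁻¹⁻¹
  group

theorem fieldAut_inner_unique {θ θ' : F ≃+* F} {c : G}
    (e : ∀ g, fieldAut h θ' g = c * fieldAut h θ g * c⁻¹) : θ' = θ := by
  have e1 := e (uE h 1 0)
  rw [fieldAut_uE, fieldAut_uE, map_one, map_one, map_zero, map_zero] at e1
  have hc : c ∈ unip h := centralizer_le_unip h (uE_mem h 1 0)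
    (fun e' => one_ne_zero ((uE_eq_one h).1 e').1)
    (Subgroup.mem_centralizer_singleton_iff.2 (mul_inv_eq_iff_eq_mul.1 e1.symm))
  obtain ⟨p, q, rfl⟩ := exists_uE h hc
  apply RingEquiv.ext
  intro x
  by_cases hx : x = 0
  · simp [hx]
  have e2 := e (dE h (Units.mk0 x hx))
  rw [fieldAut_dE, fieldAut_dE, eq_mul_inv_iff_mul_eq, dE_mul_uE] at e2
  exact congrArg Units.val ((uE_dE_inj h e2).2.2)

theorem card_ringAut : Nat.card (RingAut F) = 2 * m + 1 := by
  have := h.charP
  have := h.finite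
  let : Algebra (ZMod 2) F := ZMod.algebra F 2
  let T : RingAut F ≃ Gal(F/ZMod 2) :=
    { toFun := fun σ => AlgEquiv.ofRingEquiv (f := σ) fun x => by
        exact RingHom.congr_fun (Subsingleton.elim ((σ : F →+* F).comp (algebraMap (ZMod 2) F))
          (algebraMap (ZMod 2) F)) x
      invFun := fun e => e.toRingEquiv
      left_inv := fun σ => RingEquiv.ext fun _ => rfl
      right_inv := fun e => AlgEquiv.ext fun _ => rfl }
  rw [Nat.card_congr T, IsGalois.card_aut_eq_finrank]
  have e := Module.natCard_eq_pow_finrank (K := ZMod 2) (V := F)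
  rw [h.card, Nat.card_zmod] at e
  exact (Nat.pow_right_injective le_rfl e).symm

end CfsgLib.Suzuki
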