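/-
Suzuki field: additive maps compatible with `x ↦ x ^ σ * x` are semilinear.
-/
import Cfsg.Agent.Suzuki.Basic

set_option autoImplicit false

namespace CfsgLib.Suzuki

variable {F : Type*} [Field F] {m : ℕ}

/-- The powers of the Frobenius, indexed modulo `2m+1`. -/
def frob (k : ZMod (2 * m + 1)) (x : F) : F := x ^ (2 ^ k.val)

/-- The exponent attached to a set of digits. -/
def expo (S : Finset (ZMod (2 * m + 1))) : ℕ := ∑ k ∈ S, 2 ^ k.val

variable (h : IsSzField F m)

theorem pair_cases {α : Type*} [DecidableEq α] {a b c d : α} (e : ({a, b} : Finset α) = {c, d}) :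
    a = c ∧ b = d ∨ a = d ∧ b = c := by
  refine Set.pair_eq_pair_iff.1 ?_
  have := congrArg (fun s : Finset α => (s : Set α)) e
  simpa using this

theorem expo_eq_image (S : Finset (ZMod (2 * m + 1))) :
    expo S = ∑ i ∈ S.image ZMod.val, 2 ^ i :=
  (Finset.sum_image fun _ _ _ _ e => ZMod.val_injective _ e).symm

theorem expo_injective : Function.Injective (expo (m := m)) := by
  intro S T e
  rw [expo_eq_image, expo_eq_image] at e
  exact Finset.image_injective (ZMod.val_injective _) (Finset.geomSum_injective (le_refl 2) e)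

theorem prod_frob (S : Finset (ZMod (2 * m + 1))) (x : F) :
    ∏ k ∈ S, frob k x = x ^ expo S :=
  Finset.prod_pow_eq_pow_sum S _ x

theorem frob_mul (k : ZMod (2 * m + 1)) (x y : F) : frob k (x * y) = frob k x * frob k y :=
  mul_pow x y _

theorem frob_zero_idx (x : F) : frob (0 : ZMod (2 * m + 1)) x = x := by
  simp [frob]

theorem frob_one_idx (hm : 1 ≤ m) (x : F) : frob (1 : ZMod (2 * m + 1)) x = x ^ 2 := by
  have : Fact (1 < 2 * m + 1) := ⟨by omega⟩
  simp [frob, ZMod.val_one]

include h

theorem frob_add (k : ZMod (2 * m + 1)) (x y : F) : frob k (x + y) = frob k x + frob k y := by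
  have := h.charP
  have : Fact (Nat.Prime 2) := ⟨Nat.prime_two⟩
  exact add_pow_char_pow x y 2 k.val

theorem frob_frob (k l : ZMod (2 * m + 1)) (x : F) : frob k (frob l x) = frob (k + l) x := by
  have := h.finite
  let : Fintype F := Fintype.ofFinite F
  have hx : x ^ (2 ^ (2 * m + 1)) = x := by
    rw [← h.card, Nat.card_eq_fintype_card, FiniteField.pow_card]
  simp only [frob, ← pow_mul, ← pow_add]
  rw [ZMod.val_add, add_comm l.val k.val]
  rcases Nat.lt_or_ge (k.val + l.val) (2 * m + 1) with hlt | hge
  · rw [Nat.mod_eq_of_lt hlt]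
  · have hk := ZMod.val_lt k
    have hl := ZMod.val_lt l
    obtain ⟨r, hr⟩ := Nat.exists_eq_add_of_le hge
    rw [hr, Nat.add_mod_left, Nat.mod_eq_of_lt (by omega : r < 2 * m + 1), pow_add, pow_mul, hx]

omit h in
theorem val_shift (hm : 1 ≤ m) : ((m + 1 : ℕ) : ZMod (2 * m + 1)).val = m + 1 :=
  ZMod.val_cast_of_lt (by omega)

theorem sg_eq_frob (x : F) : sg m x = frob ((m + 1 : ℕ) : ZMod (2 * m + 1)) x := by
  rw [frob, val_shift h.pos, sg]

theorem shift_add_shift : ((m + 1 : ℕ) : ZMod (2 * m + 1)) + ((m + 1 : ℕ) : ZMod (2 * m + 1)) = 1 := by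
  rw [← Nat.cast_add, show m + 1 + (m + 1) = (2 * m + 1) + 1 by omega, Nat.cast_add, ZMod.natCast_self,
    zero_add, Nat.cast_one]

theorem shift_ne_zero : ((m + 1 : ℕ) : ZMod (2 * m + 1)) ≠ 0 := fun e => by
  have := congrArg ZMod.val e
  rw [val_shift h.pos, ZMod.val_zero] at this
  omega

theorem frob_sq (a : ZMod (2 * m + 1)) (x : F) : frob a x * frob a x = frob (a + 1) x := by
  rw [← sq, ← frob_one_idx h.pos (frob a x), frob_frob h, add_comm]

theorem expo_lt {S : Finset (ZMod (2 * m + 1))} (hS : S.card ≤ 2) :
    expo S < Nat.card F - 1 := by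
  obtain ⟨k, hk⟩ : ∃ k, k ∉ S := by
    by_contra hc
    simp only [not_exists, not_not] at hc
    have : (Finset.univ : Finset (ZMod (2 * m + 1))).card ≤ 2 :=
      le_trans (Finset.card_le_card fun k _ => hc k) hS
    rw [Finset.card_univ, ZMod.card] at this
    have := h.pos
    omega
  have huniv : expo (Finset.univ : Finset (ZMod (2 * m + 1))) ≤ Nat.card F - 1 := by
    rw [expo_eq_image, h.card]
    refine le_trans (Finset.sum_le_sum_of_subset (t := Finset.range (2 * m + 1)) ?_) (le_of_eq ?_)
    · intro i hi
      obtain ⟨j, -, rfl⟩ := Finset.mem_image.1 hi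
      exact Finset.mem_range.2 (ZMod.val_lt j)
    · exact Nat.geomSum_eq (le_refl 2) _ |>.trans (by simp)
  refine lt_of_lt_of_le ?_ huniv
  exact Finset.sum_lt_sum_of_subset (Finset.subset_univ S) (Finset.mem_univ k) hk
    (by positivity) (fun _ _ _ => Nat.zero_le _)

/-- Coefficients of a vanishing combination of small monomials vanish. -/
theorem coeff_zero {ι : Type*} [Fintype ι] (S : ι → Finset (ZMod (2 * m + 1)))
    (hS : ∀ p, (S p).card ≤ 2) (c : ι → F)
    (hzero : ∀ x : F, x ≠ 0 → ∑ p, c p * ∏ k ∈ S p, frob k x = 0)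
    {S₀ : Finset (ZMod (2 * m + 1))} (h0 : S₀.card ≤ 2) :
    ∑ p ∈ Finset.univ.filter (fun p => S p = S₀), c p = 0 := by
  classical
  have := h.finite
  let : Fintype F := Fintype.ofFinite F
  let J := {T : Finset (ZMod (2 * m + 1)) // T.card ≤ 2}
  let χ : J → (Fˣ →* F) := fun T => (powMonoidHom (expo T.1)).comp (Units.coeHom F)
  have hχ : Function.Injective χ := by
    intro T T' e
    obtain ⟨g, hg⟩ := IsCyclic.exists_ofOrder_eq_natCard (α := Fˣ)
    have e1 : g ^ expo T.1 = g ^ expo T'.1 := Units.ext (by
      rw [Units.val_pow_eq_pow_val, Units.val_pow_eq_pow_val]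
      exact DFunLike.congr_fun e g)
    rw [Nat.card_units] at hg
    have e2 := pow_injOn_Iio_orderOf (x := g) (by rw [hg]; exact expo_lt h T.2)
      (by rw [hg]; exact expo_lt h T'.2) e1
    exact Subtype.ext (expo_injective e2)
  have hli : LinearIndependent F (fun T => (χ T : Fˣ → F)) :=
    (linearIndependent_monoidHom Fˣ F).comp χ hχ
  have key := Fintype.linearIndependent_iff.1 hli
    (fun T => ∑ p ∈ Finset.univ.filter (fun p => S p = T.1), c p) (by
      funext u
      simp only [Finset.sum_apply, Pi.smul_apply, smul_eq_mul, Pi.zero_apply]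
      rw [← hzero u u.ne_zero, ← Finset.sum_fiberwise (s := Finset.univ)
        (g := fun p => (⟨S p, hS p⟩ : J))]
      refine Finset.sum_congr rfl fun T _ => ?_
      rw [Finset.sum_mul]
      refine Finset.sum_congr (by ext p; simp [Subtype.ext_iff]) fun p hp => ?_
      rw [Finset.mem_filter] at hp
      rw [prod_frob, ← hp.2]
      rfl) ⟨S₀, h0⟩
  exact key

/-- Additive maps are linearised polynomials. -/
theorem exists_linearised (L : F →+ F) :
    ∃ l : ZMod (2 * m + 1) → F, ∀ x, L x = ∑ i, l i * frob i x := by
  classical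
  have := h.finite
  have := h.charP
  let : Algebra (ZMod 2) F := ZMod.algebra F 2
  let Φ : (ZMod (2 * m + 1) → F) →+ (F →+ F) :=
    { toFun := fun l =>
        { toFun := fun x => ∑ i, l i * frob i x
          map_zero' := by simp [frob]
          map_add' := fun x y => by simp only [frob_add h, mul_add, Finset.sum_add_distrib] }
      map_zero' := by ext x; simp
      map_add' := fun a b => by ext x; simp [add_mul, Finset.sum_add_distrib] }
  have hinj : Function.Injective Φ := by
    refine (injective_iff_map_eq_zero Φ).2 fun l hl => funext fun i => ?_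
    have key := coeff_zero h (fun j : ZMod (2 * m + 1) => ({j} : Finset _)) (fun j => by simp) l
      (fun x _ => by
        have e := DFunLike.congr_fun hl x
        simpa [Φ] using e) (S₀ := {i}) (by simp)
    simpa [Finset.filter_eq'] using key
  have hfin : Finite (F →+ F) := Finite.of_injective _ DFunLike.coe_injective
  have hcard : Nat.card (ZMod (2 * m + 1) → F) = Nat.card (F →+ F) := by
    have e1 : Nat.card (F →+ F) = Nat.card (F →ₗ[ZMod 2] F) :=
      Nat.card_congr ⟨fun f => f.toZModLinearMap 2, fun f => f.toAddMonoidHom,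
        fun _ => rfl, fun _ => rfl⟩
    have hn : Module.finrank (ZMod 2) F = 2 * m + 1 := by
      have e := Module.natCard_eq_pow_finrank (K := ZMod 2) (V := F)
      rw [h.card, Nat.card_zmod] at e
      exact (Nat.pow_right_injective (le_refl 2) e).symm
    rw [e1, Module.natCard_eq_pow_finrank (K := ZMod 2) (V := F →ₗ[ZMod 2] F),
      Module.finrank_linearMap, hn, Nat.card_fun, Nat.card_zmod, h.card, Nat.card_zmod, ← pow_mul]
  obtain ⟨l, hl⟩ := ((Nat.bijective_iff_injective_and_card Φ).2 ⟨hinj, hcard⟩).2 L
  exact ⟨l, fun x => by rw [← hl]; rfl⟩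

/-- An additive bijection carrying `x ^ σ * x` to an additive image of itself is semilinear. -/
theorem semilinear_of_norm (L M : F →+ F) (hL : Function.Injective L)
    (hN : ∀ x, sg m (L x) * L x = M (sg m x * x)) :
    ∃ (c : Fˣ) (k : ZMod (2 * m + 1)), ∀ x, L x = (c : F) * frob k x := by
  classical
  have := h.charP
  obtain ⟨l, hl⟩ := exists_linearised h L
  obtain ⟨μ, hμ⟩ := exists_linearised h M
  set s := ((m + 1 : ℕ) : ZMod (2 * m + 1)) with hs
  have hs0 : s ≠ 0 := shift_ne_zero h
  let S : (ZMod (2 * m + 1) × ZMod (2 * m + 1)) ⊕ ZMod (2 * m + 1) → Finset (ZMod (2 * m + 1)) :=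
    Sum.elim (fun p => if p.1 + s = p.2 then {p.2 + 1} else {p.1 + s, p.2}) (fun k => {k + s, k})
  let c : (ZMod (2 * m + 1) × ZMod (2 * m + 1)) ⊕ ZMod (2 * m + 1) → F :=
    Sum.elim (fun p => sg m (l p.1) * l p.2) μ
  have hcard : ∀ p, (S p).card ≤ 2 := by
    rintro (⟨i, j⟩ | k)
    · simp only [S, Sum.elim_inl]
      split_ifs
      · simp
      · exact Finset.card_le_two
    · exact Finset.card_le_two
  have hzero : ∀ x : F, x ≠ 0 → ∑ p, c p * ∏ k ∈ S p, frob k x = 0 := by
    intro x _
    have hpair : ∀ i j : ZMod (2 * m + 1),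
        ∏ k ∈ S (Sum.inl (i, j)), frob k x = frob (i + s) x * frob j x := by
      intro i j
      simp only [S, Sum.elim_inl]
      split_ifs with e
      · rw [Finset.prod_singleton, e, frob_sq h]
      · rw [Finset.prod_pair e]
    have h1 : ∑ p : ZMod (2 * m + 1) × ZMod (2 * m + 1),
        c (Sum.inl p) * ∏ k ∈ S (Sum.inl p), frob k x = sg m (L x) * L x := by
      have e0 : sg m (L x) = ∑ i, sg m (l i) * frob (i + s) x := by
        rw [hl]
        refine (map_sum ({ toFun := sg m, map_zero' := sg_zero, map_add' := h.sg_add } : F →+ F)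
          _ _).trans (Finset.sum_congr rfl fun i _ => ?_)
        show sg m (l i * frob i x) = _
        rw [sg_mul, sg_eq_frob h (frob i x), frob_frob h, add_comm]
      rw [e0, hl, Finset.sum_mul_sum, Fintype.sum_prod_type]
      refine Finset.sum_congr rfl fun i _ => Finset.sum_congr rfl fun j _ => ?_
      simp only [hpair, c, Sum.elim_inl]
      ring
    have h2 : ∑ k : ZMod (2 * m + 1), c (Sum.inr k) * ∏ i ∈ S (Sum.inr k), frob i x =
        M (sg m x * x) := by
      rw [hμ]
      refine Finset.sum_congr rfl fun k _ => ?_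
      simp only [c, S, Sum.elim_inr]
      rw [Finset.prod_pair (fun e => hs0 (by linear_combination e)), frob_mul, sg_eq_frob h,
        frob_frob h]
    rw [Fintype.sum_sum_type, h1, h2, hN, CharTwo.add_self_eq_zero]
  have coeff := fun {S₀} => coeff_zero h S hcard c hzero (S₀ := S₀)
  have hne : ∀ {x : F}, x ≠ 0 → sg m x ≠ 0 := fun hx => sg_ne_zero hx
  -- no two indices differ by the shift
  have single : ∀ i, l i ≠ 0 → l (i + s) = 0 := by
    intro i hi
    have e : Finset.univ.filter (fun p => S p = {i + s + 1}) = {Sum.inl (i, i + s)} := by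
      ext p
      simp only [Finset.mem_filter, Finset.mem_univ, true_and, Finset.mem_singleton]
      constructor
      · rcases p with ⟨i', j'⟩ | k <;> simp only [S, Sum.elim_inl, Sum.elim_inr]
        · split_ifs with e'
          · intro e''
            have e3 : j' = i + s := add_right_cancel (Finset.singleton_injective e'')
            subst e3
            rw [add_right_cancel e']
          · intro e''
            have := congrArg Finset.card e''
            rw [Finset.card_pair e'] at this
            simp at this
        · intro e''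
          have := congrArg Finset.card e''
          rw [Finset.card_pair (fun e4 => hs0 (by linear_combination e4))] at this
          simp at this
      · rintro rfl; simp [S]
    have key := coeff (S₀ := {i + s + 1}) (by simp)
    rw [e, Finset.sum_singleton] at key
    exact (mul_eq_zero.1 key).resolve_left (hne hi)
  have hpairs : ∀ i j, l i ≠ 0 → l j ≠ 0 → j - i = 0 ∨ j - i = 1 := by
    intro i j hi hj
    have hij : i + s ≠ j := fun e => hj (e ▸ single i hi)
    by_contra hno
    simp only [not_or] at hno
    have e : Finset.univ.filter (fun p => S p = {i + s, j}) =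
        {Sum.inl (i, j), Sum.inl (j - s, i + s)} := by
      ext p
      simp only [Finset.mem_filter, Finset.mem_univ, true_and, Finset.mem_insert,
        Finset.mem_singleton]
      constructor
      · rcases p with ⟨i', j'⟩ | k <;> simp only [S, Sum.elim_inl, Sum.elim_inr]
        · split_ifs with e'
          · intro e''
            have := congrArg Finset.card e''
            rw [Finset.card_pair hij] at this
            simp at this
          · intro e''
            rcases pair_cases e'' with ⟨e1, e2⟩ | ⟨e1, e2⟩
            · left; rw [add_right_cancel e1, e2]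
            · right; rw [← e1, e2, add_sub_cancel_right]
        · intro e''
          exfalso
          rcases pair_cases e'' with ⟨e1, e2⟩ | ⟨e1, e2⟩
          · exact hno.1 (by linear_combination e1 - e2)
          · exact hno.2 (by linear_combination shift_add_shift h + e2 - e1)
      · rintro (rfl | rfl)
        · simp [S, hij]
        · simp only [S, Sum.elim_inl, sub_add_cancel, if_neg (Ne.symm hij)]
          exact Finset.pair_comm _ _
    have key := coeff (S₀ := {i + s, j}) (Finset.card_le_two)
    have hne2 : (Sum.inl (i, j) : (ZMod (2 * m + 1) × ZMod (2 * m + 1)) ⊕ ZMod (2 * m + 1)) ≠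
        Sum.inl (j - s, i + s) := by
      simp only [ne_eq, Sum.inl.injEq, Prod.mk.injEq, not_and]
      exact fun _ e2 => hij e2.symm
    rw [e, Finset.sum_pair hne2] at key
    simp only [c, Sum.elim_inl, single i hi, mul_zero, add_zero] at key
    exact (mul_eq_zero.1 key).elim (hne hi) hj
  obtain ⟨k, hk⟩ : ∃ k, l k ≠ 0 := by
    by_contra hc
    simp only [not_exists, not_not] at hc
    exact one_ne_zero (hL (show L (1 : F) = L 0 by simp [hl, hc]))
  refine ⟨Units.mk0 _ hk, k, fun x => ?_⟩
  rw [hl, Units.val_mk0, Finset.sum_eq_single k]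
  · intro j _ hjk
    by_cases hj : l j = 0
    · rw [hj, zero_mul]
    exfalso
    rcases hpairs k j hk hj with e1 | e1
    · exact hjk (sub_eq_zero.1 e1)
    rcases hpairs j k hj hk with e2 | e2
    · exact hjk (sub_eq_zero.1 e2).symm
    have e3 : ((2 : ℕ) : ZMod (2 * m + 1)) = 0 := by
      push_cast; linear_combination -e1 - e2
    have := congrArg ZMod.val e3
    rw [ZMod.val_cast_of_lt (by have := h.pos; omega), ZMod.val_zero] at this
    omega
  · exact fun e => absurd (Finset.mem_univ k) e

end CfsgLib.Suzuki
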