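/-
Suzuki group: automorphisms of the Sylow 2-subgroups.
-/
import Cfsg.Agent.Suzuki.Sylow
import Cfsg.Agent.Suzuki.NormalForm
import Cfsg.Agent.Suzuki.Semilinear
import Cfsg.Prelude.Def_Transfer
import Cfsg.Prelude.Def_Solvable

set_option autoImplicit false

namespace CfsgLib.Suzuki

variable {F : Type*} [Field F] {m : ℕ}

variable (h : IsSzField F m)

/-- The first coordinate. -/
noncomputable def fstC (u : unip h) : F := (alpha h u).toAdd

/-- The second coordinate. -/
noncomputable def sndC (u : unip h) : F := (exists_uE h u.2).choose_spec.choose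

/-- The element with given coordinates. -/
def uU (a b : F) : unip h := ⟨uE h a b, uE_mem h a b⟩

theorem fstC_uU (a b : F) : fstC h (uU h a b) = a := by
  simp [fstC, alpha, uU, uE, Umat]

theorem fstC_mul (u v : unip h) : fstC h (u * v) = fstC h u + fstC h v := by
  simp [fstC, map_mul]

theorem exists_uU (u : unip h) : ∃ a b, u = uU h a b := by
  obtain ⟨a, b, e⟩ := exists_uE h u.2
  exact ⟨a, b, Subtype.ext e⟩

theorem uU_inj {a b c d : F} (e : uU h a b = uU h c d) : a = c ∧ b = d :=
  uE_inj h (congrArg Subtype.val e)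

theorem uU_mul (a b c d : F) : uU h a b * uU h c d = uU h (a + c) (b + d + sg m a * c) :=
  Subtype.ext (uE_mul h a b c d)

theorem uU_zero : uU h 0 0 = 1 := Subtype.ext (uE_zero h)

theorem sndC_uU (a b : F) : sndC h (uU h a b) = b := by
  have e := (exists_uE h (uU h a b).2).choose_spec.choose_spec
  exact (uE_inj h e).2.symm

include h

theorem mem_center_iff_fstC {u : unip h} : u ∈ Subgroup.center (unip h) ↔ fstC h u = 0 := by
  obtain ⟨a, b, rfl⟩ := exists_uU h u
  rw [mem_center_unip_iff h, fstC_uU]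
  exact ⟨fun ⟨b', e⟩ => (uE_inj h e).1, fun e => ⟨b, by show uE h a b = _; rw [e]⟩⟩

/-- The automorphism with given linear parts. -/
noncomputable def mkAut (L M : F ≃+ F) (φ : F →+ F)
    (hc : ∀ a c, M (sg m a * c) = sg m (L a) * L c) : MulAut (unip h) :=
  MulEquiv.mk'
    { toFun := fun u => uU h (L (fstC h u)) (M (sndC h u) + φ (fstC h u))
      invFun := fun u => uU h (L.symm (fstC h u)) (M.symm (sndC h u - φ (L.symm (fstC h u))))
      left_inv := fun u => by
        obtain ⟨a, b, rfl⟩ := exists_uU h u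
        simp [fstC_uU, sndC_uU]
      right_inv := fun u => by
        obtain ⟨a, b, rfl⟩ := exists_uU h u
        simp [fstC_uU, sndC_uU] }
    (fun u v => by
      obtain ⟨a, b, rfl⟩ := exists_uU h u
      obtain ⟨c, d, rfl⟩ := exists_uU h v
      simp only [Equiv.coe_fn_mk, uU_mul, fstC_uU, sndC_uU, map_add, hc]
      congr 1
      ring)

theorem mkAut_uU (L M : F ≃+ F) (φ : F →+ F) (hc : ∀ a c, M (sg m a * c) = sg m (L a) * L c)
    (a b : F) : mkAut h L M φ hc (uU h a b) = uU h (L a) (M b + φ a) := by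
  show uU h (L (fstC h (uU h a b))) (M (sndC h (uU h a b)) + φ (fstC h (uU h a b))) = _
  rw [fstC_uU, sndC_uU]

theorem fstC_map (α : MulAut (unip h)) (u : unip h) :
    fstC h (α u) = fstC h (α (uU h (fstC h u) 0)) := by
  obtain ⟨a, b, rfl⟩ := exists_uU h u
  rw [fstC_uU, show uU h a b = uU h a 0 * uU h 0 b by rw [uU_mul]; simp, map_mul, fstC_mul]
  have : fstC h (α (uU h 0 b)) = 0 := by
    rw [← mem_center_iff_fstC h]
    have hz : uU h 0 b ∈ Subgroup.center (unip h) := (mem_center_iff_fstC h).2 (fstC_uU h 0 b)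
    exact Subgroup.mem_center_iff.2 fun y => α.symm.injective (by
      rw [map_mul, map_mul, MulEquiv.symm_apply_apply]; exact Subgroup.mem_center_iff.1 hz _)
  rw [this, add_zero]

/-- The permutation induced on the first coordinate. -/
noncomputable def fstPerm : MulAut (unip h) →* Equiv.Perm F where
  toFun α :=
    { toFun := fun a => fstC h (α (uU h a 0))
      invFun := fun a => fstC h (α⁻¹ (uU h a 0))
      left_inv := fun a => by
        show fstC h (α⁻¹ (uU h (fstC h (α (uU h a 0))) 0)) = a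
        rw [← fstC_map h α⁻¹]
        exact (congrArg (fstC h) (α.symm_apply_apply _)).trans (fstC_uU h a 0)
      right_inv := fun a => by
        show fstC h (α (uU h (fstC h (α⁻¹ (uU h a 0))) 0)) = a
        rw [← fstC_map h α]
        exact (congrArg (fstC h) (α.apply_symm_apply _)).trans (fstC_uU h a 0) }
  map_one' := Equiv.ext fun a => fstC_uU h a 0
  map_mul' := fun α β => Equiv.ext fun a => fstC_map h α (β (uU h a 0))

theorem fstPerm_apply (α : MulAut (unip h)) (a : F) :
    fstPerm h α a = fstC h (α (uU h a 0)) := rfl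

theorem semilinear_of_aut (α : MulAut (unip h)) :
    ∃ (c : Fˣ) (k : ZMod (2 * m + 1)), ∀ x, fstPerm h α x = (c : F) * frob k x := by
  let L : F →+ F :=
    { toFun := fstPerm h α
      map_zero' := by rw [fstPerm_apply, uU_zero, map_one]; simp [fstC]
      map_add' := fun a b => by
        rw [fstPerm_apply, fstPerm_apply, fstPerm_apply, ← fstC_mul, ← map_mul, uU_mul,
          fstC_map h α (uU h (a + b) (0 + 0 + sg m a * b)), fstC_uU] }
  have hz : ∀ b, fstC h (α (uU h 0 b)) = 0 := fun b => by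
    rw [fstC_map h α, fstC_uU, uU_zero, map_one]; simp [fstC]
  let M : F →+ F :=
    { toFun := fun b => sndC h (α (uU h 0 b))
      map_zero' := by rw [uU_zero, map_one, ← uU_zero h, sndC_uU]
      map_add' := fun b b' => by
        have e : uU h 0 (b + b') = uU h 0 b * uU h 0 b' := by rw [uU_mul]; simp
        obtain ⟨p, q, e1⟩ := exists_uU h (α (uU h 0 b))
        obtain ⟨p', q', e2⟩ := exists_uU h (α (uU h 0 b'))
        have hp : p = 0 := by rw [← fstC_uU h p q, ← e1, hz]
        rw [e, map_mul, e1, e2, uU_mul, sndC_uU, sndC_uU, sndC_uU, hp, sg_zero, zero_mul, add_zero] }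
  refine semilinear_of_norm h L M (fstPerm h α).injective fun x => ?_
  obtain ⟨p, q, e⟩ := exists_uU h (α (uU h x 0))
  have hp : p = L x := by rw [← fstC_uU h p q, ← e]; rfl
  have e2 : uU h x 0 * uU h x 0 = uU h 0 (sg m x * x) := Subtype.ext (uE_sq h x 0)
  have e3 : α (uU h 0 (sg m x * x)) = uU h 0 (sg m p * p) := by
    rw [← e2, map_mul, e]; exact Subtype.ext (uE_sq h p q)
  show sg m (L x) * L x = sndC h (α (uU h 0 (sg m x * x)))
  rw [e3, sndC_uU, hp]

theorem mem_ker_fstPerm {α : MulAut (unip h)} (hα : α ∈ (fstPerm h).ker) :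
    ∃ φ : F →+ F, ∀ a b, α (uU h a b) = uU h a (b + φ a) := by
  have hL : ∀ a, fstC h (α (uU h a 0)) = a := fun a => by
    have := DFunLike.congr_fun (MonoidHom.mem_ker.1 hα) a
    simpa [fstPerm_apply] using this
  have h0 : ∀ b, α (uU h 0 b) = uU h 0 b := by
    intro b
    obtain ⟨x, hx⟩ := (bijective_norm_map h).2 b
    simp only at hx
    obtain ⟨p, q, e⟩ := exists_uU h (α (uU h x 0))
    have hp : p = x := by rw [← fstC_uU h p q, ← e, hL]
    have e2 : uU h x 0 * uU h x 0 = uU h 0 b := Subtype.ext ((uE_sq h x 0).trans (congrArg (uE h 0) hx))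
    rw [← e2, map_mul, e, hp]
    exact Subtype.ext ((uE_sq h x q).trans (uE_sq h x 0).symm)
  have ha : ∀ a, α (uU h a 0) = uU h a (sndC h (α (uU h a 0))) := fun a => by
    obtain ⟨p, q, e⟩ := exists_uU h (α (uU h a 0))
    have hp : p = a := by rw [← fstC_uU h p q, ← e, hL]
    rw [e, sndC_uU, hp]
  have hab : ∀ a b, α (uU h a b) = uU h a (b + sndC h (α (uU h a 0))) := fun a b => by
    rw [show uU h a b = uU h a 0 * uU h 0 b by rw [uU_mul]; simp, map_mul, h0, ha, uU_mul, sndC_uU]
    simp [add_comm]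
  refine ⟨{ toFun := fun a => sndC h (α (uU h a 0))
            map_zero' := by rw [h0, sndC_uU]
            map_add' := fun a b => ?_ }, hab⟩
  have e1 := map_mul α (uU h a 0) (uU h b 0)
  rw [ha a, ha b, uU_mul, uU_mul, hab] at e1
  linear_combination (uU_inj h e1).2

theorem card_ker_fstPerm : Nat.card (fstPerm h).ker = 2 ^ ((2 * m + 1) ^ 2) := by
  classical
  have := h.finite
  have := h.charP
  let : Algebra (ZMod 2) F := ZMod.algebra F 2
  have hc : ∀ a c : F, (AddEquiv.refl F) (sg m a * c) =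
      sg m ((AddEquiv.refl F) a) * (AddEquiv.refl F) c := fun a c => rfl
  let f : (F →+ F) → (fstPerm h).ker := fun φ =>
    ⟨mkAut h (AddEquiv.refl F) (AddEquiv.refl F) φ hc, MonoidHom.mem_ker.2 (Equiv.ext fun a => by
      rw [fstPerm_apply, mkAut_uU, fstC_uU]; rfl)⟩
  have hf : Function.Bijective f := by
    refine ⟨fun φ ψ e => AddMonoidHom.ext fun a => ?_, fun α => ?_⟩
    · have e1 := DFunLike.congr_fun (congrArg Subtype.val e) (uU h a 0)
      simp only [f, mkAut_uU] at e1
      simpa using (uU_inj h e1).2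
    · obtain ⟨φ, hφ⟩ := mem_ker_fstPerm h α.2
      refine ⟨φ, Subtype.ext (MulEquiv.ext fun u => ?_)⟩
      obtain ⟨a, b, rfl⟩ := exists_uU h u
      simp only [f]
      rw [mkAut_uU, hφ]
      rfl
  have e1 : Nat.card (F →+ F) = Nat.card (F →ₗ[ZMod 2] F) :=
    Nat.card_congr ⟨fun f => f.toZModLinearMap 2, fun f => f.toAddMonoidHom,
      fun _ => rfl, fun _ => rfl⟩
  have hn : Module.finrank (ZMod 2) F = 2 * m + 1 := by
    have e := Module.natCard_eq_pow_finrank (K := ZMod 2) (V := F)
    rw [h.card, Nat.card_zmod] at e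
    exact (Nat.pow_right_injective (le_refl 2) e).symm
  rw [← Nat.card_eq_of_bijective f hf, e1,
    Module.natCard_eq_pow_finrank (K := ZMod 2) (V := F →ₗ[ZMod 2] F),
    Module.finrank_linearMap, hn, Nat.card_zmod, sq]

theorem card_range_fstPerm :
    Nat.card (fstPerm h).range = (2 * m + 1) * (Nat.card F - 1) := by
  classical
  have := h.finite
  have := h.charP
  have key : ∀ (c : Fˣ) (k : ZMod (2 * m + 1)),
      ∃ α : MulAut (unip h), ∀ x, fstPerm h α x = (c : F) * frob k x := by
    intro c k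
    have hcN : sg m (c : F) * (c : F) ≠ 0 := mul_ne_zero (sg_ne_zero c.ne_zero) c.ne_zero
    let L : F ≃+ F :=
      { toFun := fun x => (c : F) * frob k x
        invFun := fun x => frob (-k) (((c⁻¹ : Fˣ) : F) * x)
        left_inv := fun x => by simp [frob_frob h, frob_zero_idx]
        right_inv := fun x => by simp [frob_frob h, frob_zero_idx]
        map_add' := fun x y => by simp [frob_add h, mul_add] }
    let M : F ≃+ F :=
      { toFun := fun x => sg m (c : F) * (c : F) * frob k x
        invFun := fun x => frob (-k) ((sg m (c : F) * (c : F))⁻¹ * x)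
        left_inv := fun x => by
          show frob (-k) ((sg m (c : F) * (c : F))⁻¹ * (sg m (c : F) * (c : F) * frob k x)) = x
          rw [inv_mul_cancel_left₀ hcN, frob_frob h, neg_add_cancel, frob_zero_idx]
        right_inv := fun x => by
          show sg m (c : F) * (c : F) *
            frob k (frob (-k) ((sg m (c : F) * (c : F))⁻¹ * x)) = x
          rw [frob_frob h, add_neg_cancel, frob_zero_idx, mul_inv_cancel_left₀ hcN]
        map_add' := fun x y => by simp [frob_add h, mul_add] }
    refine ⟨mkAut h L M 0 (fun a b => ?_), fun x => ?_⟩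
    · show sg m (c : F) * (c : F) * frob k (sg m a * b) =
        sg m ((c : F) * frob k a) * ((c : F) * frob k b)
      rw [frob_mul, sg_mul, sg_eq_frob h a, frob_frob h, sg_eq_frob h (frob k a), frob_frob h,
        add_comm k]
      ring
    · rw [fstPerm_apply, mkAut_uU, fstC_uU]; rfl
  choose α hα using key
  let f : Fˣ × ZMod (2 * m + 1) → (fstPerm h).range := fun p =>
    ⟨fstPerm h (α p.1 p.2), ⟨_, rfl⟩⟩
  have hf : Function.Bijective f := by
    constructor
    · rintro ⟨c, k⟩ ⟨c', k'⟩ e
      have e1 : ∀ x, (c : F) * frob k x = (c' : F) * frob k' x := fun x => by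
        rw [← hα, ← hα]
        exact DFunLike.congr_fun (congrArg Subtype.val e) x
      have hc : (c : F) = c' := by simpa [frob] using e1 1
      obtain rfl : c = c' := Units.ext hc
      have e2 : ∀ x : F, frob k x = frob k' x := fun x => mul_left_cancel₀ c.ne_zero (e1 x)
      refine Prod.ext rfl ?_
      by_contra hkk
      have key := coeff_zero h (fun b : Bool => ({if b then k else k'} : Finset _))
        (fun b => by simp) (fun _ => (1 : F))
        (fun x _ => by simp [e2 x, CharTwo.add_self_eq_zero]) (S₀ := {k}) (by simp)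
      rw [Finset.sum_eq_single true] at key
      · exact one_ne_zero key
      · intro b hb hb'
        cases b
        · simp at hb; exact absurd hb.symm hkk
        · exact absurd rfl hb'
      · simp
    · rintro ⟨π, β, rfl⟩
      obtain ⟨c, k, hck⟩ := semilinear_of_aut h β
      exact ⟨(c, k), Subtype.ext (Equiv.ext fun x => by
        show fstPerm h (α c k) x = _; rw [hα, hck])⟩
  rw [← Nat.card_eq_of_bijective f hf, Nat.card_prod, Nat.card_units, Nat.card_zmod, mul_comm]

omit h in
theorem pCore_eq_of_odd_index {X : Type*} [Group X] [Finite X] {K : Subgroup X} (hK : K.Normal)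
    {k : ℕ} (hc : Nat.card K = 2 ^ k) (hi : ¬ 2 ∣ K.index) : Cfsg.pCore 2 X = K := by
  have : Fact (Nat.Prime 2) := ⟨Nat.prime_two⟩
  refine le_antisymm (sSup_le ?_) (le_sSup ⟨hK, IsPGroup.of_card hc⟩)
  rintro N ⟨hN, hP⟩ x hx
  obtain ⟨r, hr⟩ := hP ⟨x, hx⟩
  have hr' : x ^ 2 ^ r = 1 := congrArg Subtype.val hr
  have h1 : orderOf (QuotientGroup.mk' K x) ∣ 2 ^ r :=
    orderOf_dvd_of_pow_eq_one (by rw [← map_pow, hr', map_one])
  have h2 : orderOf (QuotientGroup.mk' K x) ∣ K.index := orderOf_dvd_natCard _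
  have hcop : Nat.Coprime (2 ^ r) K.index :=
    Nat.Coprime.pow_left _ ((Nat.prime_two.coprime_iff_not_dvd).2 hi)
  exact (QuotientGroup.eq_one_iff x).1
    (orderOf_eq_one_iff.1 (Nat.eq_one_of_dvd_coprimes hcop h1 h2))

/-- The automorphism group of the Sylow 2-subgroup. -/
theorem aut_unip_structure {S : Type*} [Group S] [Finite S] (e : S ≃* unip h) :
    Cfsg.IsElementaryAbelian 2 (Cfsg.pCore 2 (MulAut S)) ∧
      Nat.card (Cfsg.pCore 2 (MulAut S)) = 2 ^ ((2 * m + 1) ^ 2) ∧
        Nat.card (MulAut S) = 2 ^ ((2 * m + 1) ^ 2) * ((2 * m + 1) * (Nat.card F - 1)) := by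
  classical
  have := h.finite
  have := h.charP
  have := finite_G h
  have : Finite (MulAut S) := Finite.of_injective _ DFunLike.coe_injective
  have : Finite (MulAut (unip h)) := Finite.of_injective _ DFunLike.coe_injective
  have : Fact (Nat.Prime 2) := ⟨Nat.prime_two⟩
  have hK := card_ker_fstPerm h
  have hI : (fstPerm h).ker.index = (2 * m + 1) * (Nat.card F - 1) := by
    rw [Subgroup.index_ker]; exact card_range_fstPerm h
  have hA : Nat.card (MulAut (unip h)) = 2 ^ ((2 * m + 1) ^ 2) * ((2 * m + 1) * (Nat.card F - 1)) := by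
    rw [← hK, ← hI, Subgroup.card_mul_index]
  let E : MulAut (unip h) ≃* MulAut S := MulAut.congr e.symm
  have hnorm : ((fstPerm h).ker.map E.toMonoidHom).Normal :=
    Subgroup.Normal.map inferInstance _ E.surjective
  have hmap : Cfsg.pCore 2 (MulAut S) = (fstPerm h).ker.map E.toMonoidHom := by
    refine pCore_eq_of_odd_index hnorm
      (k := (2 * m + 1) ^ 2) (by rw [Subgroup.card_map_of_injective E.injective, hK]) ?_
    have hi : ((fstPerm h).ker.map E.toMonoidHom).index = (fstPerm h).ker.index :=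
      Subgroup.index_map_equiv (fstPerm h).ker E
    rw [hi, hI, Nat.prime_two.dvd_mul, h.card, pow_succ]
    have := Nat.one_le_two_pow (n := 2 * m)
    omega
  refine ⟨⟨⟨⟨?_⟩⟩, ?_⟩, ?_, ?_⟩
  · rintro ⟨x, hx⟩ ⟨y, hy⟩
    apply Subtype.ext
    obtain ⟨x', hx', rfl⟩ : x ∈ (fstPerm h).ker.map E.toMonoidHom := hmap ▸ hx
    obtain ⟨y', hy', rfl⟩ : y ∈ (fstPerm h).ker.map E.toMonoidHom := hmap ▸ hy
    show E x' * E y' = E y' * E x'
    rw [← map_mul, ← map_mul]
    congr 1
    obtain ⟨φ, hφ⟩ := mem_ker_fstPerm h hx'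
    obtain ⟨ψ, hψ⟩ := mem_ker_fstPerm h hy'
    refine MulEquiv.ext fun u => ?_
    obtain ⟨a, b, rfl⟩ := exists_uU h u
    show x' (y' (uU h a b)) = y' (x' (uU h a b))
    rw [hψ, hφ, hφ, hψ, add_right_comm]
  · rw [hmap]
    rintro _ ⟨x, hx, rfl⟩
    obtain ⟨φ, hφ⟩ := mem_ker_fstPerm h hx
    rw [← map_pow]
    have : x ^ 2 = 1 := MulEquiv.ext fun u => by
      obtain ⟨a, b, rfl⟩ := exists_uU h u
      show x (x (uU h a b)) = uU h a b
      rw [hφ, hφ, add_assoc, CharTwo.add_self_eq_zero, add_zero]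
    rw [this, map_one]
  · rw [hmap, Subgroup.card_map_of_injective E.injective, hK]
  · rw [← Nat.card_congr E.toEquiv, hA]

end CfsgLib.Suzuki
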