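/-
Suzuki group: subfield subgroups of one order are conjugate.
-/
import Cfsg.Agent.Suzuki.Maximals

set_option autoImplicit false

namespace CfsgLib.Suzuki

variable {F : Type*} [Field F] {m : ℕ}

local notation "G" => SzG F m

theorem not_solvable_Sz (h : IsSzField F m) : ¬ Group.IsSolvable G := by
  intro hs
  have := isSimpleGroup_Sz h
  exact absurd (commutator_eq_top h)
    (Group.IsSolvable.commutator_lt_top_of_nontrivial G).ne

variable (h : IsSzField F m)
include h

theorem range_szMap_le {K K' : Type*} [Field K] [Field K'] {k : ℕ} (φ : K →+* F) (ψ : K' →+* F)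
    (hK : IsSzField K k) (hK' : IsSzField K' k) (hdiv : 2 * k + 1 ∣ 2 * m + 1) :
    (szMap φ hK hdiv h).range ≤ (szMap ψ hK' hdiv h).range := by
  have := hK.finite
  have := hK'.finite
  have hr : ∀ x : K, ∃ y : K', ψ y = φ x := fun x => by
    refine (mem_range_iff ψ _).2 ?_
    rw [hK'.card, ← hK.card]
    exact (mem_range_iff φ _).1 ⟨x, rfl⟩
  have hu : ∀ a b : K, uE h (φ a) (φ b) ∈ (szMap ψ hK' hdiv h).range := by
    intro a b
    obtain ⟨a', ha⟩ := hr a
    obtain ⟨b', hb⟩ := hr b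
    exact ⟨uE hK' a' b', by rw [szMap_uE, ha, hb]⟩
  have hd : ∀ t : Kˣ, dE h (Units.map φ.toMonoidHom t) ∈ (szMap ψ hK' hdiv h).range := by
    intro t
    obtain ⟨y, hy⟩ := hr t
    have hy0 : y ≠ 0 := fun e => t.ne_zero (φ.injective (by rw [← hy, e, map_zero, map_zero]))
    refine ⟨dE hK' (Units.mk0 y hy0), ?_⟩
    rw [szMap_dE]
    exact congrArg (dE h) (Units.ext hy)
  have hw : wE h ∈ (szMap ψ hK' hdiv h).range := ⟨wE hK', szMap_wE ψ hK' hdiv h⟩
  rintro _ ⟨g, rfl⟩
  rcases decomp hK g with ⟨a, b, t, rfl⟩ | ⟨a, b, c, d, t, rfl⟩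
  · rw [map_mul, szMap_uE, szMap_dE]
    exact mul_mem (hu a b) (hd t)
  · rw [map_mul, map_mul, map_mul, szMap_uE, szMap_wE, szMap_uE, szMap_dE]
    exact mul_mem (mul_mem (mul_mem (hu a b) hw) (hu c d)) (hd t)

theorem order_inj {a b : ℕ} (ha : 1 ≤ a) (hb : 1 ≤ b)
    (e : a ^ 2 * (a ^ 2 + 1) * (a - 1) = b ^ 2 * (b ^ 2 + 1) * (b - 1)) : a = b := by
  have key : ∀ x y : ℕ, 1 ≤ x → x < y →
      x ^ 2 * (x ^ 2 + 1) * (x - 1) < y ^ 2 * (y ^ 2 + 1) * (y - 1) := by
    intro x y hx hxy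
    have h1 : x ^ 2 ≤ y ^ 2 := Nat.pow_le_pow_left hxy.le 2
    have h2 : x ^ 2 * (x ^ 2 + 1) ≤ y ^ 2 * (y ^ 2 + 1) :=
      Nat.mul_le_mul h1 (Nat.add_le_add_right h1 1)
    exact Nat.mul_lt_mul_of_le_of_lt h2 (by omega) (by
      have : 0 < y := by omega
      positivity)
  rcases lt_trichotomy a b with hlt | hlt | hlt
  · exact absurd e (key a b ha hlt).ne
  · exact hlt
  · exact absurd e.symm (key b a hb hlt).ne

/-- A subgroup isomorphic to a smaller Suzuki group is conjugate to the standard one. -/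
theorem conj_to_standard {K : Type*} [Field K] {k : ℕ} (hK : IsSzField K k)
    (hdiv : 2 * k + 1 ∣ 2 * m + 1) (φ : K →+* F) {S : Subgroup G}
    (e : S ≃* SzG K k) : ∃ c : G, conjBy c S = (szMap φ hK hdiv h).range := by
  have hns : ¬ Group.IsSolvable S := fun hs =>
    not_solvable_Sz hK (Group.isSolvable_of_surjective (f := e.toMonoidHom) e.surjective)
  obtain ⟨j, hj, hdj, ψ, c, hc⟩ := nonsolvable_cases h hns
  refine ⟨c, ?_⟩
  have hK' := galoisField_isSzField hj
  obtain rfl : j = k := by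
    have h1 : Nat.card (conjBy c S) = Nat.card K ^ 2 * (Nat.card K ^ 2 + 1) * (Nat.card K - 1) := by
      rw [conjBy, Subgroup.card_map_of_injective (MulAut.conj c).injective, Nat.card_congr e.toEquiv,
        card_Sz hK]
    rw [hc, card_range_szMap h ψ hK' hdj] at h1
    have := order_inj h (by rw [hK'.card]; exact Nat.one_le_two_pow)
      (by rw [hK.card]; exact Nat.one_le_two_pow) h1
    rw [hK'.card, hK.card] at this
    have := Nat.pow_right_injective (le_refl 2) this
    omega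
  exact hc.trans (le_antisymm (range_szMap_le h ψ φ hK' hK hdiv) (range_szMap_le h φ ψ hK hK' hdiv))

end CfsgLib.Suzuki
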