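/-
Suzuki group: a lower bound for the degree of a nontrivial complex representation.
-/
import Cfsg.Agent.Suzuki.Fixity

set_option autoImplicit false

namespace CfsgLib.Suzuki

variable {F : Type*} [Field F] {m : ℕ}

local notation "G" => SzG F m

variable (h : IsSzField F m)
include h

theorem card_le_two_mul_range : Nat.card F ≤
    2 * ((Set.range fun e : F => sg m e + e).ncard) := by
  have := h.finite
  let φ : F →+ F := AddMonoidHom.mk' (fun s => sg m s + s) fun s r => by rw [h.sg_add]; ring
  have hker : (φ.ker : Set F) ⊆ {0, 1} := by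
    intro s hs
    have hs' : sg m s + s = 0 := hs
    have h1 : sg m s = s := by linear_combination hs' - s * h.two_eq_zero
    have h2 := h.sg_sg s
    rw [h1, h1] at h2
    by_cases hs0 : s = 0
    · exact Or.inl hs0
    · refine Or.inr (mul_left_cancel₀ hs0 ?_)
      rw [mul_one, ← pow_two]
      exact h2.symm
  rw [← φ.ker.card_mul_index, AddSubgroup.index_ker]
  refine Nat.mul_le_mul ?_ (le_of_eq (Nat.card_coe_set_eq _))
  exact (le_of_eq (Nat.card_coe_set_eq _)).trans
    ((Set.ncard_le_ncard hker (Set.toFinite _)).trans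
      ((Set.ncard_insert_le _ _).trans (by rw [Set.ncard_singleton])))

theorem range_cases (x : F) :
    (∃ e, sg m e + e = x) ∨ ∃ e, sg m e + e + 1 = x := by
  have := h.finite
  by_contra hno
  simp only [not_or, not_exists] at hno
  set I := Set.range fun e : F => sg m e + e
  have hdisj : Disjoint I ((fun s => s + 1) '' I) := by
    rw [Set.disjoint_left]
    rintro s ⟨e, rfl⟩ ⟨_, ⟨r, rfl⟩, hr⟩
    apply h.corner_ne_zero (e + r)
    rw [h.sg_add]
    linear_combination -hr + (sg m r + r + 1) * h.two_eq_zero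
  have hsub : I ∪ (fun s => s + 1) '' I ⊆ {x}ᶜ := by
    rintro s (⟨e, rfl⟩ | ⟨_, ⟨e, rfl⟩, rfl⟩) e'
    · exact hno.1 e (Set.mem_singleton_iff.1 e')
    · exact hno.2 e (Set.mem_singleton_iff.1 e')
  have h1 := Set.ncard_le_ncard hsub (Set.toFinite _)
  rw [Set.ncard_union_eq hdisj (Set.toFinite _) (Set.toFinite _),
    Set.ncard_image_of_injective _ (add_left_injective 1)] at h1
  have h2 := Set.ncard_add_ncard_compl ({x} : Set F)
  rw [Set.ncard_singleton] at h2
  have h3 := card_le_two_mul_range h
  change Nat.card F ≤ 2 * I.ncard at h3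
  omega

/-- A nontrivial `{±1}`-valued character has at most two elements in the radical of the
commutator form. -/
theorem radical_unique {c : F → ℂ} (hmul : ∀ a b, c (a + b) = c a * c b)
    (hsign : ∀ a, c a = 1 ∨ c a = -1) {b₀ : F} (hb₀ : c b₀ = -1) {a a' : F} (ha : a ≠ 0)
    (ha' : a' ≠ 0) (hr : ∀ e, c (sg m a * e + sg m e * a) = 1)
    (hr' : ∀ e, c (sg m a' * e + sg m e * a') = 1) : a = a' := by
  have key : ∀ u : F, u ≠ 0 → (∀ e, c (sg m u * e + sg m e * u) = 1) →
      (∀ e, c (sg m u * u * (sg m e + e)) = 1) ∧ c (sg m u * u) = -1 := by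
    intro u hu hru
    have h1 : ∀ e, c (sg m u * u * (sg m e + e)) = 1 := by
      intro e
      have := hru (u * e)
      rw [sg_mul] at this
      convert this using 2
      ring
    refine ⟨h1, (hsign _).resolve_left fun h2 => ?_⟩
    have hl : sg m u * u ≠ 0 := mul_ne_zero (sg_ne_zero hu) hu
    have hx : c (sg m u * u * (b₀ / (sg m u * u))) = -1 := by
      rw [mul_div_cancel₀ _ hl, hb₀]
    rcases range_cases h (b₀ / (sg m u * u)) with ⟨e, he⟩ | ⟨e, he⟩
    · rw [← he, h1] at hx; norm_num at hx
    · rw [← he, mul_add, hmul, h1, mul_one, h2] at hx; norm_num at hx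
  obtain ⟨k1, k2⟩ := key a ha hr
  obtain ⟨k1', k2'⟩ := key a' ha' hr'
  by_contra hne
  have hl : sg m a * a + sg m a' * a' ≠ 0 := by
    intro e
    refine hne ((bijective_norm_map h).1 ?_)
    show sg m a * a = sg m a' * a'
    linear_combination e - (sg m a' * a') * h.two_eq_zero
  have hx : c ((sg m a * a + sg m a' * a') * (b₀ / (sg m a * a + sg m a' * a'))) = -1 := by
    rw [mul_div_cancel₀ _ hl, hb₀]
  rw [add_mul, hmul] at hx
  rcases range_cases h (b₀ / (sg m a * a + sg m a' * a')) with ⟨e, he⟩ | ⟨e, he⟩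
  · rw [← he, k1, k1'] at hx; norm_num at hx
  · rw [← he, mul_add (sg m a * a) (sg m e + e) 1, mul_add (sg m a' * a') (sg m e + e) 1, hmul, hmul,
      k1, k1', mul_one, mul_one, k2, k2'] at hx
    norm_num at hx

/-- Every nontrivial complex representation has degree at least `2 ^ m * (q - 1)`. -/
theorem two_pow_mul_le_finrank {V : Type*} [AddCommGroup V] [Module ℂ V] [FiniteDimensional ℂ V]
    (ρ : Representation ℂ G V) (hρ : ∃ g, ρ g ≠ 1) :
    2 ^ m * (Nat.card F - 1) ≤ Module.finrank ℂ V := by
  classical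
  have := h.finite
  let : Fintype F := Fintype.ofFinite F
  have := isSimpleGroup_Sz h
  -- faithfulness
  have hfaith : ∀ g, ρ g = 1 → g = 1 := by
    intro g hg
    rcases (MonoidHom.normal_ker ρ.toHomUnits).eq_bot_or_eq_top with e | e
    · have h1 : g ∈ ρ.toHomUnits.ker := MonoidHom.mem_ker.2 (Units.ext hg)
      rwa [e, Subgroup.mem_bot] at h1
    · obtain ⟨g', hg'⟩ := hρ
      exact absurd (congrArg Units.val (MonoidHom.mem_ker.1 (e.symm ▸ Subgroup.mem_top g'))) hg'
  set z : F → Module.End ℂ V := fun b => ρ (uE h 0 b) with hz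
  have zadd : ∀ a b, z (a + b) = z a * z b := by
    intro a b
    show ρ _ = ρ _ * ρ _
    rw [← map_mul, uE_mul]
    simp
  have zcomm : ∀ a b, z a * z b = z b * z a := fun a b => by rw [← zadd, ← zadd, add_comm]
  have zsq : ∀ b, z b * z b = 1 := by
    intro b
    show ρ _ * ρ _ = 1
    rw [← map_mul, uE_sq]
    simp [uE_zero]
  obtain ⟨b₀, hb₀⟩ : ∃ b₀, z b₀ ≠ 1 := ⟨1, fun e => uE_one_ne h (hfaith _ e)⟩
  obtain ⟨w₀, hw₀⟩ : ∃ w, z b₀ w - w ≠ 0 := by
    by_contra hno
    simp only [not_exists, not_not, sub_eq_zero] at hno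
    exact hb₀ (LinearMap.ext hno)
  -- a common eigenvector
  have hev : ∀ s : Finset F, ∃ v : V, v ≠ 0 ∧ z b₀ v = -v ∧ ∀ b ∈ s, z b v = v ∨ z b v = -v := by
    intro s
    induction s using Finset.induction_on with
    | empty =>
      refine ⟨z b₀ w₀ - w₀, hw₀, ?_, by simp⟩
      rw [map_sub, ← Module.End.mul_apply, zsq, Module.End.one_apply, neg_sub]
    | insert b s _ ih =>
      obtain ⟨v, hv0, hvb, hvs⟩ := ih
      by_cases hsum : z b v + v = 0
      · refine ⟨v, hv0, hvb, fun b' hb' => ?_⟩
        rcases Finset.mem_insert.1 hb' with rfl | hb'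
        · exact Or.inr (eq_neg_of_add_eq_zero_left hsum)
        · exact hvs b' hb'
      · refine ⟨z b v + v, hsum, ?_, fun b' hb' => ?_⟩
        · rw [map_add, ← Module.End.mul_apply, zcomm, Module.End.mul_apply, hvb, map_neg, neg_add]
        · rcases Finset.mem_insert.1 hb' with rfl | hb'
          · left
            rw [map_add, ← Module.End.mul_apply, zsq, Module.End.one_apply, add_comm]
          · rw [map_add, ← Module.End.mul_apply, zcomm, Module.End.mul_apply]
            rcases hvs b' hb' with e | e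
            · left; rw [e]
            · right; rw [e, map_neg, neg_add]
  obtain ⟨v, hv0, hvb₀, hv⟩ := hev Finset.univ
  set c : F → ℂ := fun b => if z b v = v then 1 else -1 with hc
  have hcv : ∀ b, z b v = c b • v := by
    intro b
    by_cases e : z b v = v
    · simp [hc, e]
    · simp [hc, e, (hv b (Finset.mem_univ b)).resolve_left e]
  have hsign : ∀ b, c b = 1 ∨ c b = -1 := by
    intro b; by_cases e : z b v = v <;> simp [hc, e]
  have hcmul : ∀ a b, c (a + b) = c a * c b := by
    intro a b
    refine smul_left_injective ℂ hv0 ?_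
    show c (a + b) • v = (c a * c b) • v
    rw [← hcv, zadd, Module.End.mul_apply, hcv, map_smul, hcv, smul_smul, mul_comm]
  have hcb₀ : c b₀ = -1 := by
    refine smul_left_injective ℂ hv0 ?_
    show c b₀ • v = (-1 : ℂ) • v
    rw [← hcv, hvb₀, neg_smul, one_smul]
  have hc0 : c 0 = 1 := by
    have : z 0 = 1 := by show ρ _ = 1; rw [uE_zero, map_one]
    simp [hc, this]
  have hcsq : ∀ b, c b * c b = 1 := fun b => by rcases hsign b with e | e <;> rw [e] <;> norm_num
  have hsum : ∀ e : F, e ≠ 0 → ∑ b, c (e * b) = 0 := by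
    intro e he
    have h1 := Equiv.sum_comp (Equiv.addRight (b₀ / e)) (fun b => c (e * b))
    simp only [Equiv.coe_addRight, mul_add, mul_div_cancel₀ _ he, hcmul, hcb₀, mul_neg_one,
      Finset.sum_neg_distrib] at h1
    linear_combination (-1 / 2 : ℂ) * h1
  -- the eigenspaces
  let E : F → Submodule ℂ V := fun l =>
    { carrier := {w | ∀ b, z b w = c (l * b) • w}
      add_mem' := fun {x y} hx hy b => by rw [map_add, hx b, hy b, smul_add]
      zero_mem' := fun b => by rw [map_zero, smul_zero]
      smul_mem' := fun r x hx b => by rw [map_smul, hx b, smul_comm] }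
  let L : (Π l : {l : F // l ≠ 0}, E l.1) →ₗ[ℂ] V :=
    { toFun := fun w => ∑ l, (w l : V)
      map_add' := fun w w' => by simp [Finset.sum_add_distrib]
      map_smul' := fun r w => by simp [Finset.smul_sum] }
  have hLinj : Function.Injective L := by
    intro w w' e
    funext l
    apply Subtype.ext
    have hP : ∀ u : Π l : {l : F // l ≠ 0}, E l.1,
        ∑ b, c (l.1 * b) • z b (L u) = (Fintype.card F : ℂ) • (u l : V) := by
      intro u
      show ∑ b, c (l.1 * b) • z b (∑ k, (u k : V)) = _
      simp only [map_sum, Finset.smul_sum]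
      rw [Finset.sum_comm]
      rw [Finset.sum_eq_single l]
      · simp only [(u l).2 _, smul_smul, hcsq, one_smul, Finset.sum_const, Finset.card_univ,
          Nat.cast_smul_eq_nsmul]
      · intro k _ hk
        simp only [(u k).2 _, smul_smul, ← hcmul, ← add_mul, ← Finset.sum_smul]
        rw [hsum, zero_smul]
        intro e0
        exact hk (Subtype.ext (by linear_combination e0 - l.1 * h.two_eq_zero))
      · intro hl; exact absurd (Finset.mem_univ l) hl
    have h2 := hP w
    rw [e, hP w'] at h2
    exact (smul_right_injective V (Nat.cast_ne_zero.2 Fintype.card_ne_zero : (Fintype.card F : ℂ) ≠ 0)) h2.symm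
  have hdim : ∀ l : {l : F // l ≠ 0}, Module.finrank ℂ (E 1) ≤ Module.finrank ℂ (E l.1) := by
    rintro ⟨l, hl⟩
    obtain ⟨t, ht⟩ := exists_lam_eq h (inv_ne_zero hl)
    have hmem : ∀ w ∈ E 1, ρ (dE h t) w ∈ E l := by
      intro w hw b
      have e1 : uE h 0 b * dE h t = dE h t * uE h 0 (l * b) := by
        rw [dE_mul_uE, mul_zero]
        congr 2
        show b = lam m t * (l * b)
        rw [ht, inv_mul_cancel_left₀ hl]
      show ρ (uE h 0 b) (ρ (dE h t) w) = _
      rw [← Module.End.mul_apply, ← map_mul, e1, map_mul, Module.End.mul_apply]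
      have e2 := hw (l * b)
      rw [one_mul] at e2
      change ρ (dE h t) (z (l * b) w) = _
      rw [e2, map_smul]
    refine LinearMap.finrank_le_finrank_of_injective (f := (ρ (dE h t)).restrict hmem) ?_
    intro x y e
    apply Subtype.ext
    have e3 : ρ (dE h t) x = ρ (dE h t) y := congrArg Subtype.val e
    have e4 := congrArg (ρ (dE h t)⁻¹) e3
    simpa [← Module.End.mul_apply, ← map_mul] using e4
  -- operators on one eigenspace
  have hinv : ∀ a : F, ∀ w ∈ E 1, ρ (uE h a 0) w ∈ E 1 := by
    intro a w hw b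
    have e1 : uE h 0 b * uE h a 0 = uE h a 0 * uE h 0 b := by rw [uE_mul, uE_mul]; simp
    show ρ (uE h 0 b) (ρ (uE h a 0) w) = _
    rw [← Module.End.mul_apply, ← map_mul, e1, map_mul, Module.End.mul_apply]
    change ρ (uE h a 0) (z b w) = _
    rw [hw b, map_smul]
  let π : F → Module.End ℂ (E 1) := fun a => (ρ (uE h a 0)).restrict (hinv a)
  have πmul : ∀ a a', π a * π a' = c (sg m a * a') • π (a + a') := by
    intro a a'
    refine LinearMap.ext fun w => Subtype.ext ?_
    show ρ (uE h a 0) (ρ (uE h a' 0) (w : V)) = c (sg m a * a') • ρ (uE h (a + a') 0) (w : V)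
    have e1 : uE h a 0 * uE h a' 0 = uE h (a + a') 0 * uE h 0 (sg m a * a') := by
      rw [uE_mul, uE_mul]; simp
    rw [← Module.End.mul_apply, ← map_mul, e1, map_mul, Module.End.mul_apply]
    change ρ (uE h (a + a') 0) (z (sg m a * a') w) = _
    rw [w.2 _, one_mul, map_smul]
  have π0 : π 0 = 1 := by
    refine LinearMap.ext fun w => Subtype.ext ?_
    show ρ (uE h 0 0) (w : V) = w
    rw [uE_zero, map_one, Module.End.one_apply]
  set d := Module.finrank ℂ (E 1) with hd
  have hd0 : 0 < d :=
    Module.finrank_pos_iff_exists_ne_zero.2 ⟨⟨v, fun b => by rw [one_mul]; exact hcv b⟩,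
      fun e => hv0 (congrArg Subtype.val e)⟩
  have htrace : ∀ a e : F, c (sg m a * e + sg m e * a) ≠ 1 →
      LinearMap.trace ℂ (E 1) (π a) = 0 := by
    intro a e hne
    have hm1 : c (sg m a * e) * c (sg m e * a) = -1 := by
      rw [← hcmul]; exact (hsign _).resolve_left hne
    have hanti : π a * π e = (-1 : ℂ) • (π e * π a) := by
      rw [πmul, πmul, smul_smul, add_comm e a]
      congr 1
      rcases hsign (sg m e * a) with e1 | e1 <;> rcases hsign (sg m a * e) with e2 | e2 <;>
        rw [e1, e2] at hm1 <;> norm_num at hm1 <;> norm_num [e1, e2]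
    have hee : π e * π e = c (sg m e * e) • 1 := by
      rw [πmul, show e + e = 0 by linear_combination e * h.two_eq_zero, π0]
    have h1 : LinearMap.trace ℂ (E 1) (π a * π e * π e) =
        c (sg m e * e) * LinearMap.trace ℂ (E 1) (π a) := by
      rw [mul_assoc, hee, mul_smul_comm, mul_one, map_smul, smul_eq_mul]
    have h2 : LinearMap.trace ℂ (E 1) (π a * π e * π e) =
        - LinearMap.trace ℂ (E 1) (π a * π e * π e) := by
      conv_lhs => rw [hanti, smul_mul_assoc, map_smul, mul_assoc, LinearMap.trace_mul_comm]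
      simp [mul_assoc]
    have h3 : LinearMap.trace ℂ (E 1) (π a * π e * π e) = 0 := by linear_combination (1 / 2 : ℂ) * h2
    rw [h3] at h1
    rcases mul_eq_zero.1 h1.symm with e' | e'
    · rcases hsign (sg m e * e) with e'' | e'' <;> rw [e''] at e' <;> norm_num at e'
    · exact e'
  let R : AddSubgroup F :=
    { carrier := {a | ∀ e, c (sg m a * e + sg m e * a) = 1}
      zero_mem' := fun e => by simp [hc0]
      add_mem' := fun {a a'} ha ha' e => by
        rw [show sg m (a + a') * e + sg m e * (a + a') =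
          (sg m a * e + sg m e * a) + (sg m a' * e + sg m e * a') by rw [h.sg_add]; ring, hcmul,
          ha e, ha' e, one_mul]
      neg_mem' := fun {a} ha => by
        have := h.charP
        simpa [CharTwo.neg_eq] using ha }
  have hR : Nat.card R ≤ 2 := by
    obtain ⟨a₁, ha₁⟩ : ∃ a₁, (R : Set F) ⊆ {0, a₁} := by
      by_cases hex : ∃ a ∈ R, a ≠ 0
      · obtain ⟨a, ha, ha0⟩ := hex
        refine ⟨a, fun x hx => ?_⟩
        by_cases hx0 : x = 0
        · exact Or.inl hx0
        · exact Or.inr (radical_unique h hcmul hsign hcb₀ hx0 ha0 hx ha)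
      · exact ⟨0, fun x hx => Or.inl (by by_contra h0; exact hex ⟨x, hx, h0⟩)⟩
    exact (le_of_eq (Nat.card_coe_set_eq _)).trans
      ((Set.ncard_le_ncard ha₁ (Set.toFinite _)).trans
        ((Set.ncard_insert_le _ _).trans (by rw [Set.ncard_singleton])))
  let : Fintype (F ⧸ R) := Fintype.ofFinite _
  have hli : LinearIndependent ℂ (fun x : F ⧸ R => π x.out) := by
    rw [Fintype.linearIndependent_iff]
    intro g hg i
    have h1 := congrArg (fun f => LinearMap.trace ℂ (E 1) (π i.out * f)) hg
    simp only [Finset.mul_sum, mul_smul_comm, map_sum, map_smul, mul_zero, map_zero, πmul,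
      smul_eq_mul] at h1
    rw [Finset.sum_eq_single i] at h1
    · rw [show i.out + i.out = 0 by linear_combination i.out * h.two_eq_zero, π0,
        LinearMap.trace_one] at h1
      rcases mul_eq_zero.1 h1 with e | e
      · exact e
      rcases mul_eq_zero.1 e with e | e
      · rcases hsign (sg m i.out * i.out) with e' | e' <;> rw [e'] at e <;> norm_num at e
      · exact absurd (Nat.cast_eq_zero.1 e) hd0.ne'
    · intro j _ hj
      have hnot : i.out + j.out ∉ R := by
        intro hmem
        apply hj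
        rw [← Quotient.out_eq j, ← Quotient.out_eq i]
        refine QuotientAddGroup.eq.2 ?_
        have := h.charP
        rwa [CharTwo.neg_eq, add_comm]
      have hnot' : ¬ ∀ e, c (sg m (i.out + j.out) * e + sg m e * (i.out + j.out)) = 1 := hnot
      obtain ⟨e, he⟩ := not_forall.1 hnot'
      rw [htrace _ e he, mul_zero, mul_zero]
    · intro hi; exact absurd (Finset.mem_univ i) hi
  have hcardle : Fintype.card (F ⧸ R) ≤ d * d := by
    have := hli.fintype_card_le_finrank
    rwa [Module.finrank_linearMap] at this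
  have hq2 : 2 ^ (2 * m + 1) ≤ 2 * (d * d) := by
    rw [← h.card, R.card_eq_card_quotient_mul_card_addSubgroup, mul_comm 2, Nat.card_eq_fintype_card]
    exact Nat.mul_le_mul hcardle hR
  have hdm : 2 ^ m ≤ d := by
    by_contra hlt
    have : d * d < 2 ^ m * 2 ^ m := Nat.mul_lt_mul_of_lt_of_lt (not_le.1 hlt) (not_le.1 hlt)
    rw [← pow_add, ← two_mul] at this
    rw [pow_succ] at hq2
    omega
  have hnum : Fintype.card {l : F // l ≠ 0} = Nat.card F - 1 := by
    rw [Nat.card_eq_fintype_card, Fintype.card_subtype_compl, Fintype.card_subtype_eq]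
  have hpi := LinearMap.finrank_le_finrank_of_injective hLinj
  rw [Module.finrank_pi_fintype] at hpi
  refine le_trans ?_ hpi
  calc 2 ^ m * (Nat.card F - 1) ≤ d * (Nat.card F - 1) := Nat.mul_le_mul_right _ hdm
    _ = ∑ _l : {l : F // l ≠ 0}, d := by
        rw [Finset.sum_const, Finset.card_univ, hnum, smul_eq_mul, mul_comm]
    _ ≤ _ := Finset.sum_le_sum fun l _ => hdim l

end CfsgLib.Suzuki
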